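import Mathlib
import Cfsg.Agent.ORD.BigDeg
import Cfsg.Agent.SOLV.Schmidt
import Cfsg.Agent.CHAR.RelMonomial

/-!
# Groups with three character degrees (Isaacs 12.15)
-/

set_option autoImplicit false
set_option linter.unusedSectionVars false
open Cfsg CL.Char
open scoped ComplexConjugate commutatorElement

namespace CL.Ord

universe u
variable {G : Type*} [Group G]

theorem characteristic_of_coprime [Finite G] (A : Subgroup G) [A.Normal]
    (h : (Nat.card A).Coprime A.index) : A.Characteristic := by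
  rw [Subgroup.characteristic_iff_le_comap]
  intro e x hx
  rw [Subgroup.mem_comap, ← QuotientGroup.eq_one_iff, ← orderOf_eq_one_iff]
  refine Nat.eq_one_of_dvd_coprimes h ?_ (A.index_eq_card ▸ orderOf_dvd_natCard _)
  refine (orderOf_map_dvd ((QuotientGroup.mk' A).comp e.toMonoidHom) x).trans ?_
  exact Subgroup.orderOf_dvd_natCard A hx

theorem isNilpotent_quot_of_comap_le {H : Type*} [Group H] (f : H →* G) {N : Subgroup G} [N.Normal]
    {L : Subgroup H} [L.Normal] (h : N.comap f ≤ L) (hs : Group.IsNilpotent (G ⧸ N)) :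
    Group.IsNilpotent (H ⧸ L) := by
  obtain ⟨φ, hφ⟩ : ∃ φ : H →* G ⧸ N, φ = (QuotientGroup.mk' N).comp f := ⟨_, rfl⟩
  have hk : φ.ker ≤ L := by
    rwa [hφ, ← MonoidHom.comap_ker, QuotientGroup.ker_mk']
  have h1 : Group.IsNilpotent (H ⧸ φ.ker) :=
    Group.nilpotent_of_mulEquiv (QuotientGroup.quotientKerEquivRange φ).symm
  refine Group.nilpotent_of_surjective (QuotientGroup.map φ.ker L (MonoidHom.id H) hk) fun y => ?_
  obtain ⟨x, rfl⟩ := QuotientGroup.mk_surjective y
  exact ⟨x, rfl⟩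

theorem one_eq_one_of_quasiprim_of_quot [Finite G] {χ : G → ℂ} (hχ : IsIrrCharacter G χ)
    [(charCenter χ).Normal] (hnil : Group.IsNilpotent (G ⧸ charCenter χ))
    (h : ∀ M : Subgroup G, M.Normal → IsHomog M χ) : χ 1 = 1 := by
  rw [← hχ.charCenter_eq_top_iff]
  by_contra hne
  have hnt : Nontrivial (G ⧸ charCenter χ) := QuotientGroup.nontrivial_iff.mpr hne
  have h1 := CL.inf_center_ne_bot_of_isNilpotent (⊤ : Subgroup (G ⧸ charCenter χ)) top_ne_bot
  rw [top_inf_eq] at h1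
  obtain ⟨⟨y, hy⟩, hy1⟩ := Subgroup.ne_bot_iff_exists_ne_one.mp h1
  obtain ⟨x, rfl⟩ := QuotientGroup.mk'_surjective (charCenter χ) y
  have hx : x ∉ charCenter χ := by
    intro hx
    apply hy1
    ext
    simpa using hx
  have hn : (charCenter χ ⊔ Subgroup.zpowers x).Normal := by
    rw [sup_comm, ← CL.comap_map_mk', MonoidHom.map_zpowers]
    refine Subgroup.Normal.comap (CL.normal_of_le_center ?_) _
    rwa [Subgroup.zpowers_le]
  refine hx (le_charCenter_of_homog_sup hχ.isCharacter ?_ (h _ hn) (Subgroup.mem_zpowers x))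
  rintro _ ⟨i, rfl⟩ _ ⟨j, rfl⟩
  have : ⁅x ^ i, x ^ j⁆ = 1 :=
    commutatorElement_eq_one_iff_commute.mpr (Commute.zpow_zpow_self x i j)
  simp only [this]
  exact one_mem _

theorem exists_monomial_of_abelian_of_nilpotent [Fintype G] (A : Subgroup G) [A.Normal]
    (hA : ∀ a ∈ A, ∀ b ∈ A, a * b = b * a) (hnil : Group.IsNilpotent (G ⧸ A)) {χ : G → ℂ}
    (hχ : IsIrrCharacter G χ) :
    ∃ (H : Subgroup G) (lam : H →* ℂˣ), χ = indFun H (fun h => (lam h : ℂ)) := by
  obtain ⟨H, ψ, hψ, hind, hq⟩ := exists_ind_quasiprim hχ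
  have := hψ.charCenter_normal
  have h1 : A.subgroupOf H ≤ charCenter ψ :=
    (hq _ inferInstance).le_charCenter hψ.isCharacter (by
      rw [Subgroup.commutator_le]
      intro a ha b hb
      rw [commutatorElement_eq_one_iff_mul_comm.mpr (Subtype.ext (hA _ ha _ hb))]
      exact one_mem _)
  obtain ⟨lam, rfl⟩ := hψ.isCharacter.exists_hom (one_eq_one_of_quasiprim_of_quot hψ
    (isNilpotent_quot_of_comap_le H.subtype h1 hnil) hq)
  exact ⟨H, lam, hind.symm⟩

/-- Taketa's theorem with the number of degrees. -/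
theorem derivedSeries_le_charKer_of_ncard [Fintype G]
    (hM : ∀ χ : G → ℂ, IsIrrCharacter G χ →
      ∃ (H : Subgroup G) (lam : H →* ℂˣ), χ = indFun H (fun h => (lam h : ℂ))) (k : ℕ) :
    ∀ χ : G → ℂ, IsIrrCharacter G χ → {d ∈ charDegrees G | d ≤ charDegree χ}.ncard ≤ k →
      derivedSeries G k ≤ charKer χ := by
  have hfin : ∀ n, {d ∈ charDegrees G | d ≤ n}.Finite := fun n =>
    (finite_charDegrees G).subset fun _ h => h.1
  induction k with
  | zero =>
    intro χ hχ h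
    rw [Nat.le_zero, Set.ncard_eq_zero (hfin _)] at h
    exact absurd h (Set.Nonempty.ne_empty ⟨_, mem_charDegrees hχ, le_rfl⟩)
  | succ k ih =>
    intro χ hχ h
    obtain ⟨H, lam, rfl⟩ := hM χ hχ
    refine taketa_step lam fun ψ hψ hlt => ih ψ hψ ?_
    have h1 := mem_charDegrees hχ
    rw [charDegree_indFun _ (isIrrCharacter_hom lam).isCharacter, charDegree_hom, mul_one] at h h1
    refine Nat.le_of_lt_succ (lt_of_lt_of_le (Set.ncard_lt_ncard (Set.ssubset_def ▸
      And.intro (fun d hd => ⟨hd.1, hd.2.trans hlt.le⟩) fun hc => ?_) (hfin _)) h)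
    have h2 : H.index ∈ {d ∈ charDegrees G | d ≤ H.index} := ⟨h1, le_rfl⟩
    exact absurd (hc h2).2 (not_le.mpr hlt)

theorem eq_bot_of_forall_le_charKer [Finite G] {N : Subgroup G}
    (h : ∀ χ, IsIrrCharacter G χ → N ≤ charKer χ) : N = ⊥ := by
  rw [eq_bot_iff, ← iInf_charKer G]
  exact le_iInf fun χ => h _ χ.2

theorem derivedSeries_eq_bot_of_monomial [Fintype G]
    (hM : ∀ χ : G → ℂ, IsIrrCharacter G χ →
      ∃ (H : Subgroup G) (lam : H →* ℂˣ), χ = indFun H (fun h => (lam h : ℂ))) {k : ℕ}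
    (h : (charDegrees G).ncard ≤ k) : derivedSeries G k = ⊥ :=
  eq_bot_of_forall_le_charKer fun χ hχ => derivedSeries_le_charKer_of_ncard hM k χ hχ
    ((Set.ncard_le_ncard (fun _ h => h.1) (finite_charDegrees G)).trans h)

theorem exists_charDegree_eq_mul [Finite G] {N : Subgroup G} [N.Normal] [Fintype N] {χ : G → ℂ}
    (hχ : IsIrrCharacter G χ) {θ : N → ℂ} (hθ : IsIrrCharacter N θ)
    (hne : classInner (fun n : N => χ n) θ ≠ 0) :
    ∃ k : ℕ, charDegree χ = k * charDegree θ ∧ k ∣ N.index := by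
  obtain ⟨k, h1, h2⟩ := exists_degree_eq_mul_dvd_index hχ hθ hne
  rw [hχ.apply_one_eq_charDegree, hθ.apply_one_eq_charDegree] at h1
  exact ⟨k, by exact_mod_cast h1, h2⟩

theorem commutator_le_charKer_of_linear_under [Finite G] {N : Subgroup G} [N.Normal] [Fintype N]
    {χ : G → ℂ} (hχ : IsIrrCharacter G χ) {θ : N → ℂ} (hθ : IsIrrCharacter N θ)
    (hne : classInner (fun n : N => χ n) θ ≠ 0) (h1 : charDegree θ = 1) :
    ⁅N, N⁆ ≤ charKer χ := by
  have h2 : commutator N ≤ charKer (fun n : N => χ n) := fun x hx =>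
    (hχ.isCharacter.res N).mem_charKer_iff_constituents.mpr fun φ hφ h => by
      obtain ⟨g, rfl⟩ := mem_conjugates.mp (mem_conjugates_of_under hχ hθ hφ hne h)
      refine hφ.commutator_le_charKer_iff.mpr ?_ hx
      rw [conjN_apply_one, hθ.apply_one_eq_charDegree, h1, Nat.cast_one]
  rw [hχ.isCharacter.charKer_res] at h2
  rw [← Subgroup.map_subtype_commutator]
  exact Subgroup.map_le_iff_le_comap.mpr h2

theorem degree_eq_of_split [Fintype G] {a : G → ℂ} (ha : IsCharacter G a) {m n : ℕ} (hmn : m ≠ n)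
    (h : ∀ ξ, IsIrrCharacter G ξ → classInner a ξ ≠ 0 → charDegree ξ = m ∨ charDegree ξ = n) :
    ∃ b c : ℕ, charDegree a = b * m + c * n ∧
      (∀ ξ, IsIrrCharacter G ξ → classInner a ξ ≠ 0 → charDegree ξ = m → 0 < b) ∧
      ∀ ξ, IsIrrCharacter G ξ → classInner a ξ ≠ 0 → charDegree ξ = n → 0 < c := by
  classical
  obtain ⟨k, hk, hs⟩ := ha.exists_nat_coeffs
  refine ⟨∑ ξ : IrrCharacter G, if charDegree (ξ : G → ℂ) = m then k ξ else 0,
    ∑ ξ : IrrCharacter G, if charDegree (ξ : G → ℂ) = n then k ξ else 0, ?_, ?_, ?_⟩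
  · refine charDegree_eq_of_apply_one ?_
    rw [Finset.sum_mul, Finset.sum_mul, ← Finset.sum_add_distrib, hs, Finset.sum_apply,
      Nat.cast_sum]
    refine Finset.sum_congr rfl fun ξ _ => ?_
    rw [Pi.smul_apply, smul_eq_mul, ξ.2.apply_one_eq_charDegree]
    by_cases h0 : k ξ = 0
    · simp [h0]
    rcases h ξ ξ.2 (by rw [hk]; exact_mod_cast h0) with h1 | h1
    · simp [h1, hmn]
    · simp [h1, hmn.symm]
  · intro ξ hξ h0 h1
    refine lt_of_lt_of_le ?_ (Finset.single_le_sum (fun _ _ => Nat.zero_le _)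
      (Finset.mem_univ (⟨ξ, hξ⟩ : IrrCharacter G)))
    rw [if_pos h1]
    exact Nat.pos_of_ne_zero fun e => h0 (by rw [hk ⟨ξ, hξ⟩, e, Nat.cast_zero])
  · intro ξ hξ h0 h1
    refine lt_of_lt_of_le ?_ (Finset.single_le_sum (fun _ _ => Nat.zero_le _)
      (Finset.mem_univ (⟨ξ, hξ⟩ : IrrCharacter G)))
    rw [if_pos h1]
    exact Nat.pos_of_ne_zero fun e => h0 (by rw [hk ⟨ξ, hξ⟩, e, Nat.cast_zero])

theorem charDegree_conj {χ : G → ℂ} (h : IsCharacter G χ) :
    charDegree (fun g => conj (χ g)) = charDegree χ := charDegree_congr h.conj_one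

theorem inner_mul_ne_zero_comm [Fintype G] {χ ξ ψ : G → ℂ} (h : classInner (χ * ξ) ψ ≠ 0) :
    classInner ((fun g => conj (χ g)) * ψ) ξ ≠ 0 := by
  rw [mul_comm, classInner_mul_left] at h
  exact fun e => h (classInner_eq_zero_comm.mp e)

theorem eq_of_inner_mul_linear [Fintype G] {χ ξ lam : G → ℂ} (hχ : IsIrrCharacter G χ)
    (hξ : IsIrrCharacter G ξ) (hl : IsIrrCharacter G lam) (h1 : charDegree lam = 1)
    (h : classInner (χ * ξ) lam ≠ 0) : (fun g => conj (χ g)) * lam = ξ :=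
  (hχ.conj.mul_linear hl.isCharacter (hl.isCharacter.charDegree_eq_one_iff.mp h1)).eq_of_inner_ne_zero
    hξ (inner_mul_ne_zero_comm h)

theorem MinNab.false_of_coprime_degrees {H : Type*} [Group H] [Finite H] (hH : MinNab H)
    {m n : ℕ} (hcop : m.Coprime n) (h1m : 1 < m) (hmn : m < n)
    (hcd : ∀ χ, IsIrrCharacter H χ → charDegree χ = 1 ∨ charDegree χ = m ∨ charDegree χ = n)
    {χ ψ : H → ℂ} (hχ : IsIrrCharacter H χ) (hχm : charDegree χ = m) (hψ : IsIrrCharacter H ψ)
    (hψn : charDegree ψ = n) : False := by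
  classical
  have := Fintype.ofFinite H
  have := Fintype.ofFinite (commutator H)
  have step0 : ∀ χ ξ ψ : H → ℂ, IsIrrCharacter H χ → charDegree χ = m → IsIrrCharacter H ξ →
      charDegree ξ = m → IsIrrCharacter H ψ → charDegree ψ = n → classInner (χ * ξ) ψ ≠ 0 →
      ∀ g ∈ commutator H, ξ g = conj (χ g) := by
    intro χ ξ ψ hχ hχm hξ hξm hψ hψn h g hg
    by_cases hl : ∃ lam, IsIrrCharacter H lam ∧ charDegree lam = 1 ∧ classInner (χ * ξ) lam ≠ 0
    · obtain ⟨lam, hl, hl1, hl2⟩ := hl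
      have h1 := hl.isCharacter.charDegree_eq_one_iff.mp hl1
      rw [← eq_of_inner_mul_linear hχ hξ hl hl1 hl2, Pi.mul_apply,
        hl.one_eq_one_iff_commutator.mp h1 g hg, h1, mul_one]
    push Not at hl
    obtain ⟨b, c, h1, -, h2⟩ := degree_eq_of_split (hχ.isCharacter.mul hξ.isCharacter) hmn.ne
      fun φ hφ h0 => (hcd φ hφ).resolve_left fun e => h0 (hl φ hφ e)
    rw [charDegree_mul hχ.isCharacter hξ.isCharacter, hχm, hξm] at h1
    have h3 : m ∣ c := hcop.dvd_of_dvd_mul_right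
      ((Nat.dvd_add_right (Dvd.intro_left b rfl)).mp (h1 ▸ Dvd.intro m rfl))
    have h4 := Nat.le_of_dvd (h2 ψ hψ h hψn) h3
    nlinarith
  have step1 : ∀ χ ξ ψ : H → ℂ, IsIrrCharacter H χ → charDegree χ = m → IsIrrCharacter H ξ →
      charDegree ξ ≠ n → IsIrrCharacter H ψ → charDegree ψ = n → classInner (χ * ξ) ψ = 0 := by
    intro χ ξ ψ hχ hχm hξ hξn hψ hψn
    by_contra h
    have hlin : ∀ lam, IsIrrCharacter H lam → charDegree lam = 1 → classInner (χ * lam) ψ = 0 := by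
      intro lam hl hl1
      by_contra h0
      have h1 := (hχ.mul_linear hl.isCharacter
        (hl.isCharacter.charDegree_eq_one_iff.mp hl1)).eq_of_inner_ne_zero hψ h0
      rw [← h1, charDegree_mul hχ.isCharacter hl.isCharacter] at hψn
      rw [hl1, hχm] at hψn
      omega
    have hξm : charDegree ξ = m := by
      rcases hcd ξ hξ with h1 | h1 | h1
      · exact absurd (hlin ξ hξ h1) h
      · exact h1
      · exact absurd h1 hξn
    have ha := hχ.isCharacter.conj.mul hψ.isCharacter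
    have hback : ∀ φ : H → ℂ, classInner ((fun g => conj (χ g)) * ψ) φ ≠ 0 →
        classInner (χ * φ) ψ ≠ 0 := fun φ h0 => by
      have := inner_mul_ne_zero_comm h0
      simpa only [RCLike.conj_conj] using this
    obtain ⟨b, c, h1, h2, h3⟩ := degree_eq_of_split ha hmn.ne
      fun φ hφ h0 => (hcd φ hφ).resolve_left fun e => hback φ h0 (hlin φ hφ e)
    rw [charDegree_mul hχ.isCharacter.conj hψ.isCharacter, charDegree_conj hχ.isCharacter, hχm,
      hψn] at h1
    have h4 : n ∣ b := hcop.symm.dvd_of_dvd_mul_right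
      ((Nat.dvd_add_left (Dvd.intro_left c rfl)).mp (h1 ▸ Dvd.intro_left m rfl))
    have h5 := Nat.le_of_dvd (h2 ξ hξ (inner_mul_ne_zero_comm h) hξm) h4
    have h6 : c = 0 := by
      by_contra h7
      have := Nat.pos_of_ne_zero h7
      nlinarith
    have h7 : ∀ g ∈ commutator H, conj (χ g) * ψ g =
        (∑ φ : IrrCharacter H, classInner ((fun g => conj (χ g)) * ψ) φ) * conj (χ g) := by
      intro g hg
      rw [Finset.sum_mul]
      refine (ha.isClassFunction.apply_eq_sum g).trans (Finset.sum_congr rfl fun φ _ => ?_)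
      by_cases h0 : classInner ((fun g => conj (χ g)) * ψ) φ = 0
      · rw [h0, zero_mul, zero_mul]
      rw [step0 χ φ ψ hχ hχm φ.2 ?_ hψ hψn (hback φ h0) g hg]
      rcases hcd φ φ.2 with h8 | h8 | h8
      · exact absurd (hlin φ φ.2 h8) (hback φ h0)
      · exact h8
      · exact absurd (h3 φ φ.2 h0 h8) (by omega)
    have h8 : ∀ g ∈ commutator H, g ≠ 1 → χ g = 0 := by
      intro g hg hg1
      by_contra h0
      have h9 := h7 g hg
      have h10 := h7 1 (one_mem _)
      rw [mul_comm] at h9 h10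
      have h11 := (mul_right_cancel₀ (by simpa using h0) h9).trans
        (mul_right_cancel₀ (by simpa using hχ.one_ne_zero) h10).symm
      rw [← hψ.mem_charKer, hH.charKer_eq_bot hψ (by omega)] at h11
      exact hg1 h11
    have h9 := hχ.sum_normal_eq_zero (commutator H) fun hk =>
      absurd (hχ.isCharacter.charDegree_eq_one_iff.mpr (hχ.one_eq_one_of_commutator hk)) (by omega)
    rw [Finset.sum_eq_single (1 : commutator H)
      (fun g _ hg => h8 g g.2 fun e => hg (Subtype.ext e)) (by simp)] at h9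
    exact hχ.one_ne_zero h9
  obtain ⟨c, hc⟩ : ∃ c : IrrCharacter H → ℂ,
    c = fun ξ : IrrCharacter H => if charDegree (ξ : H → ℂ) = n then 0 else (ξ : H → ℂ) 1 := ⟨_, rfl⟩
  obtain ⟨R, hR⟩ : ∃ R : H → ℂ, R = ∑ ξ : IrrCharacter H, c ξ • (ξ : H → ℂ) := ⟨_, rfl⟩
  have hRc : IsClassFunction H R := hR ▸ isClassFunction_sum_irr c
  have hin : ∀ φ : IrrCharacter H, classInner R φ = c φ := fun φ => hR ▸ classInner_sum_irr c φ
  have hexp : ∀ (d : IrrCharacter H → ℂ) (φ : H → ℂ),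
      classInner (χ * ∑ ξ : IrrCharacter H, d ξ • (ξ : H → ℂ)) φ =
      ∑ ξ : IrrCharacter H, d ξ * classInner (χ * (ξ : H → ℂ)) φ := fun d φ => by
    rw [Finset.mul_sum, classInner_sum_left]
    exact Finset.sum_congr rfl fun ξ _ => by rw [mul_smul_comm, classInner_smul_left]
  have hreg : χ * ∑ ξ : IrrCharacter H, (ξ : H → ℂ) 1 • (ξ : H → ℂ) =
      χ 1 • ∑ ξ : IrrCharacter H, (ξ : H → ℂ) 1 • (ξ : H → ℂ) := by
    ext g
    simp only [Pi.mul_apply, Pi.smul_apply, Finset.sum_apply, smul_eq_mul, sum_degree_mul]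
    split_ifs with hg
    · rw [hg]
    · simp
  have hmul : χ * R = χ 1 • R := by
    refine (hχ.isClassFunction.mul hRc).ext_inner (hRc.smul _) fun φ hφ => ?_
    rw [classInner_smul_left, hin ⟨φ, hφ⟩, hR, hexp]
    by_cases hφn : charDegree φ = n
    · rw [hc]
      simp only [hφn, if_true, mul_zero]
      refine Finset.sum_eq_zero fun ξ _ => ?_
      split_ifs with hξ
      · rw [zero_mul]
      · rw [step1 χ ξ φ hχ hχm ξ.2 hξ hφ hφn, mul_zero]
    · have h1 := hexp (fun ξ => (ξ : H → ℂ) 1) φ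
      rw [hreg, classInner_smul_left, classInner_sum_irr (fun ξ => (ξ : H → ℂ) 1) ⟨φ, hφ⟩] at h1
      rw [hc]
      simp only [hφn, if_false]
      rw [h1]
      refine Finset.sum_congr rfl fun ξ _ => ?_
      split_ifs with hξ
      · rw [zero_mul, eq_comm, mul_eq_zero]
        right
        by_contra h0
        exact inner_mul_ne_zero_comm h0 (step1 _ φ ξ hχ.conj
          (by rw [charDegree_conj hχ.isCharacter, hχm]) hφ hφn ξ.2 hξ)
      · rfl
  have hR0 : ∀ g, g ≠ 1 → R g = 0 := by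
    intro g hg
    by_contra h0
    have h1 := mul_right_cancel₀ h0 (congrFun hmul g)
    rw [← hχ.mem_charKer, hH.charKer_eq_bot hχ (by omega)] at h1
    exact hg h1
  have hval : ∀ φ : H → ℂ, classInner R φ = (Nat.card H : ℂ)⁻¹ * (R 1 * conj (φ 1)) := fun φ => by
    rw [classInner_def, Finset.sum_eq_single 1 (fun g _ hg => by rw [hR0 g hg, zero_mul]) (by simp)]
  have h1 := hin ⟨ψ, hψ⟩
  have h2 := hin (irrOne H)
  rw [hval, hc] at h1 h2
  simp only [hψn, if_true, mul_eq_zero, inv_eq_zero, card_ne_zero, map_eq_zero, hψ.one_ne_zero,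
    false_or, or_false] at h1
  rw [h1] at h2
  simp only [irrOne_coe, charDegree_const_one] at h2
  rw [if_neg (by omega)] at h2
  simp at h2

theorem map_commutator_eq {H : Type*} [Group H] (f : G →* H) (hf : Function.Surjective f) :
    (commutator G).map f = commutator H := by
  rw [commutator_def, commutator_def, Subgroup.map_commutator,
    Subgroup.map_top_of_surjective _ hf]

theorem commutator_commutator_eq_bot_of_two [Finite G] {m : ℕ}
    (hcd : ∀ χ, IsIrrCharacter G χ → charDegree χ = 1 ∨ charDegree χ = m) :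
    ⁅commutator G, commutator G⁆ = ⊥ := by
  rw [eq_bot_iff, Subgroup.commutator_le]
  exact fun a ha b hb => commutatorElement_eq_one_iff_mul_comm.mpr
    (two_degrees_commutator_comm hcd a ha b hb)

theorem commutator_commutator_le_of_two [Finite G] {m : ℕ} (W : Subgroup G) [W.Normal]
    (hcd : ∀ χ, IsIrrCharacter G χ → W ≤ charKer χ → charDegree χ = 1 ∨ charDegree χ = m) :
    ⁅commutator G, commutator G⁆ ≤ W := by
  have h := commutator_commutator_eq_bot_of_two (G := G ⧸ W) (m := m) fun χ hχ => by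
    have := hcd _ hχ.infl (hχ.infl.isCharacter.le_charKer_iff.mpr fun n hn =>
      infl_apply_of_mem W χ hn)
    rwa [show charDegree (fun g : G => χ g) = charDegree χ from
      charDegree_comp χ (QuotientGroup.mk' W)] at this
  rwa [← map_commutator_eq _ (QuotientGroup.mk'_surjective W), ← Subgroup.map_commutator,
    Subgroup.map_eq_bot_iff, QuotientGroup.ker_mk'] at h

theorem subgroup_commutator_eq_bot_of_two [Finite G] {m : ℕ} {N : Subgroup G}
    (hcd : ∀ χ, IsIrrCharacter N χ → charDegree χ = 1 ∨ charDegree χ = m) :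
    ⁅⁅N, N⁆, ⁅N, N⁆⁆ = ⊥ := by
  rw [← Subgroup.map_subtype_commutator N, ← Subgroup.map_commutator,
    commutator_commutator_eq_bot_of_two hcd, Subgroup.map_bot]

theorem exists_degree_pow_of_nilpotent [Finite G] [hn : Group.IsNilpotent G] {p : ℕ} (hp : p.Prime)
    (h : ∀ χ, IsIrrCharacter G χ → charDegree χ ≠ 1 → p ∣ charDegree χ) {χ : G → ℂ}
    (hχ : IsIrrCharacter G χ) : ∃ j, charDegree χ = p ^ j := by
  have : Fact p.Prime := ⟨hp⟩
  obtain ⟨P⟩ : Nonempty (Sylow p G) := inferInstance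
  have hP := CL.isNilpotent_iff_sylow_normal.mp hn p this P
  have h1 : commutator G ≤ P := commutator_le_of_forall_ker fun β hβ hk => by
    by_contra hc
    exact P.not_dvd_index ((h β hβ hc).trans (hβ.charDegree_dvd_index_of_le
      ((hβ.isCharacter.le_charKer_iff.mpr hk).trans (charKer_le_charCenter β))))
  have h2 := (CL.hasNPC_iff_sylow_inf_pResidual P).mp CL.hasNPC_of_isNilpotent
  obtain ⟨k, hk⟩ := CL.exists_pResidual_index (G := G) (p := p)
  have h3 := hχ.charDegree_dvd_index_of_abelian (pResidual p G) fun a ha b hb => by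
    rw [← commutatorElement_eq_one_iff_mul_comm, ← Subgroup.mem_bot, ← h2]
    exact ⟨h1 (Subgroup.commutator_mem_commutator (Subgroup.mem_top _) (Subgroup.mem_top _)),
      Subgroup.commutator_le_left (pResidual p G) (pResidual p G)
        (Subgroup.commutator_mem_commutator ha hb)⟩
  obtain ⟨j, -, hj⟩ := (Nat.dvd_prime_pow hp).mp (hk ▸ h3)
  exact ⟨j, hj⟩

theorem commutator_commutator_le_of_nilpotent [Finite G] (A : Subgroup G) [A.Normal]
    (hnil : Group.IsNilpotent (G ⧸ A)) {p g : ℕ} (hp : p.Prime)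
    (h : ∀ χ, IsIrrCharacter G χ → charDegree χ ≠ 1 →
      p ∣ charDegree χ ∧ ∃ k, ¬ p ∣ k ∧ g = k * charDegree χ) :
    ⁅commutator G, commutator G⁆ ≤ ⁅A, (⊤ : Subgroup G)⁆ := by
  obtain ⟨W, hW⟩ : ∃ W, W = ⁅A, (⊤ : Subgroup G)⁆ := ⟨_, rfl⟩
  have hWn : W.Normal := hW ▸ inferInstance
  have hWA : W ≤ A := hW ▸ Subgroup.commutator_le_left _ _
  have hX : Group.IsNilpotent (G ⧸ W) := by
    refine Subgroup.isNilpotent_of_ker_le_center
      (QuotientGroup.map W A (MonoidHom.id G) hWA) fun x hx => ?_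
    obtain ⟨x, rfl⟩ := QuotientGroup.mk_surjective x
    have hxA : x ∈ A := (QuotientGroup.eq_one_iff x).mp hx
    rw [Subgroup.mem_center_iff]
    intro y
    obtain ⟨y, rfl⟩ := QuotientGroup.mk_surjective y
    rw [eq_comm, ← commutatorElement_eq_one_iff_mul_comm]
    change ⁅QuotientGroup.mk' W x, QuotientGroup.mk' W y⁆ = 1
    rw [← map_commutatorElement, QuotientGroup.mk'_apply, QuotientGroup.eq_one_iff, hW]
    exact Subgroup.commutator_mem_commutator hxA (Subgroup.mem_top _)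
  rw [← hW]
  refine commutator_commutator_le_of_two (m := p ^ g.factorization p) W fun χ hχ hk => ?_
  refine or_iff_not_imp_left.mpr fun h1 => ?_
  obtain ⟨-, k, hk1, hk2⟩ := h χ hχ h1
  obtain ⟨ψ, hψ, rfl⟩ := hχ.exists_quot W (hχ.isCharacter.le_charKer_iff.mp hk)
  have hd : ∀ φ : G ⧸ W → ℂ, charDegree (fun g : G => φ g) = charDegree φ := fun φ =>
    charDegree_comp φ (QuotientGroup.mk' W)
  obtain ⟨j, hj⟩ := exists_degree_pow_of_nilpotent hp (fun φ hφ h2 => by
    rw [← hd] at h2 ⊢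
    exact (h _ hφ.infl h2).1) hψ
  rw [hd] at hk2 ⊢
  rw [hk2, hj, Nat.factorization_mul (fun e : k = 0 => hk1 (e ▸ dvd_zero p)) (pow_ne_zero _ hp.ne_zero),
    Finsupp.add_apply, Nat.factorization_eq_zero_of_not_dvd hk1, hp.factorization_pow]
  simp

/-- If all characters over a linear `λ` of a normal subgroup of order prime to `g` have degree
`g`, they are monomial. -/
theorem exists_monomial_of_forall_over [Fintype G] {A : Subgroup G} [A.Normal] [Fintype A]
    {θ : A → ℂ} (hθ : IsIrrCharacter A θ) (h1 : charDegree θ = 1) {g : ℕ}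
    (hcop : (Nat.card A).Coprime g)
    (h : ∀ χ, IsIrrCharacter G χ → classInner (fun a : A => χ a) θ ≠ 0 → charDegree χ = g)
    {χ : G → ℂ} (hχ : IsIrrCharacter G χ) (hne : classInner (fun a : A => χ a) θ ≠ 0) :
    ∃ (H : Subgroup G) (lam : H →* ℂˣ), χ = indFun H (fun h => (lam h : ℂ)) := by
  obtain ⟨T, hT⟩ : ∃ T, inertia A θ = T := ⟨_, rfl⟩
  have hAT : A ≤ T := hT ▸ le_inertia hθ.isClassFunction
  obtain ⟨ψ, hψ, rfl, -⟩ := clifford_ind_surj hAT hθ hT.le hχ hne
  have h2 := h _ hχ hne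
  rw [charDegree_indFun _ hψ.isCharacter] at h2
  suffices hs : charDegree ψ = 1 by
    obtain ⟨lam, rfl⟩ := hψ.isCharacter.exists_hom (hψ.isCharacter.charDegree_eq_one_iff.mp hs)
    exact ⟨T, lam, rfl⟩
  by_contra hc
  obtain ⟨r, hr, hrd⟩ := Nat.exists_prime_and_dvd hc
  have : Fact r.Prime := ⟨hr⟩
  obtain ⟨R, hR⟩ := CL.MSS.exists_sylIn r T
  have hUT : A ⊔ R ≤ T := sup_le hAT hR.le
  have hrA : r.Coprime (Nat.card A) :=
    (Nat.Coprime.coprime_dvd_right (hrd.trans (Dvd.intro_left _ h2)) hcop).symm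
  obtain ⟨η, hη, hext⟩ := exists_ext_inertia_of_coprime hθ (hT ▸ hUT) le_sup_left (by
    obtain ⟨k, hk⟩ := IsPGroup.iff_card.mp hR.pgroup
    rw [Subgroup.relIndex_sup_left]
    exact Nat.Coprime.coprime_dvd_left (hk ▸ Subgroup.relIndex_dvd_card A R) (hrA.pow_left k))
  have := Fintype.ofFinite (A ⊔ R : Subgroup G)
  have h3 := CL.Blk.dvd_charDegree_of_forall hη.isCharacter.ind (m := g) fun φ hφ h0 => by
    rw [inner_ind_eq_inner_res hη.isCharacter hφ.isCharacter] at h0
    refine (h φ hφ ?_).symm.dvd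
    have h4 := inner_comp_ne_zero_of_constituent (Subgroup.inclusion le_sup_left)
      (hφ.isCharacter.res (A ⊔ R)) hη h0 hθ.isCharacter (by
        rw [show (fun x : A => η (Subgroup.inclusion le_sup_left x)) = θ from funext hext,
          hθ.inner_self]
        exact one_ne_zero)
    exact h4
  rw [charDegree_indFun _ hη.isCharacter, charDegree_congr (hext 1), h1, mul_one, ← h2,
    ← Subgroup.relIndex_mul_index hUT, mul_comm] at h3
  exact hR.not_dvd_relIndex (((Nat.mul_dvd_mul_iff_right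
    (Nat.pos_of_ne_zero T.index_ne_zero_of_finite)).mp ((mul_dvd_mul_right hrd _).trans h3)).trans
      (Subgroup.relIndex_dvd_of_le_left _ le_sup_right))

theorem three_degrees_frob [Finite G] {H : Type*} [Group H] (π : G →* H)
    (hπ : Function.Surjective π) {V : Subgroup H} [hVn : V.Normal] (hV0 : V ≠ ⊥)
    (hc : ∀ a ∈ V, ∀ b ∈ V, a * b = b * a) (hF : ∀ g ∉ V, ∀ k ∈ V, g * k = k * g → k = 1)
    {p : ℕ} (hp : p.Prime) (hVp : ∀ x ∈ V, x ^ p = 1) {g : ℕ}
    (hcd : ∀ χ, IsIrrCharacter G χ →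
      charDegree χ = 1 ∨ charDegree χ = V.index ∨ charDegree χ = g) :
    ⁅⁅V.comap π, V.comap π⁆, ⁅V.comap π, V.comap π⁆⁆ = ⊥ := by
  have : Finite H := Finite.of_surjective π hπ
  have := Fintype.ofFinite G
  have : Fact p.Prime := ⟨hp⟩
  obtain ⟨N, hN⟩ : ∃ N, N = V.comap π := ⟨_, rfl⟩
  have hNn : N.Normal := hN ▸ hVn.comap π
  have := Fintype.ofFinite N
  rw [← hN]
  obtain ⟨f, hf⟩ : ∃ f, V.index = f := ⟨_, rfl⟩
  have hf0 : 0 < f := hf ▸ Nat.pos_of_ne_zero V.index_ne_zero_of_finite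
  have hNf : N.index = f := by rw [hN, Subgroup.index_comap_of_surjective _ hπ, hf]
  rw [hf] at hcd
  have hpV : p ∣ Nat.card V := by
    have h1 : IsPGroup p V := fun x => ⟨1, Subtype.ext (by simpa using hVp x x.2)⟩
    exact h1.card_eq_or_dvd.resolve_left fun e => hV0 (Subgroup.card_eq_one.mp e)
  have hpf : ¬ p ∣ f := fun h => by
    have h1 := h.trans (hf ▸ index_dvd_card_sub_one_of_fpf hF hc)
    have h2 := (Nat.dvd_sub_iff_right Nat.card_pos hpV).mp h1
    exact hp.one_lt.ne' (Nat.dvd_one.mp h2)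
  have halt : ∀ θ, IsIrrCharacter N θ → charDegree θ ≠ 1 →
      g = f * charDegree θ ∨ p ∣ charDegree θ := by
    intro θ hθ h1
    rcases frob_alt_degree π hπ hc hF hN hθ with ⟨χ, hχ, h2⟩ | h2
    · left
      rw [hf] at h2
      rcases hcd χ hχ with h3 | h3 | h3
      · exact absurd (Nat.eq_one_of_mul_eq_one_left (h2.symm.trans h3)) h1
      · exact absurd ((Nat.mul_eq_left hf0.ne').mp (h2.symm.trans h3)) h1
      · exact h3.symm.trans h2
    · right
      have h3 := index_dvd_sq_of_vanish (K := π.ker.subgroupOf N) hθ h2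
      rw [← Subgroup.relIndex, Subgroup.relIndex_ker, show N.map π = V by
        rw [hN, Subgroup.map_comap_eq_self_of_surjective hπ]] at h3
      exact hp.dvd_of_dvd_pow (hpV.trans h3)
  have hpχ : ∀ χ, IsIrrCharacter G χ → p ∣ charDegree χ → charDegree χ = g := by
    intro χ hχ h1
    rcases hcd χ hχ with h3 | h3 | h3
    · exact absurd (Nat.dvd_one.mp (h3 ▸ h1)) hp.one_lt.ne'
    · exact absurd (h3 ▸ h1) hpf
    · exact h3
  by_cases hpg : p ∣ g
  swap
  · refine subgroup_commutator_eq_bot_of_two (m := g / f) fun θ hθ => ?_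
    refine or_iff_not_imp_left.mpr fun h1 => ?_
    rcases halt θ hθ h1 with h2 | h2
    · rw [h2, Nat.mul_div_cancel_left _ hf0]
    · obtain ⟨χ, hχ, h3⟩ := exists_dvd_degree_over hθ
      exact absurd (hpχ χ hχ (h2.trans h3) ▸ h2.trans h3) hpg
  have hpθ : ∀ θ, IsIrrCharacter N θ → charDegree θ ≠ 1 → p ∣ charDegree θ := fun θ hθ h1 =>
    (halt θ hθ h1).elim (fun h2 => (hp.dvd_mul.mp (h2 ▸ hpg)).resolve_left hpf) id
  have hθk : ∀ θ, IsIrrCharacter N θ → charDegree θ ≠ 1 → ∃ k, k ∣ f ∧ g = k * charDegree θ := by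
    intro θ hθ h1
    obtain ⟨χ, hχ, hne⟩ := hθ.exists_over
    obtain ⟨k, h2, h3⟩ := exists_charDegree_eq_mul hχ hθ hne
    exact ⟨k, hNf ▸ h3, (hpχ χ hχ (h2 ▸ (hpθ θ hθ h1).mul_left k)).symm.trans h2⟩
  have hker : ∀ χ, IsIrrCharacter G χ → charDegree χ ≠ g → ⁅N, N⁆ ≤ charKer χ := by
    intro χ hχ h1
    obtain ⟨θ, hθ, hne⟩ := hχ.exists_under_res N
    refine commutator_le_charKer_of_linear_under hχ hθ hne ?_
    by_contra h2
    exact h1 (hpχ χ hχ ((hpθ θ hθ h2).trans (CL.Blk.charDegree_dvd_of_under hχ hθ hne)))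
  have hnpc : ∀ r : ℕ, r.Prime → r ∣ g → HasNormalPComplement r N := by
    intro r hr hrg
    have : Fact r.Prime := ⟨hr⟩
    by_cases hrf : r ∣ f
    · refine CL.hasNPC_subgroup (hasNPC_of_dvd_degrees hr fun χ hχ h1 => ?_) N
      rcases hcd χ hχ with h3 | h3 | h3
      · exact absurd h3 h1
      · exact h3 ▸ hrf
      · exact h3 ▸ hrg
    · refine hasNPC_of_dvd_degrees hr fun θ hθ h1 => ?_
      obtain ⟨k, hk, h2⟩ := hθk θ hθ h1
      exact (hr.dvd_mul.mp (h2 ▸ hrg)).resolve_left fun h3 => hrf (h3.trans hk)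
  obtain ⟨A₀, hA₀n, hA₀, hA₀i, -⟩ := exists_normal_hall hnpc
  have hA₀c : A₀.Characteristic := characteristic_of_coprime A₀
    (Nat.coprime_of_dvd fun q hq h1 h2 =>
      hq.one_lt.ne' (Nat.eq_one_of_dvd_coprimes hA₀ h1 (hA₀i q hq h2)))
  have hnil : Group.IsNilpotent (N ⧸ A₀) := CL.isNilpotent_of_forall_hasNPC fun r hr => by
    have : Fact r.Prime := ⟨hr⟩
    by_cases h1 : r ∣ A₀.index
    · exact CL.hasNPC_quotient (hnpc r hr (hA₀i r hr h1)) A₀
    · exact CL.hasNPC_of_not_dvd h1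
  have hL1 := commutator_commutator_le_of_nilpotent A₀ hnil hp (g := g) fun θ hθ h1 => by
    obtain ⟨k, hk, h2⟩ := hθk θ hθ h1
    exact ⟨hpθ θ hθ h1, k, fun h3 => hpf (h3.trans hk), h2⟩
  obtain ⟨A, hA⟩ : ∃ A, A = A₀.map N.subtype := ⟨_, rfl⟩
  have hAn : A.Normal := hA ▸ inferInstance
  have hAN : A ≤ N := hA ▸ Subgroup.map_subtype_le _
  have hAc : (Nat.card A).Coprime g := by
    rw [hA, Subgroup.card_map_of_injective N.subtype_injective]; exact hA₀
  have hL2 : ⁅⁅N, N⁆, ⁅N, N⁆⁆ ≤ ⁅A, N⁆ := by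
    have := Subgroup.map_mono (f := N.subtype) hL1
    rwa [Subgroup.map_commutator, Subgroup.map_subtype_commutator, Subgroup.map_commutator,
      ← MonoidHom.range_eq_map, N.range_subtype, ← hA] at this
  have := Fintype.ofFinite A
  refine eq_bot_of_forall_le_charKer fun χ hχ => ?_
  by_cases hAχ : ⁅A, N⁆ ≤ charKer χ
  · exact hL2.trans hAχ
  obtain ⟨θ, hθ, hne⟩ := hχ.exists_under_res A
  have hover : ∀ χ', IsIrrCharacter G χ' → classInner (fun a : A => χ' a) θ ≠ 0 →
      charDegree χ' = g := by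
    intro χ' hχ' hne'
    by_contra h1
    have hle : ⁅A, N⁆ ≤ A := Subgroup.commutator_le_left _ _
    refine hAχ fun x hx => ?_
    have h2 : ∀ y ∈ ⁅A, N⁆, ∀ hy : y ∈ A, θ ⟨y, hy⟩ = θ 1 := fun y hy hy' =>
      apply_eq_of_mem_charKer ((hχ'.isCharacter.res A).charKer_le_of_inner_ne_zero hθ hne' (by
        rw [hχ'.isCharacter.charKer_res]
        exact hker χ' hχ' h1 (Subgroup.commutator_mono hAN le_rfl hy)))
    have h3 : (⟨x, hle hx⟩ : A) ∈ charKer (fun a : A => χ a) :=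
      (hχ.isCharacter.res A).mem_charKer_iff_constituents.mpr fun φ hφ h => by
        obtain ⟨y, rfl⟩ := mem_conjugates.mp (mem_conjugates_of_under hχ hθ hφ hne h)
        rw [hφ.mem_charKer, conjN_apply_one, conjN_apply]
        exact h2 _ ((inferInstance : (⁅A, N⁆ : Subgroup G).Normal).conj_mem x hx y) _
    rwa [hχ.isCharacter.charKer_res] at h3
  have hθ1 : charDegree θ = 1 := Nat.eq_one_of_dvd_coprimes hAc hθ.charDegree_dvd_card
    (hover χ hχ hne ▸ CL.Blk.charDegree_dvd_of_under hχ hθ hne)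
  have h4 := hover χ hχ hne
  obtain ⟨T, lam, rfl⟩ := exists_monomial_of_forall_over hθ hθ1 hAc hover hχ hne
  rw [charDegree_indFun _ (isIrrCharacter_hom lam).isCharacter, charDegree_hom, mul_one] at h4
  exact taketa_step lam fun ψ hψ hlt => hker ψ hψ (by omega)

theorem charDegree_eq_ordCompl [Finite G] {p : ℕ} (hp : p.Prime) {Q : Subgroup G} [Q.Normal]
    (hQ : (Nat.card Q).Coprime p) {k : ℕ} (hk : Q.index = p ^ k) {θ : Q → ℂ}
    (hθ : IsIrrCharacter Q θ) :
    ∃ χ, IsIrrCharacter G χ ∧ charDegree θ = ordCompl[p] (charDegree χ) := by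
  have := Fintype.ofFinite Q
  obtain ⟨χ, hχ, hne⟩ := hθ.exists_over
  obtain ⟨j, h1, h2⟩ := exists_charDegree_eq_mul hχ hθ hne
  obtain ⟨i, -, rfl⟩ := (Nat.dvd_prime_pow hp).mp (hk ▸ h2)
  refine ⟨χ, hχ, ?_⟩
  rw [h1, Nat.ordCompl_pow_mul_of_not_dvd i hp fun h => hp.one_lt.ne'
    (Nat.eq_one_of_dvd_coprimes hQ (h.trans hθ.charDegree_dvd_card) dvd_rfl)]

theorem derivedSeries_three (G : Type*) [Group G] :
    derivedSeries G 3 = ⁅⁅commutator G, commutator G⁆, ⁅commutator G, commutator G⁆⁆ := rfl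

theorem three_degrees_pgroup [Finite G] {p e g : ℕ} (hp : p.Prime) (he : e ≠ 0) (hpg : p ∣ g)
    (hcd : ∀ χ, IsIrrCharacter G χ →
      charDegree χ = 1 ∨ charDegree χ = p ^ e ∨ charDegree χ = g) :
    derivedSeries G 3 = ⊥ := by
  have := Fintype.ofFinite G
  have : Fact p.Prime := ⟨hp⟩
  obtain ⟨Q, hQn, hQ, k, hk⟩ := CL.hasNPC_iff_exists_normal_index.mp
    (hasNPC_of_dvd_degrees hp fun χ hχ h1 => by
      rcases hcd χ hχ with h | h | h
      · exact absurd h h1
      · exact h ▸ dvd_pow_self p he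
      · exact h ▸ hpg)
  by_cases hab : ∀ a ∈ Q, ∀ b ∈ Q, a * b = b * a
  · refine derivedSeries_eq_bot_of_monomial (fun χ hχ => exists_monomial_of_abelian_of_nilpotent Q
      hab (IsPGroup.of_card (p := p) hk).isNilpotent hχ) ?_
    refine (Set.ncard_le_ncard (t := {1, p ^ e, g}) ?_).trans ?_
    · rintro _ ⟨χ, rfl⟩
      exact hcd _ χ.2
    · exact (Set.ncard_insert_le _ _).trans (Nat.succ_le_succ ((Set.ncard_insert_le _ _).trans
        (by simp)))
  have h1 : ∀ θ, IsIrrCharacter Q θ → charDegree θ = 1 ∨ charDegree θ = ordCompl[p] g := by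
    intro θ hθ
    obtain ⟨χ, hχ, h2⟩ := charDegree_eq_ordCompl hp hQ hk hθ
    rcases hcd χ hχ with h | h | h
    · left; rw [h2, h]; simp
    · left; rw [h2, h, Nat.ordCompl_self_pow hp]
    · right; rw [h2, h]
  have h2 : ordCompl[p] g ≠ 1 := fun e => hab fun a ha b hb => congrArg Subtype.val
    (mul_comm_of_forall_degree (fun θ hθ => (h1 θ hθ).elim id fun h => h.trans e) ⟨a, ha⟩ ⟨b, hb⟩)
  have h3 := commutator_commutator_le_of_two (m := p ^ e) ⁅Q, Q⁆ fun χ hχ hker => by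
    rcases hcd χ hχ with h | h | h
    · exact Or.inl h
    · exact Or.inr h
    exfalso
    have := Fintype.ofFinite Q
    obtain ⟨θ, hθ, hne⟩ := hχ.exists_under_res Q
    have h4 : θ 1 = 1 := hθ.commutator_le_charKer_iff.mp (le_trans (fun x hx => by
      rw [hχ.isCharacter.charKer_res]
      exact hker (Subgroup.map_subtype_commutator Q ▸ Subgroup.mem_map_of_mem Q.subtype hx))
      ((hχ.isCharacter.res Q).charKer_le_of_inner_ne_zero hθ hne))
    obtain ⟨i, -, hi⟩ := (Nat.dvd_prime_pow hp).mp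
      (hk ▸ hχ.charDegree_dvd_index_of_linear_under Q hθ h4 hne)
    exact h2 (by rw [← h, hi, Nat.ordCompl_self_pow hp])
  rw [derivedSeries_three, eq_bot_iff, ← subgroup_commutator_eq_bot_of_two h1]
  exact Subgroup.commutator_mono h3 h3

theorem three_degrees_aux (N : ℕ) : ∀ (G : Type u) [Group G] [Finite G], Nat.card G = N →
    ∀ m n : ℕ, (∀ χ, IsIrrCharacter G χ →
      charDegree χ = 1 ∨ charDegree χ = m ∨ charDegree χ = n) → derivedSeries G 3 = ⊥ := by
  induction N using Nat.strong_induction_on with | _ N ih => ?_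
  intro G _ _ hN m n hcd
  by_cases hG : commutator G = ⊥
  · rw [derivedSeries_three, hG]; simp
  obtain ⟨K, hKn, -, hK⟩ := exists_minNab (⊥ : Subgroup G) (fun e => hG (le_bot_iff.mp e))
  obtain ⟨π, hπ⟩ : ∃ π : G →* G ⧸ K, π = QuotientGroup.mk' K := ⟨_, rfl⟩
  have hsurj : Function.Surjective π := hπ ▸ QuotientGroup.mk'_surjective K
  have hker : π.ker = K := by rw [hπ, QuotientGroup.ker_mk']
  obtain ⟨τ, hτ, hτ1⟩ := hK.exists_nonlinear
  have hτ' := hτ.comp_surjective π hsurj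
  obtain ⟨g, hg⟩ : ∃ g, ∀ χ, IsIrrCharacter G χ →
      charDegree χ = 1 ∨ charDegree χ = charDegree τ ∨ charDegree χ = g := by
    have h1 := hcd _ hτ'
    rw [charDegree_comp] at h1
    rcases h1.resolve_left hτ1 with h1 | h1
    · exact ⟨n, h1 ▸ hcd⟩
    · exact ⟨m, fun χ hχ => (hcd χ hχ).imp id fun h => h1 ▸ h.symm⟩
  by_cases hZ : Subgroup.center (G ⧸ K) = ⊥
  swap
  · obtain ⟨p, hp, hPG⟩ := hK.exists_isPGroup hZ
    have : Fact p.Prime := ⟨hp⟩
    obtain ⟨k, hk⟩ := IsPGroup.iff_card.mp hPG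
    obtain ⟨e, -, he⟩ := (Nat.dvd_prime_pow hp).mp (hk ▸ hτ.charDegree_dvd_card)
    have he0 : e ≠ 0 := fun h => hτ1 (by rw [he, h, pow_zero])
    by_cases hpg : p ∣ g
    · exact three_degrees_pgroup hp he0 hpg (he ▸ hg)
    refine three_degrees_pgroup hp he0 (dvd_pow_self p he0) fun χ hχ => ?_
    rcases hg χ hχ with h | h | h
    · exact Or.inl h
    · exact Or.inr (Or.inl (h.trans he))
    left
    have h1 := res_irr_of_coprime_index (N := K) hχ hχ.apply_one_eq_charDegree (by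
      rw [K.index_eq_card, hk, h]
      exact ((Nat.Prime.coprime_iff_not_dvd hp).mpr hpg).symm.pow_right k)
    have h2 := hg _ (gallagher_irr hχ.isCharacter h1 hτ' fun x hx => by
      simp only [map_one, MonoidHom.mem_ker.mp (hker.ge hx)])
    rw [charDegree_mul hτ'.isCharacter hχ.isCharacter, charDegree_comp] at h2
    rcases h2 with h2 | h2 | h2
    · exact Nat.eq_one_of_mul_eq_one_left h2
    · exact (Nat.mul_eq_left hτ.charDegree_pos.ne').mp h2
    · exact absurd ((Nat.mul_eq_right hχ.charDegree_pos.ne').mp (h2.trans h.symm)) hτ1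
  by_cases hc : ∀ a ∈ commutator (G ⧸ K), ∀ b ∈ commutator (G ⧸ K), a * b = b * a
  · obtain ⟨p, hp, hVp⟩ := hK.exists_prime_pow_eq_one hc
    have h1 := three_degrees_frob π hsurj hK.ne_bot hc (hK.fpf hZ hc) hp hVp
      (hK.degree_frob hZ hc hτ hτ1 ▸ hg)
    have h2 : commutator G ≤ (commutator (G ⧸ K)).comap π :=
      Subgroup.map_le_iff_le_comap.mp (map_commutator_eq π hsurj).le
    rw [derivedSeries_three, eq_bot_iff, ← h1]
    exact Subgroup.commutator_mono (Subgroup.commutator_mono h2 h2) (Subgroup.commutator_mono h2 h2)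
  exfalso
  have hq : ∀ χ, IsIrrCharacter (G ⧸ K) χ →
      charDegree χ = 1 ∨ charDegree χ = charDegree τ ∨ charDegree χ = g := fun χ hχ =>
    charDegree_comp χ π ▸ hg _ (hχ.comp_surjective π hsurj)
  obtain ⟨ψ, hψ, hψ1, hψτ⟩ : ∃ ψ, IsIrrCharacter (G ⧸ K) ψ ∧ charDegree ψ ≠ 1 ∧
      charDegree ψ ≠ charDegree τ := by
    by_contra hcon
    push Not at hcon
    exact hc (two_degrees_commutator_comm fun χ hχ => or_iff_not_imp_left.mpr (hcon χ hχ))
  have hψg : charDegree ψ = g := ((hq ψ hψ).resolve_left hψ1).resolve_left hψτ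
  have hτ0 := hτ.charDegree_pos
  have hψ0 := hψ.charDegree_pos
  by_cases hcop : (charDegree τ).Coprime g
  · rcases lt_or_gt_of_ne hψτ with h | h
    · exact hK.false_of_coprime_degrees hcop.symm (by omega) (hψg ▸ h)
        (fun χ hχ => (hq χ hχ).imp id Or.symm) hψ hψg hτ rfl
    · exact hK.false_of_coprime_degrees hcop (by omega) (hψg ▸ h) hq hτ rfl hψ hψg
  obtain ⟨p, hp, hp1, hp2⟩ := Nat.Prime.not_coprime_iff_dvd.mp hcop
  have : Fact p.Prime := ⟨hp⟩
  obtain ⟨Q, hQn, hQ, k, hk⟩ := CL.hasNPC_iff_exists_normal_index.mp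
    (hasNPC_of_dvd_degrees hp fun χ hχ h1 => by
      rcases hq χ hχ with h | h | h
      · exact absurd h h1
      · exact h ▸ hp1
      · exact h ▸ hp2)
  have hQt : Q ≠ ⊤ := by
    rintro rfl
    rw [Subgroup.card_top] at hQ
    exact hp.one_lt.ne' (Nat.eq_one_of_dvd_coprimes hQ (hp1.trans hτ.charDegree_dvd_card) dvd_rfl)
  have h1 := ih (Nat.card Q) ((CL.card_lt_of_ne_top hQt).trans_le
    (hN ▸ Nat.card_le_card_of_surjective π hsurj)) Q rfl (ordCompl[p] (charDegree τ))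
    (ordCompl[p] g) fun θ hθ => by
      obtain ⟨χ, hχ, h2⟩ := charDegree_eq_ordCompl hp hQ hk hθ
      rcases hq χ hχ with h | h | h
      · left; rw [h2, h]; simp
      · right; left; rw [h2, h]
      · right; right; rw [h2, h]
  have h2 : Group.IsSolvable Q := ⟨⟨3, h1⟩⟩
  have h3 := (IsPGroup.of_card (p := p) hk : IsPGroup p (_ ⧸ Q)).isNilpotent
  have h4 : Group.IsSolvable (G ⧸ K) :=
    Group.isSolvable_of_ker_le_range Q.subtype (QuotientGroup.mk' Q) (by simp)
  exact hc fun a ha b hb => congrArg Subtype.val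
    ((hK.isMinNormal.isMulCommutative_of_isSolvable inferInstance).is_comm.comm
      (⟨a, ha⟩ : commutator (G ⧸ K)) ⟨b, hb⟩)

theorem three_degrees [Finite G] {m n : ℕ} (h : ∀ χ, IsIrrCharacter G χ →
    charDegree χ = 1 ∨ charDegree χ = m ∨ charDegree χ = n) : derivedSeries G 3 = ⊥ :=
  three_degrees_aux _ G rfl m n h

theorem derivedSeries_three_of_ncard [Finite G] (h : (charDegrees G).ncard ≤ 3) :
    derivedSeries G 3 = ⊥ := by
  have h1 : (charDegrees G \ {1}).ncard ≤ 2 := by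
    rw [Set.ncard_sdiff_singleton_of_mem one_mem_charDegrees]; omega
  obtain ⟨m, n, h2⟩ : ∃ m n, charDegrees G \ {1} ⊆ {m, n} := by
    obtain ⟨s, hs⟩ : ∃ s, s = charDegrees G \ {1} := ⟨_, rfl⟩
    have hfin : s.Finite := hs ▸ (finite_charDegrees G).sdiff
    rw [← hs] at h1 ⊢
    rcases Nat.lt_or_ge s.ncard 2 with h3 | h3
    · rcases (Set.ncard_le_one_iff_eq hfin).mp (Nat.le_of_lt_succ h3) with rfl | ⟨a, rfl⟩
      · exact ⟨0, 0, Set.empty_subset _⟩
      · exact ⟨a, a, by simp⟩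
    · obtain ⟨x, y, -, rfl⟩ := Set.ncard_eq_two.mp (le_antisymm h1 h3)
      exact ⟨x, y, le_rfl⟩
  exact three_degrees fun χ hχ => or_iff_not_imp_left.mpr fun h3 => h2 ⟨mem_charDegrees hχ, h3⟩

end CL.Ord
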