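import Mathlib
import Cfsg.Agent.ORD.Deg3
import Cfsg.Agent.CHAR.FS
import Cfsg.Agent.PLOC.PFrattini
import Cfsg.Agent.SOLV.PGroupCyclicSCN
import Cfsg.Agent.SOLV.MinNormal

/-!
# The Alperin–Feit–Thompson theorem (Isaacs 4.9)
-/

set_option autoImplicit false
set_option linter.unusedSectionVars false
open Cfsg CL.Char
open scoped ComplexConjugate commutatorElement

namespace CL.Ord

universe u
variable {G : Type*} [Group G]

theorem card_sq_one_eq [Finite G] :
    Nat.card {x : G // x * x = 1} = Nat.card {x : G // orderOf x = 2} + 1 := by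
  classical
  have := Fintype.ofFinite G
  simp only [Nat.card_eq_fintype_card, Fintype.card_subtype]
  have : (Finset.univ.filter fun x : G => x * x = 1) =
      insert 1 (Finset.univ.filter fun x : G => orderOf x = 2) := by
    ext x
    simp only [Finset.mem_filter, Finset.mem_univ, true_and, Finset.mem_insert]
    constructor
    · intro h
      by_cases h1 : x = 1
      · exact Or.inl h1
      · exact Or.inr (orderOf_eq_prime (by rw [pow_two, h]) h1)
    · rintro (rfl | h)
      · simp
      · rw [← pow_two, ← h, pow_orderOf_eq_one]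
  rw [this, Finset.card_insert_of_notMem (by simp)]

theorem card_dvd_card_sq_one [Finite G] {K : Subgroup G} (hK : K ≤ Subgroup.center G)
    (h2 : ∀ k ∈ K, k * k = 1) : Nat.card K ∣ Nat.card {x : G // x * x = 1} := by
  have hS : {x : G | x * x = 1} =
      QuotientGroup.mk ⁻¹' ((QuotientGroup.mk : G → G ⧸ K) '' {x : G | x * x = 1}) := by
    ext x
    constructor
    · intro hx
      exact ⟨x, hx, rfl⟩
    · rintro ⟨y, hy, hxy⟩
      have hk : y⁻¹ * x ∈ K := QuotientGroup.eq.mp hxy
      obtain ⟨k, hk', rfl⟩ : ∃ k ∈ K, x = y * k := ⟨_, hk, by group⟩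
      have hc := Subgroup.mem_center_iff.mp (hK hk') y
      have hy' : y * y = 1 := hy
      show y * k * (y * k) = 1
      calc y * k * (y * k) = y * (k * y) * k := by group
        _ = y * (y * k) * k := by rw [hc]
        _ = (y * y) * (k * k) := by group
        _ = 1 := by rw [hy', h2 k hk', one_mul]
  have h := QuotientGroup.card_preimage_mk K ((QuotientGroup.mk : G → G ⧸ K) '' {x : G | x * x = 1})
  rw [← hS] at h
  exact ⟨_, h⟩

theorem two_mul_card_sq_quot [Finite G] {z : G} (hz : orderOf z = 2)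
    [(Subgroup.zpowers z).Normal] :
    2 * Nat.card {y : G ⧸ Subgroup.zpowers z // y * y = 1} =
      Nat.card {x : G // x * x = 1} + Nat.card {x : G // x * x = z} := by
  classical
  have h := QuotientGroup.card_preimage_mk (Subgroup.zpowers z)
    {y : G ⧸ Subgroup.zpowers z | y * y = 1}
  rw [Nat.card_zpowers, hz] at h
  have hz1 : z ≠ 1 := by
    rintro rfl
    simp at hz
  have hS : QuotientGroup.mk ⁻¹' {y : G ⧸ Subgroup.zpowers z | y * y = 1} =
      {x : G | x * x = 1} ∪ {x : G | x * x = z} := by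
    ext x
    simp only [Set.mem_preimage, Set.mem_ofPred_eq, Set.mem_union]
    rw [← QuotientGroup.mk_mul, QuotientGroup.eq_one_iff]
    rw [mem_zpowers_iff_mem_range_orderOf, hz]
    simp only [Finset.mem_image, Finset.mem_range]
    constructor
    · rintro ⟨i, hi, h⟩
      interval_cases i
      · left; simpa using h.symm
      · right; simpa using h.symm
    · rintro (h | h)
      · exact ⟨0, by norm_num, by simp [h]⟩
      · exact ⟨1, by norm_num, by simp [h]⟩
  rw [hS] at h
  have hd : Disjoint {x : G | x * x = 1} {x : G | x * x = z} := by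
    rw [Set.disjoint_left]
    intro x h1 h2
    exact hz1 ((show x * x = z from h2).symm.trans h1)
  have h2 := Set.ncard_union_eq hd
  rw [← Nat.card_coe_set_eq, h, ← Nat.card_coe_set_eq, ← Nat.card_coe_set_eq] at h2
  exact h2

theorem exists_central_involution [Finite G] (hG : IsPGroup 2 G) {N : Subgroup G} [N.Normal]
    (hN : N ≠ ⊥) : ∃ z ∈ N, z ∈ Subgroup.center G ∧ orderOf z = 2 := by
  have hne : N ⊓ Subgroup.center G ≠ ⊥ := by
    have := hG.isNilpotent
    exact CL.inf_center_ne_bot_of_isNilpotent N hN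
  have hp : IsPGroup 2 (N ⊓ Subgroup.center G : Subgroup G) := hG.to_subgroup _
  obtain ⟨k, hk⟩ := hp.exists_card_eq
  have hk0 : k ≠ 0 := by
    rintro rfl
    exact hne (Subgroup.card_eq_one.mp (by simpa using hk))
  obtain ⟨z, hz⟩ := exists_prime_orderOf_dvd_card' (G := (N ⊓ Subgroup.center G : Subgroup G)) 2
    (hk ▸ dvd_pow_self 2 hk0)
  exact ⟨z, z.2.1, z.2.2, by rwa [Subgroup.orderOf_coe]⟩

/-- linear characters with `λ² = 1` -/
def sqLin (G : Type*) [Group G] : Subgroup (G →* ℂˣ) where
  carrier := {lam | ∀ g, lam g * lam g = 1}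
  one_mem' := by simp
  mul_mem' := by
    intro a b ha hb g
    simp only [MonoidHom.mul_apply]
    rw [mul_mul_mul_comm, ha g, hb g, one_mul]
  inv_mem' := by
    intro a ha g
    simp only [MonoidHom.inv_apply]
    rw [← mul_inv, ha g, inv_one]

theorem sqLin_val {lam : G →* ℂˣ} (h : lam ∈ sqLin G) (g : G) :
    (lam g : ℂ) = 1 ∨ (lam g : ℂ) = -1 := by
  have : (lam g : ℂ) * lam g = 1 := by rw [← Units.val_mul, h g, Units.val_one]
  exact mul_self_eq_one_iff.mp this

theorem isPGroup_sqLin : IsPGroup 2 (sqLin G) := fun lam =>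
  ⟨1, Subtype.ext (MonoidHom.ext fun g => by
    simpa [pow_two] using lam.2 g)⟩

/-- real irreducible characters of degree two with `z` outside the kernel -/
def AftX (z : G) : Type _ :=
  {χ : IrrCharacter G // (χ : G → ℂ) z ≠ (χ : G → ℂ) 1 ∧ (χ : G → ℂ) 1 = 2 ∧
    ∀ g, ((χ : G → ℂ) g).im = 0}

@[instance_reducible] noncomputable def aftAction [Finite G] {z : G} (hz : z ∈ commutator G) :
    MulAction (sqLin G) (AftX z) where
  smul lam χ := ⟨irrMulHom lam.1 χ.1, by
    obtain ⟨h1, h2, h3⟩ := χ.2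
    refine ⟨?_, ?_, fun g => ?_⟩
    · simpa [irrMulHom_apply, hom_apply_of_mem_commutator lam.1 hz] using h1
    · simpa [irrMulHom_apply] using h2
    · rw [irrMulHom_apply]
      rcases sqLin_val lam.2 g with h | h <;> simp [h, h3]⟩
  one_smul χ := Subtype.ext (Subtype.ext (funext fun g => by
    show ((irrMulHom (1 : G →* ℂˣ) χ.1 : IrrCharacter G) : G → ℂ) g = _
    simp [irrMulHom_apply]))
  mul_smul a b χ := Subtype.ext (Subtype.ext (funext fun g => by
    show ((irrMulHom (a.1 * b.1) χ.1 : IrrCharacter G) : G → ℂ) g =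
      ((irrMulHom a.1 (irrMulHom b.1 χ.1) : IrrCharacter G) : G → ℂ) g
    simp [irrMulHom_apply, mul_assoc]))

theorem exists_aft_fixed [Finite G] {z : G} (hz : z ∈ commutator G)
    (hodd : ¬ 2 ∣ Nat.card (AftX z)) :
    ∃ χ : G → ℂ, IsIrrCharacter G χ ∧ χ z ≠ χ 1 ∧ χ 1 = 2 ∧ (∀ g, (χ g).im = 0) ∧
      ∀ lam ∈ sqLin G, ∀ g, (lam g : ℂ) * χ g = χ g := by
  let := aftAction hz
  have : Finite (AftX z) := by
    by_contra h
    rw [not_finite_iff_infinite] at h
    exact hodd (by simp)
  obtain ⟨χ, hχ⟩ := (isPGroup_sqLin (G := G)).nonempty_fixed_point_of_prime_not_dvd_card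
    (AftX z) hodd
  refine ⟨χ.1, χ.1.2, χ.2.1, χ.2.2.1, χ.2.2.2, fun lam hl g => ?_⟩
  have h := hχ ⟨lam, hl⟩
  have h2 := congrFun (congrArg (fun x : AftX z => ((x.1 : IrrCharacter G) : G → ℂ)) h) g
  exact (irrMulHom_apply lam χ.1 g).symm.trans h2

theorem apply_central_involution [Finite G] {χ : G → ℂ} (hχ : IsIrrCharacter G χ) {z : G}
    (hz : z ∈ Subgroup.center G) (h2 : z * z = 1) : χ z = χ 1 ∨ χ z = - χ 1 := by
  have h := apply_mul_of_mem_charCenter (hχ.center_le_charCenter hz) z
  rw [h2] at h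
  exact mul_self_eq_mul_self_iff.mp h.symm

theorem odd_card_aftX [Finite G] (hG : IsPGroup 2 G) {z : G} (hz : z ∈ commutator G)
    (hc : z ∈ Subgroup.center G) (h2 : z * z = 1)
    (h : ((Nat.card {x : G // x * x = 1} : ℤ) - Nat.card {x : G // x * x = z}) % 8 = 4) :
    ¬ 2 ∣ Nat.card (AftX z) := by
  classical
  have := Fintype.ofFinite G
  obtain ⟨P, hP⟩ : ∃ P : IrrCharacter G → Prop, P = fun χ : IrrCharacter G =>
    (χ : G → ℂ) z ≠ (χ : G → ℂ) 1 ∧ (χ : G → ℂ) 1 = 2 ∧ ∀ g, ((χ : G → ℂ) g).im = 0 := ⟨_, rfl⟩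
  have key : ∀ χ : IrrCharacter G, ∃ n : ℤ,
      fsInd (χ : G → ℂ) * (χ : G → ℂ) 1 - fsInd (χ : G → ℂ) * (χ : G → ℂ) z = n ∧
        n ≡ (if P χ then 4 else 0) [ZMOD 8] := by
    intro χ
    have hχ : IsIrrCharacter G χ := χ.2
    rcases apply_central_involution hχ hc h2 with h1 | h1
    · refine ⟨0, by rw [h1]; simp, ?_⟩
      rw [if_neg (by rw [hP]; exact fun h => h.1 h1)]
    by_cases hr : ∀ g, ((χ : G → ℂ) g).im = 0
    swap
    · push Not at hr
      refine ⟨0, by rw [hχ.fsInd_eq_zero_of_not_real hr]; simp, ?_⟩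
      rw [if_neg (by rw [hP]; exact fun h => by obtain ⟨g, hg⟩ := hr; exact hg (h.2.2 g))]
    have hd := hχ.isCharacter.apply_one_eq_charDegree
    have hne : (χ : G → ℂ) z ≠ (χ : G → ℂ) 1 := by
      rw [h1]
      intro e
      have : (χ : G → ℂ) 1 = 0 := by linear_combination (-1 / 2 : ℂ) * e
      exact hχ.one_ne_zero this
    obtain ⟨k, hk⟩ := hG.exists_card_eq
    obtain ⟨j, -, hj⟩ := (Nat.dvd_prime_pow Nat.prime_two).mp (hk ▸ hχ.charDegree_dvd_card)
    have hj0 : j ≠ 0 := by
      rintro rfl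
      have e : (χ : G → ℂ) 1 = 1 := by rw [hd, hj]; simp
      exact hne ((hχ.isCharacter.eq_one_of_mem_commutator e hz).trans e.symm)
    obtain ⟨a, ha, ha'⟩ : ∃ a : ℤ, fsInd (χ : G → ℂ) = a ∧ (a = 1 ∨ a = -1) := by
      rcases hχ.fsInd_of_real hr with h | h
      · exact ⟨1, by simpa using h, Or.inl rfl⟩
      · exact ⟨-1, by simpa using h, Or.inr rfl⟩
    refine ⟨2 * a * 2 ^ j, by rw [h1, ha, hd, hj]; push_cast; ring, ?_⟩
    by_cases hj1 : j = 1
    · subst hj1
      rw [if_pos (by rw [hP]; exact ⟨hne, by rw [hd, hj]; simp, hr⟩)]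
      rcases ha' with rfl | rfl <;> decide
    · rw [if_neg]
      · obtain ⟨i, rfl⟩ : ∃ i, j = i + 2 := ⟨j - 2, by omega⟩
        exact (Int.modEq_zero_iff_dvd).mpr ⟨a * 2 ^ i, by ring⟩
      · rw [hP]
        rintro ⟨-, e, -⟩
        rw [hd, hj] at e
        have : 2 ^ j = 2 ^ 1 := by exact_mod_cast e
        exact hj1 (Nat.pow_right_injective le_rfl this)
  choose n hn hn' using key
  have hs : ((Nat.card {x : G // x * x = 1} : ℤ) - Nat.card {x : G // x * x = z}) =
      ∑ χ, n χ := by
    have e1 := card_sqrt_eq_sum (G := G) 1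
    have e2 := card_sqrt_eq_sum (G := G) z
    have : (((Nat.card {x : G // x * x = 1} : ℤ) - Nat.card {x : G // x * x = z} : ℤ) : ℂ) =
        ((∑ χ, n χ : ℤ) : ℂ) := by
      push_cast
      rw [e1, e2, ← Finset.sum_sub_distrib]
      exact Finset.sum_congr rfl fun χ _ => hn χ
    exact_mod_cast this
  have hm : ∑ χ, n χ ≡ ∑ χ : IrrCharacter G, (if P χ then 4 else 0) [ZMOD 8] :=
    Int.ModEq.sum fun χ _ => hn' χ
  rw [Finset.sum_ite, Finset.sum_const_zero, add_zero, Finset.sum_const] at hm
  have hc' : Nat.card (AftX z) = (Finset.univ.filter P).card := by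
    rw [← Fintype.card_subtype, ← Nat.card_eq_fintype_card, hP]
    rfl
  rw [hc']
  rw [hs] at h
  rintro ⟨m, hm'⟩
  rw [hm'] at hm
  unfold Int.ModEq at hm
  rw [h] at hm
  simp only [nsmul_eq_mul] at hm
  push_cast at hm
  omega

theorem aft_char [Finite G] (hG : IsPGroup 2 G) {z : G} (hz : z ∈ commutator G)
    (hc : z ∈ Subgroup.center G) (h2 : z * z = 1)
    (hmin : ∀ N : Subgroup G, N.Normal → N ≠ ⊥ → z ∈ N)
    (h : ((Nat.card {x : G // x * x = 1} : ℤ) - Nat.card {x : G // x * x = z}) % 8 = 4) :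
    IsCyclic G ∨ (commutator G).index = 4 := by
  classical
  have := Fintype.ofFinite G
  obtain ⟨χ, hχ, hne, h1, hr, hfix⟩ := exists_aft_fixed hz (odd_card_aftX hG hz hc h2 h)
  have hΦ := CL.PG.commutator_le_frattini hG
  have hvan : ∀ g ∉ frattini G, χ g = 0 := by
    intro g hg
    obtain ⟨lam, hl, hlg⟩ := exists_hom_of_not_mem _ hΦ hg
    have hmem : lam ∈ sqLin G := fun x => by
      rw [← map_mul, ← pow_two]
      exact hl _ (CL.PG.pow_mem_frattini hG x)
    have e := hfix lam hmem g
    by_contra h0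
    exact hlg (Units.ext (mul_right_cancel₀ h0 (by rw [e]; simp)))
  have hd : charDegree χ = 2 := by
    have := hχ.isCharacter.apply_one_eq_charDegree
    rw [h1] at this
    exact_mod_cast this.symm
  have hdvd := index_dvd_sq_of_vanish hχ hvan
  rw [hd] at hdvd
  obtain ⟨i, hi, hi'⟩ := (Nat.dvd_prime_pow Nat.prime_two).mp hdvd
  by_cases hi2 : i ≠ 2
  · left
    have : IsCyclic (G ⧸ frattini G) := by
      apply isCyclic_of_card_dvd_prime (p := 2)
      rw [← Subgroup.index_eq_card, hi']
      interval_cases i <;> simp_all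
    exact CL.PG.isCyclic_of_quotient_le_frattini (le_refl (frattini G))
  right
  push Not at hi2
  subst hi2
  have hker : charKer χ = ⊥ := by
    by_contra hk
    exact hne (apply_eq_of_mem_charKer (hmin _ hχ.isClassFunction.charKer_normal hk))
  have hnorm : ∀ g ∈ frattini G, ‖χ g‖ = 2 := by
    have hs := hχ.sum_norm_sq
    have hs2 : ∑ g ∈ Finset.univ.filter (· ∈ frattini G), ‖χ g‖ ^ 2 = (Nat.card G : ℝ) := by
      rw [← hs, Finset.sum_filter]
      refine Finset.sum_congr rfl fun g _ => ?_
      split_ifs with hg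
      · rfl
      · rw [hvan g hg]; simp
    have hs3 : ∑ g ∈ Finset.univ.filter (· ∈ frattini G), (4 : ℝ) = (Nat.card G : ℝ) := by
      rw [Finset.sum_const, ← (frattini G).card_mul_index, hi', ← Fintype.card_subtype,
        ← Nat.card_eq_fintype_card]
      simp
    have hle : ∀ g ∈ Finset.univ.filter (· ∈ frattini G), ‖χ g‖ ^ 2 ≤ 4 := by
      intro g _
      have := hχ.isCharacter.norm_le g
      rw [hd] at this
      have h0 := norm_nonneg (χ g)
      push_cast at this
      nlinarith
    have heq := (Finset.sum_eq_sum_iff_of_le hle).mp (hs2.trans hs3.symm)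
    intro g hg
    have := heq g (by simpa using hg)
    have h0 := norm_nonneg (χ g)
    nlinarith
  have hz' : χ z = -2 := by
    rcases apply_central_involution hχ hc h2 with h | h
    · exact absurd h hne
    · rw [h, h1]
  have hle : frattini G ≤ commutator G := by
    intro g hg
    have hn := hnorm g hg
    have hre : χ g = ((χ g).re : ℂ) := Complex.ext (by simp) (by simp [hr g])
    rw [hre, Complex.norm_real, Real.norm_eq_abs] at hn
    rcases (abs_eq (by norm_num)).mp hn with e | e
    · have : g ∈ charKer χ := hχ.mem_charKer.mpr (by rw [hre, e, h1]; simp)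
      rw [hker, Subgroup.mem_bot] at this
      rw [this]; exact one_mem _
    · have e2 := apply_mul_of_mem_charCenter (hχ.center_le_charCenter hc) g
      have : z * g ∈ charKer χ := hχ.mem_charKer.mpr (by
        rw [h1, hz', hre, e] at e2
        rw [h1]
        push_cast at e2
        linear_combination (1 / 2 : ℂ) * e2)
      rw [hker, Subgroup.mem_bot] at this
      rw [eq_inv_of_mul_eq_one_right this]
      exact inv_mem hz
  rw [le_antisymm hΦ hle, hi']
  norm_num

theorem aft_aux (n : ℕ) : ∀ {G : Type u} [Group G] [Finite G], Nat.card G = n → IsPGroup 2 G →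
    Nat.card {x : G // x * x = 1} % 4 = 2 → IsCyclic G ∨ (commutator G).index = 4 := by
  induction n using Nat.strong_induction_on with
  | _ n ih =>
  intro G _ _ hn hG hs
  have hZ : IsCyclic (Subgroup.center G) := by
    by_contra hZ
    obtain ⟨E, hE, hel, hc⟩ := CL.PCyc.exists_elemAb_le_of_not_isCyclic (p := 2)
      (hG.to_subgroup (Subgroup.center G)) hZ
    have := card_dvd_card_sq_one hE fun k hk => by
      rw [← pow_two]; exact hel.2 k hk
    rw [hc] at this
    omega
  by_cases hab : commutator G = ⊥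
  · left
    have htop : Subgroup.center G = ⊤ := by
      rw [eq_top_iff]
      intro x _
      rw [Subgroup.mem_center_iff]
      intro y
      have : ⁅y, x⁆ ∈ commutator G := Subgroup.commutator_mem_commutator trivial trivial
      rw [hab, Subgroup.mem_bot] at this
      exact commutatorElement_eq_one_iff_mul_comm.mp this
    rw [htop] at hZ
    exact isCyclic_of_surjective Subgroup.topEquiv Subgroup.topEquiv.surjective
  obtain ⟨z, hz, hc, ho⟩ := exists_central_involution hG hab
  have h2 : z * z = 1 := by rw [← pow_two, ← ho, pow_orderOf_eq_one]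
  have hzc : Subgroup.zpowers z ≤ Subgroup.center G := (Subgroup.zpowers_le).mpr hc
  have hN : (Subgroup.zpowers z).Normal := ⟨fun x hx g => by
    rw [Subgroup.mem_center_iff.mp (hzc hx) g]; simpa using hx⟩
  have hmin : ∀ N : Subgroup G, N.Normal → N ≠ ⊥ → z ∈ N := by
    intro N _ hN
    obtain ⟨w, hw, hwc, hwo⟩ := exists_central_involution hG hN
    have := mem_zpowers_of_isCyclic_subgroup hwc hc (by rw [hwo, pow_two, h2])
    exact (Subgroup.zpowers_le.mpr hw) this
  have hQ : IsPGroup 2 (G ⧸ Subgroup.zpowers z) := hG.to_quotient _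
  have hq := two_mul_card_sq_quot ho
  have hnc : ¬ IsCyclic (G ⧸ Subgroup.zpowers z) := by
    intro hcy
    apply hab
    apply commutator_eq_bot_of_comm
    exact (MonoidHom.isMulCommutative_of_isCyclic_of_ker_le_center
      (QuotientGroup.mk' (Subgroup.zpowers z))
      (by rw [QuotientGroup.ker_mk']; exact hzc)).is_comm.comm
  have heven : 2 ∣ Nat.card {y : G ⧸ Subgroup.zpowers z // y * y = 1} := by
    have hnt : (⊤ : Subgroup (G ⧸ Subgroup.zpowers z)) ≠ ⊥ := by
      intro h
      have : Subsingleton (G ⧸ Subgroup.zpowers z) :=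
        ⟨fun a b => by
          have ha : a ∈ (⊥ : Subgroup _) := h ▸ Subgroup.mem_top a
          have hb : b ∈ (⊥ : Subgroup _) := h ▸ Subgroup.mem_top b
          rw [Subgroup.mem_bot] at ha hb
          rw [ha, hb]⟩
      exact hnc isCyclic_of_subsingleton
    obtain ⟨w, -, hwc, hwo⟩ := exists_central_involution hQ hnt
    have := card_dvd_card_sq_one (Subgroup.zpowers_le.mpr hwc) fun k hk => by
      obtain ⟨i, rfl⟩ := Subgroup.mem_zpowers_iff.mp hk
      rw [← (Commute.refl w).mul_zpow, ← pow_two, ← hwo, pow_orderOf_eq_one, one_zpow]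
    rwa [Nat.card_zpowers, hwo] at this
  by_cases h4 : Nat.card {y : G ⧸ Subgroup.zpowers z // y * y = 1} % 4 = 2
  · have hlt : Nat.card (G ⧸ Subgroup.zpowers z) < n := by
      have := (Subgroup.zpowers z).card_mul_index
      rw [Nat.card_zpowers, ho, hn] at this
      have hp : 0 < (Subgroup.zpowers z).index := Nat.pos_of_ne_zero Subgroup.index_ne_zero_of_finite
      rw [← Subgroup.index_eq_card]
      omega
    rcases ih _ hlt rfl hQ h4 with h | h
    · exact absurd h hnc
    · right
      rw [← h, ← map_commutator_eq (QuotientGroup.mk' _) (QuotientGroup.mk'_surjective _),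
        Subgroup.index_map_eq _ (QuotientGroup.mk'_surjective _)]
      rw [QuotientGroup.ker_mk']
      exact Subgroup.zpowers_le.mpr hz
  · exact aft_char hG hz hc h2 hmin (by omega)

theorem aft [Finite G] (hG : IsPGroup 2 G) (ht : Nat.card {x : G // orderOf x = 2} % 4 = 1) :
    IsCyclic G ∨ (commutator G).index = 4 :=
  aft_aux _ rfl hG (by rw [card_sq_one_eq]; omega)

end CL.Ord
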