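import Mathlib
import Cfsg.Agent.S4200
import Cfsg.Agent.S4201
import Cfsg.Agent.PERM.JordanCycle

/-! Class numbers of permutation groups: reduction to the primitive case, and the bound
`5 ^ (n - 1)` (Kovács–Robinson) through Bochert's base of size at most `n / 2`. -/

set_option autoImplicit false

namespace CL.Ord.PC

open MulAction Equiv Equiv.Perm Pointwise

universe u

theorem k_congr {G H : Type*} [Group G] [Group H] (e : G ≃* H) :
    Nat.card (ConjClasses G) = Nat.card (ConjClasses H) := by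
  refine Nat.card_congr (Quotient.congr e.toEquiv fun a b => ⟨fun h => e.toMonoidHom.map_isConj h,
    fun h => ?_⟩)
  change IsConj a b
  simpa using e.symm.toMonoidHom.map_isConj h

theorem k_le_ker_range {G H : Type*} [Group G] [Group H] [Finite G] (f : G →* H) :
    Nat.card (ConjClasses G) ≤ Nat.card (ConjClasses f.ker) * Nat.card (ConjClasses f.range) := by
  rw [← k_congr (QuotientGroup.quotientKerEquivRange f)]
  exact Cfsg.Agent.S4201.result f.ker

theorem k_le_card (G : Type*) [Group G] [Finite G] : Nat.card (ConjClasses G) ≤ Nat.card G :=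
  Nat.card_le_card_of_surjective _ ConjClasses.mk_surjective

theorem k_le_one {G : Type*} [Group G] [Subsingleton G] : Nat.card (ConjClasses G) ≤ 1 :=
  (k_le_card G).trans (Finite.card_le_one_iff_subsingleton.2 inferInstance)

/-- Reduction of a class number bound `c ^ (n - 1)` to primitive groups. -/
theorem reduce (c : ℕ) (hc : 1 ≤ c) (P : ∀ (G : Type u) [Group G], Prop)
    (hsub : ∀ (G : Type u) [Group G] (H : Subgroup G), P G → P H)
    (hrange : ∀ (G K : Type u) [Group G] [Group K] (f : G →* K), P G → P f.range)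
    (hprim : ∀ (G Ω : Type u) [Group G] [Finite G] [Finite Ω] [MulAction G Ω] [FaithfulSMul G Ω],
      P G → IsPreprimitive G Ω → 2 ≤ Nat.card Ω →
      (∀ (K Γ : Type u) [Group K] [Finite K] [Finite Γ] [MulAction K Γ] [FaithfulSMul K Γ], P K →
        Nat.card Γ < Nat.card Ω → Nat.card (ConjClasses K) ≤ c ^ (Nat.card Γ - 1)) →
      Nat.card (ConjClasses G) ≤ c ^ (Nat.card Ω - 1)) (n : ℕ) :
    ∀ (G Ω : Type u) [Group G] [Finite G] [Finite Ω] [MulAction G Ω] [FaithfulSMul G Ω], P G →
      Nat.card Ω = n → ∀ (I : Type u) (π : Ω → I), Function.Surjective π →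
      (∀ (g : G) (x : Ω), π (g • x) = π x) →
      Nat.card (ConjClasses G) ≤ c ^ (Nat.card Ω - Nat.card I) := by
  induction n using Nat.strong_induction_on with
  | _ n ih =>
  have ih1 : ∀ (K Γ : Type u) [Group K] [Finite K] [Finite Γ] [MulAction K Γ] [FaithfulSMul K Γ],
      P K → Nat.card Γ < n → Nat.card (ConjClasses K) ≤ c ^ (Nat.card Γ - 1) := by
    intro K Γ _ _ _ _ _ hK hlt
    rcases isEmpty_or_nonempty Γ with h | h
    · have : Subsingleton K := ⟨fun a b => eq_of_smul_eq_smul (α := Γ) fun x => isEmptyElim x⟩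
      exact k_le_one.trans (Nat.one_le_pow _ _ hc)
    · have := ih _ hlt K Γ hK rfl PUnit (fun _ => PUnit.unit)
        (fun _ => ⟨h.some, rfl⟩) (fun _ _ => rfl)
      simpa using this
  -- the case of at least two colours
  have case1 : ∀ (G Ω : Type u) [Group G] [Finite G] [Finite Ω] [MulAction G Ω] [FaithfulSMul G Ω],
      P G → Nat.card Ω = n → ∀ (I : Type u) (π : Ω → I), Function.Surjective π →
      (∀ (g : G) (x : Ω), π (g • x) = π x) → 2 ≤ Nat.card I →
      Nat.card (ConjClasses G) ≤ c ^ (Nat.card Ω - Nat.card I) := by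
    intro G Ω _ _ _ _ _ hG hn I π hπ hinv hI
    have : Finite I := Finite.of_surjective π hπ
    have : Nontrivial I := Finite.one_lt_card_iff_nontrivial.1 hI
    obtain ⟨i, j, hij⟩ := exists_pair_ne I
    let Δ : SubMulAction G Ω := ⟨{x | π x = i}, fun g x hx => by
      change π (g • x) = i
      rw [hinv]; exact hx⟩
    let Δ' : SubMulAction G Ω := ⟨{x | π x ≠ i}, fun g x hx => by
      change π (g • x) ≠ i
      rw [hinv]; exact hx⟩
    have hcard : Nat.card Δ + Nat.card Δ' = Nat.card Ω := by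
      rw [← Nat.card_sum]
      classical
      exact Nat.card_congr (Equiv.sumCompl fun x => π x = i)
    have h1 : 0 < Nat.card Δ := by
      obtain ⟨x, hx⟩ := hπ i
      have : Nonempty Δ := ⟨⟨x, hx⟩⟩
      exact Nat.card_pos
    have h2 : 0 < Nat.card Δ' := by
      obtain ⟨x, hx⟩ := hπ j
      have : Nonempty Δ' := ⟨⟨x, by change π x ≠ i; rw [hx]; exact hij.symm⟩⟩
      exact Nat.card_pos
    let f := toPermHom G Δ
    have : FaithfulSMul f.ker Δ' := ⟨fun {a b} h => by
      refine Subtype.ext (eq_of_smul_eq_smul (α := Ω) fun x => ?_)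
      by_cases hx : π x = i
      · have ha := congrArg (fun σ : Perm Δ => (σ ⟨x, hx⟩ : Ω)) a.2
        have hb := congrArg (fun σ : Perm Δ => (σ ⟨x, hx⟩ : Ω)) b.2
        exact ha.trans hb.symm
      · exact congrArg Subtype.val (h ⟨x, hx⟩)⟩
    let π' : Δ' → {k : I // k ≠ i} := fun x => ⟨π x.1, x.2⟩
    have hπ' : Function.Surjective π' := by
      rintro ⟨k, hk⟩
      obtain ⟨x, rfl⟩ := hπ k
      exact ⟨⟨x, hk⟩, rfl⟩
    have hI' : Nat.card {k : I // k ≠ i} + 1 = Nat.card I := by
      classical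
      rw [← Nat.card_congr (Equiv.optionSubtypeNe i), Finite.card_option]
    have hle : Nat.card {k : I // k ≠ i} ≤ Nat.card Δ' := Nat.card_le_card_of_surjective _ hπ'
    have a1 := ih (Nat.card Δ') (by omega) f.ker Δ' (hsub _ _ hG) rfl _ π' hπ'
      (fun g x => Subtype.ext (hinv g.1 x.1))
    have : Finite f.range := Finite.of_surjective _ f.rangeRestrict_surjective
    have a2 := ih1 f.range Δ (hrange _ _ f hG) (by omega)
    refine (k_le_ker_range f).trans ((Nat.mul_le_mul a1 a2).trans ?_)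
    rw [← pow_add]
    exact Nat.pow_le_pow_right hc (by omega)
  intro G Ω _ _ _ _ _ hG hn I π hπ hinv
  by_cases hI : 2 ≤ Nat.card I
  · exact case1 G Ω hG hn I π hπ hinv hI
  by_cases h2 : Nat.card Ω < 2
  · have : Subsingleton Ω := Finite.card_le_one_iff_subsingleton.1 (by omega)
    have : Subsingleton G := ⟨fun a b => eq_of_smul_eq_smul (α := Ω) fun x => Subsingleton.elim _ _⟩
    exact k_le_one.trans (Nat.one_le_pow _ _ hc)
  refine le_trans ?_ (Nat.pow_le_pow_right hc (show Nat.card Ω - 1 ≤ _ by omega))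
  have hnt : Nontrivial Ω := Finite.one_lt_card_iff_nontrivial.1 (by omega)
  by_cases htr : IsPretransitive G Ω
  swap
  · have h3 : 2 ≤ Nat.card (orbitRel.Quotient G Ω) := by
      have : Finite (orbitRel.Quotient G Ω) := Quotient.finite _
      by_contra h
      have : Subsingleton (orbitRel.Quotient G Ω) :=
        Finite.card_le_one_iff_subsingleton.1 (by omega)
      refine htr ⟨fun x y => ?_⟩
      have : (Quotient.mk _ y : orbitRel.Quotient G Ω) = Quotient.mk _ x := Subsingleton.elim _ _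
      exact Quotient.exact this
    refine (case1 G Ω hG hn (orbitRel.Quotient G Ω) (Quotient.mk _) Quotient.mk_surjective
      (fun g x => Quotient.sound ⟨g, rfl⟩) h3).trans (Nat.pow_le_pow_right hc (by omega))
  by_cases hpr : IsPreprimitive G Ω
  · exact hprim G Ω hG hpr (by omega) fun K Γ _ _ _ _ _ hK hlt => ih1 K Γ hK (by omega)
  obtain ⟨B, hB, hBt⟩ : ∃ B : Set Ω, IsBlock G B ∧ ¬ IsTrivialBlock B := by
    by_contra h
    push Not at h
    exact hpr { isTrivialBlock_of_isBlock := fun {B} hB => h B hB }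
  rw [IsTrivialBlock, not_or, Set.not_subsingleton_iff] at hBt
  obtain ⟨⟨x, hx, y, hy, hxy⟩, hBu⟩ := hBt
  have hsys := (hB.isBlockSystem ⟨x, hx⟩).1.2
  have hex : ∀ a : Ω, ∃ C : orbit G B, a ∈ C.1 ∧ ∀ D : orbit G B, a ∈ D.1 → D = C := fun a => by
    obtain ⟨C, ⟨hC, haC⟩, hu⟩ := hsys a
    exact ⟨⟨C, hC⟩, haC, fun D hD => Subtype.ext (hu D.1 ⟨D.2, hD⟩)⟩
  choose ρ hρ hρu using hex
  have hρs : Function.Surjective ρ := by
    rintro ⟨_, g, rfl⟩
    exact ⟨g • x, (hρu _ _ (Set.smul_mem_smul_set hx)).symm⟩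
  have hρe : ∀ (g : G) (a : Ω), ρ (g • a) = g • ρ a := fun g a =>
    (hρu _ _ (Set.smul_mem_smul_set (hρ a))).symm
  have : Finite (orbit G B) := Finite.of_surjective ρ hρs
  have hlt : Nat.card (orbit G B) < Nat.card Ω := by
    refine lt_of_le_of_ne (Nat.card_le_card_of_surjective _ hρs) fun h => hxy ?_
    have hb := hρs.bijective_of_nat_card_le h.ge
    exact hb.1 ((hρu x ⟨B, mem_orbit_self B⟩ hx).symm.trans (hρu y ⟨B, mem_orbit_self B⟩ hy))
  have hge : 2 ≤ Nat.card (orbit G B) := by
    obtain ⟨z, hz⟩ := (Set.ne_univ_iff_exists_notMem B).1 hBu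
    refine Finite.one_lt_card_iff_nontrivial.2 ⟨ρ z, ⟨B, mem_orbit_self B⟩, fun h => hz ?_⟩
    have := hρ z
    rwa [h] at this
  let f := toPermHom G (orbit G B)
  have a1 := case1 f.ker Ω (hsub _ _ hG) hn _ ρ hρs (fun g a => by
    have := congrArg (fun σ : Perm (orbit G B) => σ (ρ a)) g.2
    exact (hρe g.1 a).trans this) hge
  have : Finite f.range := Finite.of_surjective _ f.rangeRestrict_surjective
  have a2 := ih1 f.range (orbit G B) (hrange _ _ f hG) (by omega)
  refine (k_le_ker_range f).trans ((Nat.mul_le_mul a1 a2).trans ?_)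
  rw [← pow_add]
  exact Nat.pow_le_pow_right hc (by omega)

theorem k_perm_le (Ω : Type*) [Finite Ω] :
    Nat.card (ConjClasses (Perm Ω)) ≤ 2 ^ (Nat.card Ω - 1) := by
  classical
  have := Fintype.ofFinite Ω
  rw [Nat.card_eq_fintype_card (α := Ω), ← composition_card, ← Nat.card_eq_fintype_card]
  refine le_trans ?_ (Nat.card_le_card_of_surjective _ Nat.Partition.ofComposition_surj)
  refine Nat.card_le_card_of_injective
    (Quotient.lift (fun σ : Perm Ω => σ.partition) fun a b h => partition_eq_of_isConj.1 h) ?_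
  rintro ⟨a⟩ ⟨b⟩ h
  exact Quotient.sound (partition_eq_of_isConj.2 h)

/-- Bochert: a primitive group that does not contain the alternating group has a base of size at
most half the degree. -/
theorem exists_base {Ω : Type*} [Fintype Ω] [DecidableEq Ω] (H : Subgroup (Perm Ω))
    (hHp : IsPreprimitive H Ω) (hA : ¬ alternatingGroup Ω ≤ H) :
    ∃ Γ : Finset Ω, 2 * Γ.card ≤ Fintype.card Ω ∧ ∀ g ∈ H, (∀ x ∈ Γ, g x = x) → g = 1 := by
  classical
  obtain ⟨Δ, hΔ, hmax⟩ := Finset.exists_max_image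
    (Finset.univ.filter fun Δ : Finset Ω => ∀ g ∈ H, g.support ⊆ Δ → g = 1) Finset.card
    ⟨∅, by simp +contextual⟩
  simp only [Finset.mem_filter, Finset.mem_univ, true_and] at hΔ hmax
  have h2 : Fintype.card Ω ≤ 2 * Δ.card := by
    by_contra hlt
    have h3 : ¬ ∀ g ∈ H, g.support ⊆ Δᶜ → g = 1 := fun h => by
      have := hmax _ h
      rw [Finset.card_compl] at this
      omega
    push Not at h3
    obtain ⟨g, hg, hgs, hg1⟩ := h3
    obtain ⟨a, ha⟩ : g.support.Nonempty := by
      rwa [Finset.nonempty_iff_ne_empty, Ne, support_eq_empty_iff]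
    have haΔ : a ∉ Δ := Finset.mem_compl.1 (hgs ha)
    have h4 : ¬ ∀ g ∈ H, g.support ⊆ insert a Δ → g = 1 := fun h => by
      have := hmax _ h
      rw [Finset.card_insert_of_notMem haΔ] at this
      omega
    push Not at h4
    obtain ⟨h, hh, hhs, hh1⟩ := h4
    have hha : h a ≠ a := fun e => hh1 (hΔ h hh fun x hx => by
      rcases Finset.mem_insert.1 (hhs hx) with rfl | hx'
      · exact absurd e (mem_support.1 hx)
      · exact hx')
    refine hA (alternatingGroup_le_of_isPreprimitive_of_isThreeCycle_mem hHp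
      (CL.Perm.isThreeCycle_commutator_of_inter_eq (mem_support.1 ha) hha fun x hx => ?_)
      (H.mul_mem (H.mul_mem (H.mul_mem hg hh) (H.inv_mem hg)) (H.inv_mem hh)))
    by_contra hc
    push Not at hc
    rcases Finset.mem_insert.1 (hhs (mem_support.2 hc.2)) with e | e
    · exact hx e
    · exact Finset.mem_compl.1 (hgs (mem_support.2 hc.1)) e
  refine ⟨Δᶜ, ?_, fun g hg h => hΔ g hg fun x hx => ?_⟩
  · have := Finset.card_le_univ Δ
    rw [Finset.card_compl]; omega
  · by_contra hx'
    exact mem_support.1 hx (h x (Finset.mem_compl.2 hx'))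

theorem isPreprimitive_range {G Ω : Type*} [Group G] [MulAction G Ω] (h : IsPreprimitive G Ω) :
    IsPreprimitive (toPermHom G Ω).range Ω := by
  let f : Ω →ₑ[(toPermHom G Ω).rangeRestrict] Ω := ⟨id, fun _ _ => rfl⟩
  exact IsPreprimitive.of_surjective (f := f) Function.surjective_id

/-- Kovács–Robinson: a permutation group of degree `n` has at most `5 ^ (n - 1)` classes. -/
theorem k_le_five_pow (G Ω : Type u) [Group G] [Finite G] [Finite Ω] [MulAction G Ω]
    [FaithfulSMul G Ω] : Nat.card (ConjClasses G) ≤ 5 ^ (Nat.card Ω - 1) := by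
  rcases isEmpty_or_nonempty Ω with h | h
  · have : Subsingleton G := ⟨fun a b => eq_of_smul_eq_smul (α := Ω) fun x => isEmptyElim x⟩
    exact k_le_one.trans (Nat.one_le_pow _ _ (by norm_num))
  have := reduce.{u} 5 (by norm_num) (fun _ _ => True) (fun _ _ _ _ => trivial)
    (fun _ _ _ _ _ _ => trivial) ?_ _ G Ω trivial rfl PUnit (fun _ => PUnit.unit)
    (fun _ => ⟨h.some, rfl⟩) (fun _ _ => rfl)
  · simpa using this
  intro G Ω _ _ _ _ _ _ hpr h2 ih
  classical
  have := Fintype.ofFinite Ω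
  have hnt : Nontrivial Ω := Finite.one_lt_card_iff_nontrivial.1 (by omega)
  set H := (toPermHom G Ω).range with hH
  by_cases hA : alternatingGroup Ω ≤ H
  · rw [k_congr (MonoidHom.ofInjective (f := toPermHom G Ω) toPerm_injective), ← hH]
    have h3 : H.index ≤ 2 := by
      rw [← alternatingGroup.index_eq_two (α := Ω)]
      exact Subgroup.index_antitone hA
    refine (Cfsg.Agent.S4200.result H).1.trans ((Nat.mul_le_mul h3 (k_perm_le Ω)).trans ?_)
    obtain ⟨m, hm⟩ : ∃ m, Nat.card Ω - 1 = m + 1 := ⟨Nat.card Ω - 2, by omega⟩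
    rw [hm, pow_succ, pow_succ]
    have := Nat.pow_le_pow_left (show 2 ≤ 5 by norm_num) m
    omega
  obtain ⟨Γ, hΓ, hb⟩ := exists_base H (isPreprimitive_range hpr) hA
  rw [← Nat.card_eq_fintype_card] at hΓ
  let L := stabilizer G (Γ : Set Ω)
  have hL : L.index ≤ 2 ^ Nat.card Ω := by
    rw [index_stabilizer, ← Nat.card_coe_set_eq, Nat.card_eq_fintype_card (α := Ω),
      ← Fintype.card_set, ← Nat.card_eq_fintype_card]
    exact Finite.card_subtype_le _
  let Δ : SubMulAction L Ω := ⟨(Γ : Set Ω), fun g x hx => by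
    have h1 : g.1 • (Γ : Set Ω) = Γ := g.2
    rw [← h1]
    exact Set.smul_mem_smul_set hx⟩
  have : FaithfulSMul L Δ := ⟨fun {a b} h => by
    have h1 := hb (toPermHom G Ω (b.1⁻¹ * a.1)) ⟨_, rfl⟩ fun x hx => by
      have := congrArg Subtype.val (h ⟨x, hx⟩)
      change a.1 • x = b.1 • x at this
      change (b.1⁻¹ * a.1) • x = x
      rw [mul_smul, this, inv_smul_smul]
    have h2 : b.1⁻¹ * a.1 = 1 := toPerm_injective (α := G) (β := Ω) (h1.trans (map_one (toPermHom G Ω)).symm)
    exact Subtype.ext (inv_mul_eq_one.1 h2).symm⟩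
  have hc : Nat.card Δ = Γ.card := by
    change Nat.card (Γ : Set Ω) = _
    simp
  rcases Nat.eq_zero_or_pos Γ.card with h0 | h0
  · have : Subsingleton G := ⟨fun a b => by
      have h1 := hb (toPermHom G Ω (b⁻¹ * a)) ⟨_, rfl⟩ fun x hx => by
        rw [Finset.card_eq_zero.1 h0] at hx
        simp at hx
      have h2 : b⁻¹ * a = 1 := toPerm_injective (α := G) (β := Ω) (h1.trans (map_one (toPermHom G Ω)).symm)
      exact (inv_mul_eq_one.1 h2).symm⟩
    exact k_le_one.trans (Nat.one_le_pow _ _ (by norm_num))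
  have a1 := ih L Δ trivial (by omega)
  refine (Cfsg.Agent.S4200.result L).2.1.trans ((Nat.mul_le_mul hL a1).trans ?_)
  rw [hc]
  have h4 : 2 ^ Nat.card Ω ≤ 5 ^ (Nat.card Ω - Γ.card) :=
    calc 2 ^ Nat.card Ω ≤ 2 ^ (2 * (Nat.card Ω - Γ.card)) :=
          Nat.pow_le_pow_right (by norm_num) (by omega)
      _ = 4 ^ (Nat.card Ω - Γ.card) := by rw [pow_mul]; norm_num
      _ ≤ _ := Nat.pow_le_pow_left (by norm_num) _
  refine (Nat.mul_le_mul_right _ h4).trans ?_
  rw [← pow_add]
  exact Nat.pow_le_pow_right (by norm_num) (by omega)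

end CL.Ord.PC
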