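import Mathlib
import Cfsg.Agent.ORD.PermCls
import Cfsg.Agent.S3681
import Cfsg.Agent.FGS.StabDL2

/-! A relative class number bound `KQ L N c` that is stable under all the reductions, and the
bound `3 ^ (n - 1)` for solvable permutation groups. -/

set_option autoImplicit false

namespace CL.Ord.PC

open MulAction Equiv Subgroup

universe u

theorem k_le_of_surjective {G H : Type*} [Group G] [Group H] [Finite G] (f : G →* H)
    (hf : Function.Surjective f) : Nat.card (ConjClasses H) ≤ Nat.card (ConjClasses G) :=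
  Nat.card_le_card_of_surjective _ (ConjClasses.map_surjective hf)

theorem k_pos (G : Type*) [Group G] [Finite G] : 0 < Nat.card (ConjClasses G) := Nat.card_pos

/-- For every section `Y` of a group mapping into `L`, the class number of `Y` is at most `c` times
the class number of the part of `Y` that comes from `N`. -/
def KQ {A : Type u} [Group A] (L N : Subgroup A) (c : ℕ) : Prop :=
  ∀ (X Y : Type u) [Group X] [Group Y] [Finite X] (f : X →* A) (g : X →* Y), (∀ x, f x ∈ L) →
    Function.Surjective g →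
    Nat.card (ConjClasses Y) ≤ c * Nat.card (ConjClasses ((N.comap f).map g))

variable {A : Type u} [Group A] {L L' M N : Subgroup A} {a b c : ℕ}

theorem KQ.mono (h : KQ L N a) (hab : a ≤ b) : KQ L N b := fun X Y _ _ _ f g hf hg =>
  (h X Y f g hf hg).trans (Nat.mul_le_mul_right _ hab)

theorem KQ.anti (h : KQ L N a) (hL : L' ≤ L) : KQ L' N a := fun X Y _ _ _ f g hf hg =>
  h X Y f g (fun x => hL (hf x)) hg

theorem KQ.comap {A' : Type u} [Group A'] (h : KQ L N a) (φ : A' →* A) :
    KQ (L.comap φ) (N.comap φ) a := fun X Y _ _ _ f g hf hg =>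
  h X Y (φ.comp f) g hf hg

theorem KQ.congr (h : KQ L N a) (hN : ∀ x ∈ L, x ∈ N ↔ x ∈ M) : KQ L M a := by
  intro X Y _ _ _ f g hf hg
  have : N.comap f = M.comap f := Subgroup.ext fun x => hN _ (hf x)
  rw [← this]
  exact h X Y f g hf hg

theorem KQ.of_subgroupOf (h : KQ ⊤ (N.subgroupOf L) a) : KQ L N a := fun X Y _ _ _ f g hf hg =>
  h X Y (f.codRestrict L hf) g (fun _ => trivial) hg

theorem KQ.of_map {N' : Subgroup L} (h : KQ ⊤ N' a) : KQ L (N'.map L.subtype) a := by
  refine KQ.of_subgroupOf ?_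
  rwa [Subgroup.subgroupOf, comap_map_eq_self_of_injective L.subtype_injective]

theorem KQ.trans (h : KQ L M a) (h' : KQ (L ⊓ M) N b) : KQ L (M ⊓ N) (a * b) := by
  intro X Y _ _ _ f g hf hg
  refine (h X Y f g hf hg).trans ?_
  rw [mul_assoc]
  refine Nat.mul_le_mul_left _ ?_
  refine (h' (M.comap f) ((M.comap f).map g) (f.comp (M.comap f).subtype) (g.subgroupMap _)
    (fun x => ⟨hf _, x.2⟩) (g.subgroupMap_surjective _)).trans (Nat.mul_le_mul_left _ ?_)
  refine (k_congr (Subgroup.equivMapOfInjective _ _ ((M.comap f).map g).subtype_injective)).trans_le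
    (k_congr (MulEquiv.subgroupCongr ?_)).le
  ext y
  constructor
  · rintro ⟨_, ⟨x, hx, rfl⟩, rfl⟩
    exact ⟨x.1, ⟨x.2, hx⟩, rfl⟩
  · rintro ⟨x, hx, rfl⟩
    exact ⟨_, ⟨⟨x, hx.1⟩, hx.2, rfl⟩, rfl⟩

theorem KQ.inf (h : KQ L M a) (h' : KQ L N b) : KQ L (M ⊓ N) (a * b) :=
  h.trans (h'.anti inf_le_left)

theorem KQ.of_relIndex [Finite A] (h : N.relIndex L ≤ a) : KQ L N a := by
  intro X Y _ _ _ f g hf hg
  have := Finite.of_surjective g hg
  refine (Cfsg.Agent.S4200.result ((N.comap f).map g)).2.1.trans (Nat.mul_le_mul_right _ ?_)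
  refine (Nat.le_of_dvd (Nat.pos_of_ne_zero FiniteIndex.index_ne_zero)
    (index_map_dvd _ hg)).trans (le_trans ?_ h)
  rw [index_comap]
  exact relIndex_le_of_le_right (by rintro _ ⟨x, rfl⟩; exact hf x) FiniteIndex.index_ne_zero

theorem KQ.refl (L : Subgroup A) : KQ L ⊤ 1 := by
  intro X Y _ _ _ f g _ hg
  rw [one_mul, comap_top, ← MonoidHom.range_eq_map, MonoidHom.range_eq_top_of_surjective _ hg]
  exact (k_congr topEquiv).ge

theorem KQ.iInf {ι : Type*} (s : Finset ι) (N : ι → Subgroup A) (c : ι → ℕ)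
    (h : ∀ i ∈ s, KQ L (N i) (c i)) : KQ L (⨅ i ∈ s, N i) (∏ i ∈ s, c i) := by
  classical
  induction s using Finset.induction_on with
  | empty => simpa using KQ.refl L
  | insert i s hi ih =>
    rw [Finset.iInf_insert, Finset.prod_insert hi]
    exact (h i (by simp)).inf (ih fun j hj => h j (by simp [hj]))

/-- A bound for all the subgroups of the image gives a bound relative to the kernel. -/
theorem KQ.of_ker {Q : Type*} [Group Q] (φ : A →* Q)
    (h : ∀ S ≤ L.map φ, Finite S → Nat.card (ConjClasses S) ≤ a) : KQ L φ.ker a := by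
  intro X Y _ _ _ f g hf hg
  have := Finite.of_surjective g hg
  have : ((φ.ker.comap f).map g).Normal := Normal.map inferInstance g hg
  refine (Cfsg.Agent.S4201.result ((φ.ker.comap f).map g)).trans ?_
  rw [mul_comm]
  refine Nat.mul_le_mul_right _ (le_trans ?_ (h (φ.comp f).range
    (by rintro _ ⟨x, rfl⟩; exact ⟨_, hf x, rfl⟩)
    (Finite.of_surjective _ (φ.comp f).rangeRestrict_surjective)))
  rw [← k_congr (QuotientGroup.quotientKerEquivRange (φ.comp f))]
  refine k_le_of_surjective (QuotientGroup.map _ _ g fun x hx => ⟨x, hx, rfl⟩) fun y => ?_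
  obtain ⟨y, rfl⟩ := QuotientGroup.mk_surjective y
  obtain ⟨x, rfl⟩ := hg y
  exact ⟨x, rfl⟩

theorem KQ.k_le [Finite A] (h : KQ ⊤ N a) {X : Type u} [Group X] [Finite X] (f : X →* A) :
    Nat.card (ConjClasses X) ≤ a * Nat.card (ConjClasses (N.comap f)) := by
  have := h X X f (MonoidHom.id X) (fun _ => trivial) Function.surjective_id
  rwa [Subgroup.map_id] at this

theorem KQ.k_quotient_le [Finite A] (h : KQ ⊤ N a) (F : Subgroup A) [F.Normal] (hF : N ≤ F)
    (H : Subgroup A) : Nat.card (ConjClasses (H ⧸ F.subgroupOf H)) ≤ a := by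
  have h1 := h H _ H.subtype (QuotientGroup.mk' (F.subgroupOf H)) (fun _ => trivial)
    (QuotientGroup.mk'_surjective _)
  have h2 : (N.comap H.subtype).map (QuotientGroup.mk' (F.subgroupOf H)) = ⊥ := by
    rw [Subgroup.map_eq_bot_iff, QuotientGroup.ker_mk']
    exact comap_mono hF
  rw [h2] at h1
  exact h1.trans ((Nat.mul_le_mul_left _ k_le_one).trans_eq (mul_one _))

theorem pow_four_le (n : ℕ) (h : 10 ≤ n) : n ^ 4 ≤ 3 ^ (n - 1) := by
  induction n, h using Nat.le_induction with
  | base => norm_num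
  | succ n hn ih =>
    obtain ⟨m, rfl⟩ : ∃ m, n = m + 1 := ⟨n - 1, by omega⟩
    simp only [Nat.add_sub_cancel] at ih ⊢
    rw [pow_succ 3 m]
    have : (m + 1 + 1) ^ 4 ≤ (m + 1) ^ 4 * 3 := by
      have h1 : 10 * (m + 1 + 1) ≤ 11 * (m + 1) := by omega
      have h2 := Nat.pow_le_pow_left h1 4
      rw [mul_pow, mul_pow] at h2
      omega
    omega

theorem card_le_three_pow_of_prim (G Ω : Type u) [Group G] [Finite G] [Finite Ω] [MulAction G Ω]
    [FaithfulSMul G Ω] [Group.IsSolvable G] (hpr : IsPreprimitive G Ω) (h2 : 2 ≤ Nat.card Ω) :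
    Nat.card G ≤ 3 ^ (Nat.card Ω - 1) := by
  classical
  have := Fintype.ofFinite Ω
  by_cases h4 : Nat.card Ω ≤ 4
  · have h1 := Nat.card_le_card_of_injective _ (toPerm_injective (α := G) (β := Ω))
    rw [Nat.card_perm] at h1
    refine h1.trans ?_
    generalize Nat.card Ω = n at *
    interval_cases n <;> simp [Nat.factorial]
  by_cases h9 : Nat.card Ω ≤ 9
  · have hA : ¬ alternatingGroup Ω ≤ (toPermHom G Ω).range := fun hA => by
      have : Group.IsSolvable (toPermHom G Ω).range :=
        Group.isSolvable_of_surjective (toPermHom G Ω).rangeRestrict_surjective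
      have : Group.IsSolvable (alternatingGroup Ω) :=
        Group.isSolvable_of_isSolvable_injective (inclusion_injective hA)
      refine Equiv.Perm.not_isSolvable Ω ?_ (Group.isSolvable_of_ker_le_range
        (alternatingGroup Ω).subtype Equiv.Perm.sign (by rw [range_subtype]; exact le_rfl))
      rw [Cardinal.mk_fintype, ← Nat.card_eq_fintype_card]
      exact_mod_cast (by omega : 5 ≤ Nat.card Ω)
    have h1 := Cfsg.Agent.S3681.result hpr hA
    rw [← Nat.card_eq_fintype_card] at h1
    generalize Nat.card Ω = n at *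
    generalize Nat.card G = g at *
    have : 5 ≤ n := by omega
    interval_cases n <;> simp [Nat.factorial] at h1 ⊢ <;> omega
  have hnt : Nontrivial Ω := Finite.one_lt_card_iff_nontrivial.1 (by omega)
  have hf : ∀ g : G, (∀ x : Ω, g • x = x) → g = 1 := fun g hg =>
    eq_of_smul_eq_smul (α := Ω) fun x => by rw [hg, one_smul]
  rcases subsingleton_or_nontrivial G with hG | hG
  · exact (Finite.card_le_one_iff_subsingleton.2 hG).trans (Nat.one_le_pow _ _ (by norm_num))
  obtain ⟨N, hN, h1, -, h3, h5⟩ := CL.SolvLin.exists_step (A := G) (Z := ⊥) (D := ⊤) bot_lt_top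
  have hab : ∀ a ∈ N, ∀ b ∈ N, a * b = b * a := fun a ha b hb =>
    commutatorElement_eq_one_iff_mul_comm.1 (mem_bot.1 (h3 a ha b hb))
  have htr : IsPretransitive N Ω := by
    refine hpr.isQuasiPreprimitive.isPretransitive_of_normal fun e => h1.ne' ?_
    refine (eq_bot_iff_forall _).2 fun g hg => hf g fun x => ?_
    exact (e ▸ Set.mem_univ x : x ∈ fixedPoints N Ω) ⟨g, hg⟩
  obtain ⟨ω⟩ : Nonempty Ω := inferInstance
  obtain ⟨⟨β, hβ, hb⟩, -⟩ := CL.SolvLin.baseLe_affine hf hab h5 (orbit_eq_univ N ω)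
  refine le_trans ?_ (pow_four_le _ (by omega))
  calc Nat.card G ≤ Nat.card (β → Ω) :=
        Nat.card_le_card_of_injective (fun g x => g • x.1) fun a b e =>
          (inv_mul_eq_one.1 (hf _ (hb _ fun x hx => by
            rw [mul_smul, ← show a • x = b • x from congrFun e ⟨x, hx⟩, inv_smul_smul])))
    _ = Nat.card Ω ^ β.card := by rw [Nat.card_fun]; simp
    _ ≤ _ := Nat.pow_le_pow_right (by omega) hβ

/-- A solvable permutation group of degree `n` has at most `3 ^ (n - 1)` classes. -/
theorem k_le_three_pow (G Ω : Type u) [Group G] [Finite G] [Finite Ω] [MulAction G Ω]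
    [FaithfulSMul G Ω] [hs : Group.IsSolvable G] :
    Nat.card (ConjClasses G) ≤ 3 ^ (Nat.card Ω - 1) := by
  rcases isEmpty_or_nonempty Ω with h | h
  · have : Subsingleton G := ⟨fun a b => eq_of_smul_eq_smul (α := Ω) fun x => isEmptyElim x⟩
    exact k_le_one.trans (Nat.one_le_pow _ _ (by norm_num))
  have := reduce.{u} 3 (by norm_num) (fun G _ => Group.IsSolvable G)
    (fun _ _ _ _ => inferInstance)
    (fun _ _ _ _ f _ => Group.isSolvable_of_surjective f.rangeRestrict_surjective)
    (fun G Ω _ _ _ _ _ _ hpr h2 _ => (k_le_card G).trans (card_le_three_pow_of_prim G Ω hpr h2))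
    _ G Ω hs rfl PUnit (fun _ => PUnit.unit) (fun _ => ⟨h.some, rfl⟩) (fun _ _ => rfl)
  simpa using this

theorem KQ.perm_three [Group.IsSolvable A] (Ω : Type u) [Finite Ω] [MulAction A Ω] :
    KQ ⊤ (toPermHom A Ω).ker (3 ^ (Nat.card Ω - 1)) := by
  refine KQ.of_ker _ fun S hS _ => ?_
  rw [← MonoidHom.range_eq_map] at hS
  have : Group.IsSolvable (toPermHom A Ω).range :=
    Group.isSolvable_of_surjective (toPermHom A Ω).rangeRestrict_surjective
  have : Group.IsSolvable S := Group.isSolvable_of_isSolvable_injective (inclusion_injective hS)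
  exact k_le_three_pow S Ω

theorem KQ.perm_factorial (Ω : Type*) [Finite Ω] [MulAction A Ω] :
    KQ ⊤ (toPermHom A Ω).ker (Nat.card Ω).factorial := by
  refine KQ.of_ker _ fun S _ _ => (k_le_card S).trans ?_
  rw [← Nat.card_perm]
  exact S.card_le_card_group

end CL.Ord.PC
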