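import Mathlib
import Cfsg.Agent.ORD.KQ

/-! Class numbers of small linear groups; invariant alternating pairings. -/

set_option autoImplicit false

namespace CL.Ord.PC

open MulAction Subgroup CL.SolvLin
open scoped Pointwise

universe u

theorem k_lt_of_centralizer {S : Type*} [Group S] [Finite S] (P : Set S) (h1 : (1 : S) ∈ P)
    {c : ℕ} (hc : 1 ≤ c) (h : ∀ x ∉ P, Nat.card (centralizer ({x} : Set S)) ≤ c) :
    Nat.card (ConjClasses S) < P.ncard + c := by
  classical
  have := Fintype.ofFinite S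
  have e : Nat.card (ConjClasses S) * Nat.card S = ∑ x : S, Nat.card (centralizer ({x} : Set S)) := by
    rw [← card_comm_eq_card_conjClasses_mul_card, ← Nat.card_sigma]
    refine Nat.card_congr ⟨fun p => ⟨p.1.1, p.1.2, mem_centralizer_singleton_iff.2 p.2.symm⟩,
      fun p => ⟨(p.1, p.2), (mem_centralizer_singleton_iff.1 p.2.2).symm⟩, fun _ => rfl, fun _ => rfl⟩
  have h2 : ∑ x : S, Nat.card (centralizer ({x} : Set S)) <
      ∑ x : S, ((if x ∈ P then Nat.card S else 0) + c) := by
    refine Finset.sum_lt_sum (fun x _ => ?_) ⟨1, Finset.mem_univ _, ?_⟩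
    · split_ifs with hx
      · exact (card_le_card_group _).trans (Nat.le_add_right _ _)
      · rw [zero_add]; exact h x hx
    · rw [if_pos h1]
      exact (card_le_card_group _).trans_lt (by omega)
  rw [← e, Finset.sum_add_distrib, ← Finset.sum_filter, Finset.sum_const, Finset.sum_const,
    smul_eq_mul, smul_eq_mul, Finset.card_univ, ← Nat.card_eq_fintype_card, mul_comm _ c,
    ← add_mul] at h2
  have h3 : (Finset.univ.filter (· ∈ P)).card = P.ncard := by
    rw [← Set.ncard_coe_finset]; congr 1; ext; simp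
  exact h3 ▸ lt_of_mul_lt_mul_right' h2

theorem card_le_mul_stab {S W : Type*} [Group S] [Finite S] [Finite W] [MulAction S W]
    (T : Subgroup S) (v : W) (D : Set W) (h : ∀ t ∈ T, t • v ∈ D) :
    Nat.card T ≤ D.ncard * Nat.card (T ⊓ stabilizer S v : Subgroup S) := by
  rw [← (stabilizer T v).index_mul_card, index_stabilizer]
  refine Nat.mul_le_mul (Set.ncard_le_ncard (by rintro _ ⟨t, rfl⟩; exact h t t.2)) (le_of_eq ?_)
  exact Nat.card_congr ⟨fun x => ⟨x.1.1, x.1.2, x.2⟩, fun x => ⟨⟨x.1, x.2.1⟩, x.2.2⟩,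
    fun _ => rfl, fun _ => rfl⟩

variable {W : Type*} [AddCommGroup W] {L : Type*} [Field L]

/-- A nondegenerate alternating pairing with values in a field. -/
structure Form (B : W → W → L) : Prop where
  left : ∀ x x' y, B (x + x') y = B x y * B x' y
  right : ∀ x y y', B x (y + y') = B x y * B x y'
  self : ∀ x, B x x = 1
  zero_right : ∀ x, B x 0 = 1
  nd : ∀ x, (∀ y, B x y = 1) → x = 0

namespace Form

variable {B : W → W → L} (h : Form B)
include h

theorem swap (x y : W) : B x y * B y x = 1 := by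
  have := h.self (x + y)
  rwa [h.left, h.right, h.right, h.self, h.self, one_mul, mul_one] at this

theorem zero_left (y : W) : B 0 y = 1 := by
  have := h.swap 0 y
  rwa [h.zero_right, mul_one] at this

theorem symm {x y : W} (e : B x y = 1) : B y x = 1 := by
  have := h.swap x y
  rwa [e, one_mul] at this

theorem sub_right {x y y' : W} (e : B x y = B x y') : B x (y - y') = 1 := by
  have h1 := h.right x y' (-y')
  rwa [add_neg_cancel, h.zero_right, ← e, ← h.right, ← sub_eq_add_neg, eq_comm] at h1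

theorem sub_left {x x' y : W} (e : B x y = B x' y) : B (x - x') y = 1 := by
  have h1 := h.left x' (-x') y
  rwa [add_neg_cancel, h.zero_left, ← e, ← h.left, ← sub_eq_add_neg, eq_comm] at h1

/-- The orthogonal complement. -/
def perp (U : Set W) : AddSubgroup W where
  carrier := {y | ∀ u ∈ U, B u y = 1}
  add_mem' {a b} ha hb u hu := by rw [h.right, ha u hu, hb u hu, one_mul]
  zero_mem' u _ := h.zero_right u
  neg_mem' {a} ha u hu := by
    rw [← zero_sub]
    exact h.sub_right (by rw [h.zero_right, ha u hu])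

theorem mem_perp {U : Set W} {y : W} : y ∈ h.perp U ↔ ∀ u ∈ U, B u y = 1 := Iff.rfl

theorem le_perp_comm {U U' : AddSubgroup W} (e : U ≤ h.perp U') : U' ≤ h.perp U :=
  fun y hy _ hu => h.symm (e hu y hy)

theorem mem_perp_zmultiples {x y : W} (e : B x y = 1) :
    y ∈ h.perp (AddSubgroup.zmultiples x) := fun u hu =>
  h.symm ((AddSubgroup.zmultiples_le.2 (show x ∈ h.perp {y} from fun _ hz => hz ▸ h.symm e) hu :)
    y rfl)

variable [Finite W]

theorem card_mul_perp (U : AddSubgroup W) : Nat.card U * Nat.card (h.perp U) = Nat.card W := by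
  have h1 : Nat.card U ≤ (h.perp U).index := by
    obtain ⟨_, h2⟩ := card_hom_le (Multiplicative (W ⧸ h.perp U)) L
    refine le_trans (Nat.card_le_card_of_injective (fun u : U => (AddMonoidHom.toMultiplicativeLeft
      (QuotientAddGroup.lift (h.perp U) (G := W) (M := Additive L)
        ⟨⟨fun y => Additive.ofMul (B u y), h.zero_right u⟩, h.right u⟩
        fun y hy => hy u u.2))) fun u u' e => ?_) h2
    refine Subtype.ext (sub_eq_zero.1 (h.nd _ fun y => h.sub_left ?_))
    exact DFunLike.congr_fun e (Multiplicative.ofAdd (y : W ⧸ h.perp U))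
  have h2 : (h.perp U).index ≤ Nat.card U := by
    obtain ⟨_, h2⟩ := card_hom_le (Multiplicative U) L
    refine le_trans (Nat.card_le_card_of_injective (fun c : W ⧸ h.perp U =>
      (⟨⟨fun u => B (Multiplicative.toAdd u : U) c.out, h.zero_left _⟩, fun a b => h.left _ _ _⟩ :
        Multiplicative U →* L)) fun c c' e => ?_) h2
    rw [← c.out_eq, ← c'.out_eq]
    refine QuotientAddGroup.eq.2 fun u hu => ?_
    rw [neg_add_eq_sub]
    exact h.sub_right (DFunLike.congr_fun e (Multiplicative.ofAdd ⟨u, hu⟩)).symm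
  rw [le_antisymm h1 h2, AddSubgroup.index_mul_card]

theorem exists_sq : ∃ e, Nat.card W = e ^ 2 := by
  obtain ⟨M, h1, hmax⟩ := Set.exists_max_image {M : AddSubgroup W | M ≤ h.perp M}
    (fun M => Nat.card M) (Set.toFinite _) ⟨⊥, (bot_le : (⊥ : AddSubgroup W) ≤ _)⟩
  have h2 : h.perp M = M := by
    refine le_antisymm (fun x hx => ?_) h1
    have h4 := AddSubgroup.zmultiples_le.2 hx
    have h3 : M = M ⊔ AddSubgroup.zmultiples x :=
      AddSubgroup.eq_of_le_of_card_ge le_sup_left (hmax _ (sup_le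
        (h.le_perp_comm (sup_le h1 h4)) (h.le_perp_comm (sup_le (h.le_perp_comm h4)
          (AddSubgroup.zmultiples_le.2 (h.mem_perp_zmultiples (h.self x)))))))
    rw [h3]
    exact AddSubgroup.mem_sup_right (AddSubgroup.mem_zmultiples x)
  exact ⟨Nat.card M, by rw [← h.card_mul_perp M, h2, sq]⟩

variable {S : Type*} [Group S] [Finite S] [DistribMulAction S W]

theorem card_le_mul_stab (hinv : ∀ (a : S) x y, B (a • x) (a • y) = B x y) (T : Subgroup S)
    (U : Set W) (hT : T ≤ fixingSubgroup S U) (v : W) :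
    Nat.card T ≤ Nat.card (h.perp U) * Nat.card (T ⊓ stabilizer S v : Subgroup S) := by
  refine (PC.card_le_mul_stab T v ((v + ·) '' h.perp U) fun t ht =>
    ⟨t • v - v, fun u hu => h.sub_right ?_, by simp⟩).trans (Nat.mul_le_mul_right _ ?_)
  · rw [← hinv t u v, (mem_fixingSubgroup_iff S).1 (hT ht) u hu]
  · rw [Set.ncard_image_of_injective _ (add_right_injective v)]
    exact le_rfl

end Form

theorem inf_stab_le_fixing {S : Type*} [Group S] [DistribMulAction S W] (U : AddSubgroup W)
    (v : W) : fixingSubgroup S (U : Set W) ⊓ stabilizer S v ≤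
      fixingSubgroup S ((U ⊔ AddSubgroup.zmultiples v : AddSubgroup W) : Set W) := fun t ht =>
  (mem_fixingSubgroup_iff S).2 fun _ hy => (sup_le (show U ≤ fix W t from fun u hu =>
    (mem_fixingSubgroup_iff S).1 ht.1 u hu) (AddSubgroup.zmultiples_le.2 ht.2) hy :)

theorem mul_card_le_of_lt [Finite W] {s k : ℕ} (hs : s.Prime) (hW : Nat.card W = s ^ k)
    {U U' : AddSubgroup W} (h : U < U') : s * Nat.card U ≤ Nat.card U' := by
  obtain ⟨i, -, hi⟩ := (Nat.dvd_prime_pow hs).1 (hW ▸ U.card_addSubgroup_dvd_card)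
  obtain ⟨j, -, hj⟩ := (Nat.dvd_prime_pow hs).1 (hW ▸ U'.card_addSubgroup_dvd_card)
  have h1 : Nat.card U < Nat.card U' := lt_of_le_of_ne (AddSubgroup.card_le_of_le h.le)
    fun e => h.ne (AddSubgroup.eq_of_le_of_card_ge h.le e.ge)
  rw [hi, hj, ← pow_succ'] at *
  exact Nat.pow_le_pow_right hs.pos ((Nat.pow_lt_pow_iff_right hs.one_lt).1 h1)

theorem fixing_top {S : Type*} [Group S] [DistribMulAction S W]
    (hf : ∀ g : S, (∀ w : W, g • w = w) → g = 1) :
    Nat.card (fixingSubgroup S ((⊤ : AddSubgroup W) : Set W)) = 1 :=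
  card_eq_one.2 ((eq_bot_iff_forall _).2 fun g hg =>
    hf g fun w => (mem_fixingSubgroup_iff S).1 hg w trivial)

theorem lt_sup_zmultiples {U : AddSubgroup W} {v : W} (hv : v ∉ U) :
    U < U ⊔ AddSubgroup.zmultiples v := lt_of_le_of_ne le_sup_left fun e =>
  hv (e ▸ AddSubgroup.mem_sup_right (AddSubgroup.mem_zmultiples v))

theorem Form.card_fixing_le {B : W → W → L} (h : Form B) [Finite W] {S : Type*} [Group S]
    [Finite S] [DistribMulAction S W] (hf : ∀ g : S, (∀ w : W, g • w = w) → g = 1)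
    (hinv : ∀ (a : S) x y, B (a • x) (a • y) = B x y) {s k : ℕ} (hs : s.Prime)
    (hW : Nat.card W = s ^ k) (j : ℕ) : ∀ U : AddSubgroup W, Nat.card W ≤ s ^ j * Nat.card U →
      Nat.card (fixingSubgroup S (U : Set W)) ≤ ∏ i ∈ Finset.range (j + 1), s ^ i := by
  induction j with
  | zero =>
    intro U hU
    rw [AddSubgroup.eq_top_of_le_card U (by simpa using hU), fixing_top hf]
    simp
  | succ j ih =>
    intro U hU
    by_cases hU' : U = ⊤
    · rw [hU', fixing_top hf]
      exact Finset.one_le_prod' fun i _ => Nat.one_le_pow _ _ hs.pos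
    obtain ⟨v, hv⟩ : ∃ v, v ∉ U := by
      by_contra hc
      push Not at hc
      exact hU' ((AddSubgroup.eq_top_iff' U).2 hc)
    have h1 := mul_card_le_of_lt hs hW (lt_sup_zmultiples hv)
    rw [Finset.prod_range_succ_comm]
    refine (h.card_le_mul_stab hinv _ U le_rfl v).trans (Nat.mul_le_mul ?_
      ((card_le_of_le (inf_stab_le_fixing U v)).trans (ih _ (hU.trans ?_))))
    · rw [← h.card_mul_perp U, mul_comm] at hU
      exact Nat.le_of_mul_le_mul_right hU Nat.card_pos
    · rw [pow_succ, mul_assoc]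
      exact Nat.mul_le_mul_left _ h1

/-- Class numbers through centralisers of non-scalar elements. -/
theorem k_lt_of_fixing' [Finite W] [Nontrivial W] {S : Type*} [Group S] [Finite S]
    [DistribMulAction S W] (hf : ∀ g : S, (∀ w : W, g • w = w) → g = 1) {s : ℕ} [Fact s.Prime]
    [Module (ZMod s) W] {c : ℕ} (hc : 1 ≤ c) (h : ∀ U : AddSubgroup W, s ^ 2 ≤ Nat.card U →
      Nat.card (fixingSubgroup S (U : Set W)) ≤ c) :
    Nat.card (ConjClasses S) < s - 1 + (Nat.card W - 1) * c := by
  classical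
  let φ : S → W →ₗ[ZMod s] W := fun g => (DistribSMul.toAddMonoidHom W g).toZModLinearMap s
  have hW1 : 1 < Nat.card W := Finite.one_lt_card
  obtain ⟨v₀, hv₀⟩ := exists_ne (0 : W)
  refine (k_lt_of_centralizer {g | ∃ a : ZMod s, ∀ w : W, g • w = a • w} ⟨1, by simp⟩
    (c := (Nat.card W - 1) * c) (Nat.mul_pos (by omega) hc) fun x hx => ?_).trans_le
    (Nat.add_le_add_right ?_ _)
  · obtain ⟨v, hv⟩ : ∃ v : W, LinearIndependent (ZMod s) ![v, φ x v] := by
      by_contra hc
      push Not at hc
      obtain ⟨a, ha⟩ := (φ x).exists_eq_smul_id_of_forall_notLinearIndependent hc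
      exact hx ⟨a, fun w => LinearMap.congr_fun ha w⟩
    have hv0 : v ≠ 0 := hv.ne_zero 0
    refine (card_le_mul_stab _ v {0}ᶜ fun t _ e => hv0 ((smul_eq_zero_iff_eq t).1 e)).trans
      (Nat.mul_le_mul ?_ (le_trans (card_le_of_le ?_)
        (h (Submodule.span (ZMod s) (Set.range ![v, φ x v])).toAddSubgroup ?_)))
    · rw [Set.ncard_compl, Set.ncard_singleton]
    · refine fun t ht => (mem_fixingSubgroup_iff S).2 fun y hy => ?_
      have : Submodule.span (ZMod s) (Set.range ![v, φ x v]) ≤ LinearMap.eqLocus (φ t) 1 := by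
        rw [Submodule.span_le]
        rintro _ ⟨i, rfl⟩
        fin_cases i
        · exact ht.2
        · change t • x • v = x • v
          rw [← mul_smul, mem_centralizer_singleton_iff.1 ht.1, mul_smul,
            show t • v = v from ht.2]
      exact this hy
    · change _ ≤ Nat.card (Submodule.span (ZMod s) (Set.range ![v, φ x v]))
      rw [Module.natCard_eq_pow_finrank (K := ZMod s), finrank_span_eq_card hv, Nat.card_zmod]
      simp
  · have h1 : ({0}ᶜ : Set (ZMod s)).ncard = s - 1 := by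
      rw [Set.ncard_compl, Set.ncard_singleton, Nat.card_zmod]
    rw [← h1]
    refine Set.ncard_le_ncard_of_injOn
      (fun g => if hg : ∃ a : ZMod s, ∀ w : W, g • w = a • w then hg.choose else 0)
      (fun g hg e => ?_) fun g hg g' hg' e => ?_
    · have hg : ∃ a : ZMod s, ∀ w : W, g • w = a • w := hg
      rw [dif_pos hg, Set.mem_singleton_iff] at e
      exact hv₀ ((smul_eq_zero_iff_eq g).1 (by rw [hg.choose_spec, e, zero_smul]))
    · have hg : ∃ a : ZMod s, ∀ w : W, g • w = a • w := hg
      have hg' : ∃ a : ZMod s, ∀ w : W, g' • w = a • w := hg'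
      simp only [dif_pos hg, dif_pos hg'] at e
      refine (inv_mul_eq_one.1 (hf _ fun w => ?_)).symm
      rw [mul_smul, hg.choose_spec, e, ← hg'.choose_spec, inv_smul_smul]

theorem k_lt_of_fixing [Finite W] [Nontrivial W] {S : Type*} [Group S] [Finite S]
    [DistribMulAction S W] (hf : ∀ g : S, (∀ w : W, g • w = w) → g = 1) {s : ℕ} (hs : s.Prime)
    (hW : ∀ w : W, s • w = 0) {c : ℕ} (hc : 1 ≤ c) (h : ∀ U : AddSubgroup W, s ^ 2 ≤ Nat.card U →
      Nat.card (fixingSubgroup S (U : Set W)) ≤ c) :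
    Nat.card (ConjClasses S) < s - 1 + (Nat.card W - 1) * c :=
  have := Fact.mk hs
  @k_lt_of_fixing' W _ _ _ S _ _ _ hf s _ (AddCommGroup.zmodModule hW) c hc h

theorem k_lt_of_card_le_sq [Finite W] [Nontrivial W] {S : Type*} [Group S] [Finite S]
    [DistribMulAction S W] (hf : ∀ g : S, (∀ w : W, g • w = w) → g = 1) {s : ℕ} (hs : s.Prime)
    (hW : ∀ w : W, s • w = 0) (hc : Nat.card W ≤ s ^ 2) :
    Nat.card (ConjClasses S) < s - 1 + (Nat.card W - 1) := by
  have := k_lt_of_fixing hf hs hW le_rfl fun U hU => by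
    rw [AddSubgroup.eq_top_of_le_card U (hc.trans hU), fixing_top hf]
  rwa [mul_one] at this

theorem k_le_of_card_eight [Finite W] {S : Type*} [Group S] [Finite S]
    [DistribMulAction S W] (hf : ∀ g : S, (∀ w : W, g • w = w) → g = 1)
    (hW : ∀ w : W, 2 • w = 0) (hc : Nat.card W = 8) : Nat.card (ConjClasses S) ≤ 28 := by
  have : Nontrivial W := Finite.one_lt_card_iff_nontrivial.1 (by omega)
  have := k_lt_of_fixing hf Nat.prime_two hW (c := 4) (by norm_num) fun U hU => by
    by_cases hU' : U = ⊤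
    · rw [hU', fixing_top hf]; norm_num
    obtain ⟨v, hv⟩ : ∃ v, v ∉ U := by
      by_contra hc
      push Not at hc
      exact hU' ((AddSubgroup.eq_top_iff' U).2 hc)
    have h1 := mul_card_le_of_lt Nat.prime_two (k := 3) hc (lt_sup_zmultiples hv)
    have h2 := card_le_of_le (inf_stab_le_fixing (S := S) U v)
    rw [AddSubgroup.eq_top_of_le_card (U ⊔ _) (by omega), fixing_top hf] at h2
    refine (card_le_mul_stab _ v (U : Set W)ᶜ fun t ht e => hv ?_).trans
      ((Nat.mul_le_mul ?_ h2).trans_eq (mul_one 4))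
    · have := (mem_fixingSubgroup_iff S).1 ht _ e
      rwa [← (smul_left_cancel_iff t).1 this]
    · rw [Set.ncard_compl, hc, ← Nat.card_coe_set_eq]
      change 8 - Nat.card U ≤ 4
      omega
  omega

end CL.Ord.PC
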