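import Mathlib
import Cfsg.Agent.ORD.SpCls

/-! Class numbers of solvable groups preserving an alternating pairing. -/

set_option autoImplicit false

namespace CL.Ord.PC

open MulAction Subgroup CL.SolvLin
open scoped Pointwise commutatorElement

universe u

section
variable {A : Type u} [Group A] {V : Type*} [AddCommGroup V] [DistribMulAction A V]

theorem str_mem_of_comm [Finite A] {Z E : Subgroup A} (h : Str V Z E) {L : Type*} [Field L]
    (j : Z →* L) (hj : Function.Injective j) {g : A} (hg : g ∈ centralizer (Z : Set A))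
    (hc : ∀ y ∈ E, ⁅g, y⁆ ∈ Z) : g ∈ E := by
  have := h.Zn
  let K : Subgroup A :=
    { carrier := {g | g ∈ centralizer (Z : Set A) ∧ ∀ y ∈ E, ⁅g, y⁆ ∈ Z}
      one_mem' := ⟨one_mem _, fun y _ => by simp⟩
      mul_mem' := fun {a b} ha hb => ⟨mul_mem ha.1 hb.1, fun y hy => by
        have : ⁅a * b, y⁆ = a * ⁅b, y⁆ * a⁻¹ * ⁅a, y⁆ := by
          simp only [commutatorElement_def]; group
        rw [this]
        exact mul_mem (h.Zn.conj_mem _ (hb.2 y hy) a) (ha.2 y hy)⟩
      inv_mem' := fun {a} ha => ⟨inv_mem ha.1, fun y hy => by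
        have : ⁅a⁻¹, y⁆ = a⁻¹ * ⁅a, y⁆⁻¹ * a⁻¹⁻¹ := by
          simp only [commutatorElement_def]; group
        rw [this]
        exact h.Zn.conj_mem _ (inv_mem (ha.2 y hy)) _⟩ }
  have hEK : E ≤ K := fun x hx => ⟨fun z hz => h.cen z hz x hx, h.comm x hx⟩
  have := h.normal_subgroupOf le_rfl le_rfl
  have h1 := pair_le (K := K) (U := E) (U₀ := Z) j hj h.cen (fun k hk => hk.2) fun k hk u hu =>
    commutatorElement_eq_one_iff_mul_comm.2 (hk.1 u hu).symm
  rw [h.centralizer_eq, ← relIndex_mul_relIndex Z E K h.le hEK] at h1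
  have h2 : E.relIndex K = 1 := by
    have h3 : Z.relIndex E ≠ 0 := FiniteIndex.index_ne_zero
    have h4 : E.relIndex K ≠ 0 := FiniteIndex.index_ne_zero
    have := Nat.le_of_mul_le_mul_left (h1.trans_eq (mul_one _).symm) (Nat.pos_of_ne_zero h3)
    omega
  exact relIndex_eq_one.1 h2 ⟨hg, hc⟩

/-- The symplectic section `E / Z`. -/
theorem str_section [Finite A] {Z E : Subgroup A} (h : Str V Z E) {L : Type*} [Field L]
    (j : Z →* L) (hj : Function.Injective j) :
    ∃ (W : Type u) (_ : AddCommGroup W) (_ : Finite W) (_ : DistribMulAction A W) (B : W → W → L),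
      Nat.card W = Z.relIndex E ∧ Form B ∧
      (∀ U : AddSubgroup W, (∀ a : A, ∀ v ∈ U, a • v ∈ U) → ∀ x ∈ U, (∀ y ∈ U, B x y = 1) → x = 0) ∧
      (∀ g ∈ centralizer (Z : Set A), (∀ w : W, g • w = w) ↔ g ∈ E) ∧
      ∀ c ∈ centralizer (Z : Set A), ∀ x y, B (c • x) (c • y) = B x y := by
  have := h.Zn
  have := h.En
  let π := QuotientGroup.mk' Z
  have hπ : Function.Surjective π := QuotientGroup.mk'_surjective Z
  have hk : π.ker = Z := QuotientGroup.ker_mk' Z
  have hk' : ∀ a, π a = 1 ↔ a ∈ Z := fun a => QuotientGroup.eq_one_iff a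
  let N := E.map π
  have : N.Normal := h.En.map π hπ
  have hab : ∀ a ∈ N, ∀ b ∈ N, a * b = b * a := by
    rintro _ ⟨a, ha, rfl⟩ _ ⟨b, hb, rfl⟩
    rw [← commutatorElement_eq_one_iff_mul_comm, ← map_commutatorElement, hk']
    exact h.comm a ha b hb
  let W := AbMod N hab
  let mk : E → W := fun x => AbMod.mk hab (π x) ⟨x, x.2, rfl⟩
  have hmk : Function.Surjective mk := fun w => by
    obtain ⟨x, hx, e⟩ := w.val_mem
    exact ⟨⟨x, hx⟩, AbMod.val_inj e⟩
  have hmul : ∀ a b, mk (a * b) = mk a + mk b := fun a b => AbMod.val_inj (π.map_mul _ _)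
  have hone : ∀ a : E, mk a = 0 ↔ (a : A) ∈ Z := fun a =>
    ⟨fun e => (hk' _).1 (congrArg AbMod.val e), fun e => AbMod.val_inj ((hk' _).2 e)⟩
  let : DistribMulAction A W := DistribMulAction.compHom W π
  have hfs : ∀ (a : A) (x : E), a • mk x = mk (MulAut.conjNormal a x) := fun a x =>
    AbMod.val_inj (by
      change π a * π x * (π a)⁻¹ = π (a * x * a⁻¹)
      simp only [map_mul, map_inv])
  choose s hs using hmk
  let b : E → E →* L := fun x => commHom j h.cen (h.comm x x.2)
  have hb : ∀ x y : E, b (s (mk x)) (s (mk y)) = b x y := by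
    intro x y
    have h1 : ∀ x : E, ∃ z ∈ Z, (s (mk x) : A) = x * z := fun x =>
      ⟨(x : A)⁻¹ * s (mk x), QuotientGroup.eq.1 (congrArg AbMod.val (hs (mk x))).symm, by group⟩
    obtain ⟨z, hz, e⟩ := h1 x
    obtain ⟨z', hz', e'⟩ := h1 y
    refine congrArg j (Subtype.ext ?_)
    change ⁅(s (mk x) : A), (s (mk y) : A)⁆ = ⁅(x : A), (y : A)⁆
    have c1 := h.cen z hz _ (mul_mem y.2 (h.le hz'))
    have c2 := h.cen z' hz' _ (inv_mem x.2)
    rw [e, e']
    simp only [commutatorElement_def]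
    calc _ = x * (z * (y * z')) * z⁻¹ * (x : A)⁻¹ * z'⁻¹ * (y : A)⁻¹ := by group
      _ = x * y * (z' * (x : A)⁻¹) * z'⁻¹ * (y : A)⁻¹ := by rw [c1]; group
      _ = _ := by rw [c2]; group
  have hmk : ∀ w, ∃ x, mk x = w := fun w => ⟨s w, hs w⟩
  have hcomm : ∀ x y : E, b x y = 1 → (x : A) * y = y * x := fun x y h1 => by
    rw [← j.map_one] at h1
    exact commutatorElement_eq_one_iff_mul_comm.1 (congrArg Subtype.val (hj h1))
  have hleft : ∀ x x' y : E, b (x * x') y = b x y * b x' y := fun x x' y => by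
    rw [mul_comm]
    change j _ = j _ * j _
    rw [← map_mul]
    refine congrArg j (Subtype.ext ?_)
    change ⁅(x : A) * x', (y : A)⁆ = ⁅(x' : A), (y : A)⁆ * ⁅(x : A), (y : A)⁆
    have := h.cen _ (h.comm x' x'.2 y y.2) x x.2
    calc _ = x * ⁅(x' : A), (y : A)⁆ * (x : A)⁻¹ * ⁅(x : A), (y : A)⁆ := by
          simp only [commutatorElement_def]; group
      _ = _ := by rw [← this]; group
  refine ⟨W, inferInstance, inferInstance, inferInstance, fun v w => b (s v) (s w), ?_,
    ⟨?_, ?_, ?_, ?_, ?_⟩, ?_, ?_, ?_⟩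
  · rw [AbMod.card, ← relIndex_ker, hk]
  · intro x x' y
    obtain ⟨x, rfl⟩ := hmk x
    obtain ⟨x', rfl⟩ := hmk x'
    obtain ⟨y, rfl⟩ := hmk y
    simp only [← hmul, hb, hleft]
  · intro x y y'
    obtain ⟨x, rfl⟩ := hmk x
    obtain ⟨y, rfl⟩ := hmk y
    obtain ⟨y', rfl⟩ := hmk y'
    simp only [← hmul, hb, map_mul]
  · intro x
    change j _ = 1
    rw [← j.map_one]
    exact congrArg j (Subtype.ext (commutatorElement_self _))
  · intro x
    obtain ⟨x, rfl⟩ := hmk x
    simp only [← (hone 1).2 (one_mem Z), hb, map_one]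
  · intro x hx
    obtain ⟨x, rfl⟩ := hmk x
    refine (hone x).2 (h.selfc x fun y hy => ?_)
    have h1 := hx (mk ⟨y, hy⟩)
    simp only [hb] at h1
    exact (hcomm _ _ h1).symm
  · intro U hU x hx h1
    obtain ⟨x, rfl⟩ := hmk x
    let T : Subgroup E :=
      { carrier := {y | mk y ∈ U}
        one_mem' := by change mk 1 ∈ U; rw [(hone 1).2 (one_mem Z)]; exact zero_mem U
        mul_mem' := fun {a c} ha hc => by change mk _ ∈ U; rw [hmul]; exact add_mem ha hc
        inv_mem' := fun {a} ha => by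
          change mk _ ∈ U
          have : mk a⁻¹ = -mk a := by
            rw [eq_neg_iff_add_eq_zero, ← hmul, inv_mul_cancel]; exact (hone 1).2 (one_mem Z)
          rw [this]; exact neg_mem ha }
    have hT : (T.map E.subtype).Normal := ⟨by
      rintro _ ⟨y, hy, rfl⟩ a
      exact ⟨MulAut.conjNormal a y, by change mk _ ∈ U; rw [← hfs]; exact hU a _ hy, rfl⟩⟩
    have hZT : Z ≤ T.map E.subtype := fun z hz => ⟨⟨z, h.le hz⟩, by
      change mk _ ∈ U; rw [(hone _).2 hz]; exact zero_mem U, rfl⟩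
    refine (hone x).2 (h.maxab (T.map E.subtype ⊓ centralizer (T.map E.subtype : Set A))
      inferInstance (fun a ha c hc => hc.2 a ha.1) (le_inf hZT fun z hz => ?_)
      ⟨⟨x, hx, rfl⟩, ?_⟩)
    · rintro _ ⟨y, -, rfl⟩
      exact (h.cen z hz y y.2).symm
    · rintro _ ⟨y, hy, rfl⟩
      have := h1 _ hy
      simp only [hb] at this
      exact (hcomm _ _ this).symm
  · intro g hg
    constructor
    · intro h1
      refine str_mem_of_comm h j hj hg fun y hy => ?_
      have h2 := hfs g ⟨y, hy⟩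
      rw [h1] at h2
      have h3 : π y = π (g * y * g⁻¹) := congrArg AbMod.val h2
      rw [← hk', commutatorElement_def, map_mul, ← h3, map_inv, mul_inv_cancel]
    · intro h1 w
      obtain ⟨x, rfl⟩ := hmk w
      exact AbMod.val_inj (by
        change π g * π x * (π g)⁻¹ = π x
        rw [hab _ ⟨g, h1, rfl⟩ _ ⟨x, x.2, rfl⟩, mul_inv_cancel_right])
  · intro c hc x y
    obtain ⟨x, rfl⟩ := hmk x
    obtain ⟨y, rfl⟩ := hmk y
    simp only [hfs, hb]
    refine congrArg j (Subtype.ext ?_)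
    change ⁅c * x * c⁻¹, c * y * c⁻¹⁆ = ⁅(x : A), (y : A)⁆
    have := hc _ (h.comm x x.2 y y.2)
    calc _ = c * ⁅(x : A), (y : A)⁆ * c⁻¹ := by simp only [commutatorElement_def]; group
      _ = _ := by rw [← this]; group

end

variable {A W : Type u} [Group A] [AddCommGroup W] [DistribMulAction A W]

theorem mem_fixing_top {a : A} :
    a ∈ fixingSubgroup A ((⊤ : AddSubgroup W) : Set W) ↔ ∀ w : W, a • w = w :=
  (mem_fixingSubgroup_iff A).trans ⟨fun h w => h w trivial, fun h w _ => h w⟩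

theorem KQ.of_img [Finite A] {a : ℕ} (h : ∀ S : Subgroup (Img A W), Nat.card (ConjClasses S) ≤ a) :
    KQ ⊤ (fixingSubgroup A ((⊤ : AddSubgroup W) : Set W)) a :=
  (KQ.of_ker (toImg W) fun S _ _ => h S).congr fun _ _ =>
    ⟨fun h => mem_fixing_top.2 fun w => by rw [← toImg_smul, h, one_smul],
      fun h => img_faithful _ (mem_fixing_top.1 h)⟩

theorem KQ.of_res {H : Subgroup A} {U : AddSubgroup W} (h : Inv H U) {a : ℕ}
    (hk : letI := resAct H U h; KQ ⊤ (fixingSubgroup H ((⊤ : AddSubgroup U) : Set U)) a) :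
    KQ H (fixingSubgroup A (U : Set W)) a := by
  let := resAct H U h
  refine KQ.of_subgroupOf (hk.congr fun x _ => mem_fixing_top.trans ?_)
  exact ⟨fun e => (mem_fixingSubgroup_iff A).2 fun u hu => congrArg Subtype.val (e ⟨u, hu⟩),
    fun e u => Subtype.ext ((mem_fixingSubgroup_iff A).1 e u u.2)⟩

theorem sub_faithful (S : Subgroup (Img A W)) (g : S) (h : ∀ w : W, g • w = w) : g = 1 :=
  Subtype.ext (img_faithful _ h)

/-- The imprimitive case. -/
theorem KQ.of_indep [Finite A] [Finite W] (hirr : Irr A W) {U : AddSubgroup W} (hU : U ≠ ⊥)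
    {s b : ℕ} (hW : ∀ w : W, s • w = 0)
    (hb : ∀ (S V : Type u) [Group S] [Finite S] [AddCommGroup V] [Finite V] [DistribMulAction S V],
      (∀ g : S, (∀ v : V, g • v = v) → g = 1) → (∀ v : V, s • v = 0) → Nat.card V = Nat.card U →
      Nat.card (ConjClasses S) ≤ b) :
    KQ ⊤ (fixingSubgroup A ((⊤ : AddSubgroup W) : Set W))
      ((Nat.card (orbit A U)).factorial * b ^ Nat.card (orbit A U)) := by
  have : Finite (orbit A U) := Finite.finite_mulAction_orbit U
  have := Fintype.ofFinite (orbit A U)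
  obtain ⟨g, hg⟩ := exists_reps (A := A) U
  set N := (toPermHom A (orbit A U)).ker
  have hN : ∀ l : orbit A U, Inv N l.1 := fun l a ha =>
    inv_stabilizer l.1 a (congrArg Subtype.val (DFunLike.congr_fun ha l))
  have h1 : ∀ l : orbit A U, KQ N (fixingSubgroup A (l.1 : Set W)) b := fun l => by
    let := resAct N l.1 (hN l)
    have : Finite (Img N l.1) := Finite.of_surjective _ toImg_surj
    refine KQ.of_res (hN l) (KQ.of_img fun S => hb S l.1 (sub_faithful S)
      (fun v => Subtype.ext (hW v)) ?_)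
    rw [← hg l]
    exact Nat.card_congr (AddSubgroup.equivMapOfInjective U
      (DistribMulAction.toAddMonoidEnd A W (g l)) (MulAction.injective (g l))).toEquiv.symm
  have h2 := (KQ.perm_factorial (A := A) (orbit A U)).trans
    ((KQ.iInf Finset.univ _ _ fun l _ => h1 l).anti inf_le_right)
  rw [Finset.prod_const, Finset.card_univ, ← Nat.card_eq_fintype_card] at h2
  refine h2.congr fun a _ => ⟨fun ha => mem_fixing_top.2 fun v => ?_, fun ha => ⟨?_, ?_⟩⟩
  · obtain ⟨y, hy, rfl⟩ := exists_decomp hirr hU (inv_stabilizer U) g hg v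
    rw [Finset.smul_sum]
    exact Finset.sum_congr rfl fun l hl => (mem_fixingSubgroup_iff A).1
      (mem_iInf.1 (mem_iInf.1 ha.2 l) hl) _ (hg l ▸ hy l)
  · refine Equiv.ext fun l => Subtype.ext (AddSubgroup.ext fun w => ?_)
    change w ∈ a • l.1 ↔ w ∈ l.1
    rw [AddSubgroup.mem_pointwise_smul_iff_inv_smul_mem, mem_fixing_top.1 (inv_mem ha)]
  · exact mem_iInf.2 fun l => mem_iInf.2 fun _ =>
      (mem_fixingSubgroup_iff A).2 fun w _ => mem_fixing_top.1 ha w

theorem Form.singer {L : Type*} [Field L] {B : W → W → L} (h : Form B) [Finite W] [Finite A]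
    (hinv : ∀ (a : A) x y, B (a • x) (a • y) = B x y) (h2 : ∀ w : W, 2 • w = 0) {Z : Subgroup A}
    (hab : ∀ a ∈ Z, ∀ b ∈ Z, a * b = b * a) (hf : ∀ z ∈ Z, ∀ v : W, z • v = v → z = 1 ∨ v = 0)
    (hc : Nat.card Z + 1 = Nat.card W) {z : A} (hz : z ∈ Z) : z ^ 3 = 1 := by
  have : Nontrivial W := Finite.one_lt_card_iff_nontrivial.1 (by
    have : 0 < Nat.card Z := Nat.card_pos
    omega)
  obtain ⟨x, hx⟩ := exists_ne (0 : W)
  have hinj : ∀ a ∈ Z, ∀ b ∈ Z, a • x = b • x → a = b := fun a ha b hb e =>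
    (inv_mul_eq_one.1 ((hf _ (mul_mem (inv_mem hb) ha) x (by
      rw [mul_smul, e, inv_smul_smul])).resolve_right hx)).symm
  have htr : ∀ y : W, y ≠ 0 → ∃ u ∈ Z, u • x = y := by
    intro y hy
    have hb := (Function.Injective.bijective_of_nat_card_le
      (f := fun u : Z => (⟨u.1 • x, fun e => hx ((smul_eq_zero_iff_eq _).1 e)⟩ : {w : W // w ≠ 0}))
      (fun a b e => Subtype.ext (hinj _ a.2 _ b.2 (congrArg Subtype.val e))) (by
        classical
        have := (Finite.card_option (α := {w : W // w ≠ 0})).symm.trans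
          (Nat.card_congr (Equiv.optionSubtypeNe (0 : W)))
        omega)).2
    obtain ⟨u, hu⟩ := hb ⟨y, hy⟩
    exact ⟨u, u.2, congrArg Subtype.val hu⟩
  by_cases hz1 : z = 1
  · rw [hz1, one_pow]
  have hneg : ∀ w : W, -w = w := fun w => by rw [neg_eq_iff_add_eq_zero, ← two_nsmul, h2]
  obtain ⟨u, hu, e⟩ := htr (x + z • x) fun e => hz1 (hinj _ hz _ (one_mem Z) (by
    rw [one_smul, eq_neg_of_add_eq_zero_right e, hneg]))
  have e1 : ∀ y : W, u • y = y + z • y := fun y => by
    by_cases hy : y = 0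
    · simp [hy]
    obtain ⟨w, hw, rfl⟩ := htr y hy
    rw [← mul_smul, hab u hu w hw, mul_smul, e, smul_add, ← mul_smul, ← mul_smul, hab w hw z hz]
  have e2 : u⁻¹ • x = x + z⁻¹ • x := by
    refine sub_eq_zero.1 (h.nd _ fun t => h.sub_left ?_)
    rw [← hinv u, smul_inv_smul, e1, h.right, h.left, ← hinv z (z⁻¹ • x), smul_inv_smul]
  have e3 : z = u * u := by
    have := congrArg (z • ·) e2
    simp only [smul_add, smul_inv_smul] at this
    rw [add_comm, ← e1, ← mul_smul] at this
    rw [← mul_inv_eq_iff_eq_mul, hinj _ (mul_mem hz (inv_mem hu)) _ hu this]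
  have e4 : u * z = 1 := hinj _ (mul_mem hu hz) _ (one_mem Z) (by
    have h3 : z • x = u • x + x := by rw [e1, add_right_comm, ← two_nsmul, h2, zero_add]
    rw [mul_smul, h3, smul_add, ← mul_smul, ← e3, h3, add_right_comm, ← two_nsmul, h2, zero_add,
      one_smul])
  calc z ^ 3 = (u * z) * (u * z) := by rw [e3]; simp only [pow_succ, pow_zero, one_mul, mul_assoc]
    _ = 1 := by rw [e4, one_mul]

theorem Form.card_le_of_prim {L : Type*} [Field L] {B : W → W → L} (h : Form B) [Finite W]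
    [Finite A] [Group.IsSolvable A] (hinv : ∀ (a : A) x y, B (a • x) (a • y) = B x y)
    (h2 : ∀ w : W, 2 • w = 0) (hp : Prim A W) :
    (Nat.card W = 16 → Nat.card A ≤ 27) ∧ (Nat.card W = 64 → Nat.card A ≤ 2187) := by
  by_cases hW : Nat.card W = 16 ∨ Nat.card W = 64
  swap
  · omega
  have : Nontrivial W := Finite.one_lt_card_iff_nontrivial.1 (by omega)
  obtain ⟨Z, E, hs⟩ := exists_str hp
  obtain ⟨q, e, -, h4, h5, h6, h7, h8, h9, -⟩ := hs.params
  have hZ := card_dvd_of_fpf (W := W) Z fun g hg h1 w e => (hs.fpf g hg w e).resolve_left h1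
  have hcyc := hs.field.1
  have hZ3 : Nat.card Z + 1 ≠ Nat.card W := fun e => by
    have : Nat.card Z ∣ 3 := by
      rw [← IsCyclic.exponent_eq_card]
      exact Monoid.exponent_dvd_of_forall_pow_eq_one fun z =>
        Subtype.ext (h.singer hinv h2 (fun a ha b hb => hs.ab ha hb) hs.fpf e z.2)
    have := Nat.le_of_dvd (by norm_num) this
    omega
  have hEC : E ≤ centralizer (Z : Set A) := fun x hx z hz => hs.cen z hz x hx
  have hA : Nat.card A = Nat.card Z * (e ^ 2 * (E.relIndex (centralizer (Z : Set A)) *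
      (centralizer (Z : Set A)).index)) := by
    rw [relIndex_mul_index hEC, ← h5, relIndex_mul_index hs.le, card_mul_index]
  have hi := hs.index_le
  rcases h6.eq_or_lt with rfl | h6
  · have hE : E = Z := le_antisymm (relIndex_eq_one.1 (by simpa using h5)) hs.le
    have h1 : E.relIndex (centralizer (Z : Set A)) = 1 :=
      relIndex_eq_one.2 (by rw [← hE, hs.centralizer_eq, hE])
    rw [h1] at hA
    have hA' : Nat.card A ≤ Nat.card Z * Nat.card Z := by
      rw [hA]; exact Nat.mul_le_mul_left _ (by simpa using hi)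
    generalize Nat.card Z = z at *
    constructor <;> intro hc <;> rw [hc] at hZ hZ3
    · have : z ≤ 5 := by
        by_contra
        have := Nat.le_of_dvd (by norm_num) hZ
        interval_cases z <;> omega
      nlinarith
    · have : z ≤ 21 := by
        by_contra
        have := Nat.le_of_dvd (by norm_num) hZ
        interval_cases z <;> omega
      nlinarith
  obtain ⟨r, hr, hre⟩ := Nat.exists_prime_and_dvd h6.ne'
  obtain ⟨h10, h11⟩ := h8 r hr hre
  have hr3 : 3 ≤ r := by
    rcases hr.two_le.eq_or_lt with rfl | h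
    · have := h10.trans hZ
      omega
    · exact h
  have he3 : 3 ≤ e := hr3.trans (Nat.le_of_dvd (by omega) hre)
  have h12 : q ^ 3 ≤ q ^ e := Nat.pow_le_pow_right (by omega) he3
  have h13 : 4 ^ 3 ≤ q ^ 3 := Nat.pow_le_pow_left (by omega) 3
  have hq : q = 4 := by
    by_contra
    have : 5 ^ 3 ≤ q ^ 3 := Nat.pow_le_pow_left (by omega) 3
    omega
  subst hq
  have he : e = 3 := by
    by_contra
    have : 4 ^ 4 ≤ 4 ^ e := Nat.pow_le_pow_right (by omega) (by omega)
    omega
  subst he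
  refine ⟨fun _ => by omega, fun _ => ?_⟩
  obtain ⟨j, hj⟩ := exists_hom_complex Z
  obtain ⟨W', _, _, _, B', a1, a2, -, a4, a5⟩ := str_section hs j hj
  have : Finite (Img A W') := Finite.of_surjective _ toImg_surj
  let S := (centralizer (Z : Set A)).map (toImg W')
  have a6 := a2.card_fixing_le (sub_faithful S) (by
    rintro ⟨_, c, hc, rfl⟩
    exact a5 c hc) Nat.prime_three (k := 2) (a1.trans h5) 2 ⊥ (by simp [a1, h5])
  have a7 : E.relIndex (centralizer (Z : Set A)) ≤ 27 := by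
    have b1 : fixingSubgroup S ((⊥ : AddSubgroup W') : Set W') = ⊤ :=
      eq_top_iff.2 fun g _ => (mem_fixingSubgroup_iff S).2 fun w hw => by
        rw [AddSubgroup.mem_bot.1 hw, smul_zero]
    rw [b1, card_top, ← relIndex_ker] at a6
    refine le_trans (le_of_eq ?_) a6
    rw [← inf_relIndex_right, ← inf_relIndex_right (toImg W').ker]
    congr 1
    ext g
    exact and_congr_left fun hg => ⟨fun h1 => img_faithful _ ((a4 g hg).2 h1), fun h1 =>
      (a4 g hg).1 fun w => by rw [← toImg_smul, h1, one_smul]⟩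
  rw [hA]
  calc _ ≤ 3 * (3 ^ 2 * (27 * 3)) := by gcongr <;> omega
    _ = _ := by norm_num

theorem Form.two_mul_card_le {L : Type*} [Field L] {B : W → W → L} (h : Form B) [Finite W]
    [Finite A] [Group.IsSolvable A] (hinv : ∀ (a : A) x y, B (a • x) (a • y) = B x y)
    (hf : ∀ g : A, (∀ w : W, g • w = w) → g = 1) (hcr : CR A W) [Nontrivial W] :
    2 * Nat.card A ≤ Nat.card W ^ 3 := by
  obtain ⟨x, hx⟩ := hasBase_three hcr
  have hW : 2 ≤ Nat.card W := Finite.one_lt_card
  by_cases h0 : ∀ i, x i = 0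
  · have : Nat.card A ≤ 1 := Finite.card_le_one_iff_subsingleton.2
      (subsingleton_of_forall_eq 1 fun g => hf g (hx g fun i => by rw [h0, smul_zero]))
    have := Nat.pow_le_pow_left hW 3
    omega
  push Not at h0
  obtain ⟨i, hi⟩ := h0
  let y := x ∘ Equiv.swap 0 i
  have hy : y 0 ≠ 0 := by simpa [y] using hi
  have a1 := PC.card_le_mul_stab (⊤ : Subgroup A) (y 0) Set.univ fun _ _ => trivial
  have a2 := h.card_le_mul_stab hinv (⊤ ⊓ stabilizer A (y 0)) (AddSubgroup.zmultiples (y 0))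
    (fun t ht => (mem_fixingSubgroup_iff A).2 fun w hw =>
      (AddSubgroup.zmultiples_le.2 (show y 0 ∈ fix W t from ht.2) hw :)) (y 1)
  have a3 := PC.card_le_mul_stab (⊤ ⊓ stabilizer A (y 0) ⊓ stabilizer A (y 1)) (y 2) Set.univ
    fun _ _ => trivial
  have a4 : ⊤ ⊓ stabilizer A (y 0) ⊓ stabilizer A (y 1) ⊓ stabilizer A (y 2) = ⊥ :=
    (eq_bot_iff_forall _).2 fun g hg => hf g (hx g fun k => by
      obtain ⟨k, rfl⟩ := (Equiv.swap 0 i).surjective k
      fin_cases k
      · exact hg.1.1.2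
      · exact hg.1.2
      · exact hg.2)
  have a5 := h.card_mul_perp (AddSubgroup.zmultiples (y 0))
  have a6 : 2 ≤ Nat.card (AddSubgroup.zmultiples (y 0)) :=
    (AddSubgroup.one_lt_card_iff_ne_bot _).2 (by simpa using hy)
  rw [a4, card_bot, mul_one] at a3
  rw [Set.ncard_univ] at a1 a3
  rw [card_top] at a1
  calc 2 * Nat.card A ≤ Nat.card (AddSubgroup.zmultiples (y 0)) * (Nat.card W *
        (Nat.card (h.perp (AddSubgroup.zmultiples (y 0))) * Nat.card W)) :=
        Nat.mul_le_mul a6 (a1.trans (Nat.mul_le_mul_left _ (a2.trans (Nat.mul_le_mul_left _ a3))))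
    _ = Nat.card W * (Nat.card (AddSubgroup.zmultiples (y 0)) *
        Nat.card (h.perp (AddSubgroup.zmultiples (y 0)))) * Nat.card W := by ring
    _ = _ := by rw [a5]; ring

theorem pow_six_le (n : ℕ) (h : 16 ≤ n) : (n ^ 2) ^ 3 ≤ 2 * 3 ^ (n - 1) := by
  induction n, h using Nat.le_induction with
  | base => norm_num
  | succ n hn ih =>
    obtain ⟨m, rfl⟩ : ∃ m, n = m + 1 := ⟨n - 1, by omega⟩
    simp only [Nat.add_sub_cancel, ← pow_mul] at ih ⊢
    rw [pow_succ 3 m]
    have : (m + 1 + 1) ^ (2 * 3) ≤ (m + 1) ^ (2 * 3) * 3 := by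
      have h1 : 16 * (m + 1 + 1) ≤ 17 * (m + 1) := by omega
      have h2 := Nat.pow_le_pow_left h1 (2 * 3)
      rw [mul_pow, mul_pow] at h2
      omega
    omega

theorem gl_two_le (s : ℕ) (h : 2 ≤ s) : s - 1 + (s ^ 2 - 1) ≤ 3 ^ (s - 1) + 1 := by
  induction s, h using Nat.le_induction with
  | base => norm_num
  | succ n hn ih =>
    obtain ⟨m, rfl⟩ : ∃ m, n = m + 2 := ⟨n - 2, by omega⟩
    have e1 : (m + 2) ^ 2 = m * m + 4 * m + 4 := by ring
    have e2 : (m + 2 + 1) ^ 2 = m * m + 6 * m + 9 := by ring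
    have e3 : 3 ^ (m + 2 + 1 - 1) = 3 ^ (m + 2 - 1) * 3 := by rw [← pow_succ]; rfl
    omega

/-- The irreducible case over the field with two elements. -/
theorem Form.kq_two {L : Type*} [Field L] {B : W → W → L} (h : Form B) [Finite W]
    [Finite A] [Group.IsSolvable A] (hinv : ∀ (a : A) x y, B (a • x) (a • y) = B x y)
    (h2 : ∀ w : W, 2 • w = 0) (hirr : Irr A W) (hf : ∀ g : A, (∀ w : W, g • w = w) → g = 1)
    {n c : ℕ} (hW : Nat.card W = n) (hn : n = 16 ∧ c = 27 ∨ n = 64 ∧ c = 2187) :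
    KQ ⊤ (fixingSubgroup A ((⊤ : AddSubgroup W) : Set W)) c := by
  by_cases hp : Prim A W
  · refine KQ.of_relIndex ?_
    have := h.card_le_of_prim hinv h2 hp
    rw [relIndex_top_right]
    have := Nat.le_of_dvd Nat.card_pos
      (fixingSubgroup A ((⊤ : AddSubgroup W) : Set W)).index_dvd_card
    omega
  obtain ⟨U, h1, h3, h4⟩ := exists_indep hf hp
  have h5 := two_le_orbit hirr h1 h3
  have h6 := h4.pow_le
  have h7 := U.card_addSubgroup_dvd_card
  have h8 : 2 ≤ Nat.card U := (AddSubgroup.one_lt_card_iff_ne_bot _).2 h1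
  have h9 : Nat.card U ^ 2 ≤ Nat.card U ^ Nat.card (orbit A U) :=
    Nat.pow_le_pow_right (by omega) h5
  have h10 : Nat.card U ≤ 8 := by
    by_contra
    have : 9 ^ 2 ≤ Nat.card U ^ 2 := Nat.pow_le_pow_left (by omega) 2
    omega
  have h11 : Nat.card (orbit A U) ≤ 6 := by
    by_contra
    have : 2 ^ 7 ≤ Nat.card U ^ Nat.card (orbit A U) :=
      (Nat.pow_le_pow_left h8 7).trans (Nat.pow_le_pow_right (by omega) (by omega))
    omega
  have h12 : Nat.card U = 2 ∨ Nat.card U = 4 ∨ Nat.card U = 8 := by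
    generalize Nat.card U = u at *
    rcases hn with ⟨rfl, -⟩ | ⟨rfl, -⟩ <;> rw [hW] at h7 <;> interval_cases u <;> omega
  rcases h12 with e | e | e
  · refine (KQ.of_indep hirr h1 h2 (b := 1) fun S V _ _ _ _ _ a1 a2 a3 => ?_).mono ?_
    · have : Nontrivial V := Finite.one_lt_card_iff_nontrivial.1 (by omega)
      have := k_lt_of_card_le_sq a1 Nat.prime_two a2 (by omega)
      omega
    · rw [e] at h6
      generalize Nat.card (orbit A U) = m at *
      interval_cases m <;> simp [Nat.factorial] at h6 ⊢ <;> omega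
  · refine (KQ.of_indep hirr h1 h2 (b := 3) fun S V _ _ _ _ _ a1 a2 a3 => ?_).mono ?_
    · have : Nontrivial V := Finite.one_lt_card_iff_nontrivial.1 (by omega)
      have := k_lt_of_card_le_sq a1 Nat.prime_two a2 (by omega)
      omega
    · rw [e] at h6
      generalize Nat.card (orbit A U) = m at *
      interval_cases m <;> simp [Nat.factorial] at h6 ⊢ <;> omega
  · refine (KQ.of_indep hirr h1 h2 (b := 28) fun S V _ _ _ _ _ a1 a2 a3 =>
      k_le_of_card_eight a1 a2 (a3.trans e)).mono ?_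
    rw [e] at h6
    generalize Nat.card (orbit A U) = m at *
    interval_cases m <;> simp [Nat.factorial] at h6 ⊢ <;> omega

theorem Form.kq_irr {L : Type*} [Field L] {B : W → W → L} (h : Form B) [Finite W] [Nontrivial W]
    [Finite A] [Group.IsSolvable A] (hinv : ∀ (a : A) x y, B (a • x) (a • y) = B x y)
    (hirr : Irr A W) (hf : ∀ g : A, (∀ w : W, g • w = w) → g = 1) {e : ℕ}
    (hW : Nat.card W = e ^ 2) :
    KQ ⊤ (fixingSubgroup A ((⊤ : AddSubgroup W) : Set W)) (3 ^ (e - 1)) := by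
  have : Finite (Img A W) := Finite.of_surjective _ toImg_surj
  by_cases h16 : 16 ≤ e
  · refine KQ.of_relIndex ?_
    have := h.two_mul_card_le hinv hf hirr.cr
    rw [relIndex_top_right]
    have := Nat.le_of_dvd Nat.card_pos
      (fixingSubgroup A ((⊤ : AddSubgroup W) : Set W)).index_dvd_card
    have := pow_six_le e h16
    rw [← hW] at this
    omega
  obtain ⟨s, hs, hd⟩ := Nat.exists_prime_and_dvd (Finite.one_lt_card (α := W)).ne'
  have := Fact.mk hs
  have hsW : ∀ w : W, s • w = 0 := by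
    obtain ⟨x, hx⟩ := exists_prime_addOrderOf_dvd_card' s hd
    rcases hirr (nsmulAddMonoidHom (α := W) s).ker (fun a v hv => by
      change s • a • v = 0
      rw [smul_comm, show s • v = 0 from hv, smul_zero]) with h1 | h1
    · have : x ∈ (nsmulAddMonoidHom (α := W) s).ker := by
        change s • x = 0
        rw [← hx, addOrderOf_nsmul_eq_zero]
      rw [h1, AddSubgroup.mem_bot] at this
      rw [this, addOrderOf_zero] at hx
      exact absurd hx.symm hs.ne_one
    · exact fun w => (h1 ▸ trivial : w ∈ (nsmulAddMonoidHom (α := W) s).ker)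
  obtain ⟨k, hk⟩ : ∃ k, Nat.card W = s ^ k :=
    (IsPGroup.iff_card (G := Multiplicative W)).1 fun w => ⟨1, by
      rw [pow_one]; exact hsW w.toAdd⟩
  obtain ⟨n, -, rfl⟩ := (Nat.dvd_prime_pow hs).1 (hk ▸ hW ▸ dvd_pow_self e two_ne_zero)
  have h1 : 1 < Nat.card W := Finite.one_lt_card
  have hs2 := hs.two_le
  rcases Nat.lt_trichotomy n 1 with hn | rfl | hn
  · obtain rfl : n = 0 := by omega
    simp [hW] at h1
  · refine KQ.of_img fun S => ?_
    rw [pow_one] at hW ⊢
    have := k_lt_of_card_le_sq (sub_faithful S) hs hsW hW.le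
    have := gl_two_le s hs2
    rw [← hW] at this
    omega
  have h3 : s ^ 2 ≤ s ^ n := Nat.pow_le_pow_right hs.pos hn
  have h4 : s ≤ 3 := by
    by_contra
    have : 4 ^ 2 ≤ s ^ 2 := Nat.pow_le_pow_left (by omega) 2
    omega
  have h5 : n ≤ 3 := by
    by_contra
    have : 2 ^ 4 ≤ s ^ n :=
      (Nat.pow_le_pow_left hs2 4).trans (Nat.pow_le_pow_right (by omega) (by omega))
    omega
  interval_cases s
  · interval_cases n
    · exact h.kq_two hinv hsW hirr hf hW (by norm_num)
    · exact h.kq_two hinv hsW hirr hf hW (by norm_num)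
  · obtain rfl : n = 2 := by
      interval_cases n
      · rfl
      · omega
    refine KQ.of_img fun S => ?_
    have := k_lt_of_fixing (sub_faithful S) hs hsW (c := 27) (by norm_num) fun U hU =>
      h.card_fixing_le (sub_faithful S) (by
        rintro ⟨g, -⟩
        obtain ⟨a, rfl⟩ := toImg_surj g
        exact hinv a) hs hk 2 U (by omega)
    omega

theorem Form.res {L : Type*} [Field L] {B : W → W → L} (h : Form B) {U : AddSubgroup W}
    (hU : ∀ x ∈ U, (∀ y ∈ U, B x y = 1) → x = 0) : Form fun x y : U => B x y :=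
  ⟨fun _ _ _ => h.left _ _ _, fun _ _ _ => h.right _ _ _, fun _ => h.self _,
    fun _ => h.zero_right _, fun x hx => Subtype.ext (hU x x.2 fun y hy => hx ⟨y, hy⟩)⟩

/-- A solvable group preserving an alternating pairing on a group of order `e ^ 2` that stays
nondegenerate on the invariant subgroups: at most `3 ^ (e - 1)` classes in every section. -/
theorem kq_form {L : Type*} [Field L] (n : ℕ) : ∀ (A W : Type u) [Group A] [AddCommGroup W]
    [DistribMulAction A W] [Finite W] [Finite A] [Group.IsSolvable A] (B : W → W → L), Form B →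
    (∀ (a : A) x y, B (a • x) (a • y) = B x y) →
    (∀ U : AddSubgroup W, (∀ a : A, ∀ v ∈ U, a • v ∈ U) → ∀ x ∈ U, (∀ y ∈ U, B x y = 1) → x = 0) →
    Nat.card W = n → ∀ e, Nat.card W = e ^ 2 →
    KQ ⊤ (fixingSubgroup A ((⊤ : AddSubgroup W) : Set W)) (3 ^ (e - 1)) := by
  induction n using Nat.strong_induction_on with
  | _ n ih =>
  intro A W _ _ _ _ _ _ B h hinv hnd hn e he
  rcases subsingleton_or_nontrivial W with hW | hW
  · exact ((KQ.refl ⊤).congr fun a _ => ⟨fun _ => mem_fixing_top.2 fun _ => Subsingleton.elim _ _,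
      fun _ => trivial⟩).mono (Nat.one_le_pow _ _ (by norm_num))
  by_cases hirr : Irr A W
  · have : Finite (Img A W) := Finite.of_surjective _ toImg_surj
    have : Group.IsSolvable (Img A W) := Group.isSolvable_of_surjective toImg_surj
    exact (h.kq_irr (A := Img A W) (fun g => by
      obtain ⟨a, rfl⟩ := toImg_surj g
      exact hinv a) (fun U hU => hirr U fun a => hU (toImg W a)) img_faithful he).comap (toImg W)
  simp only [Irr, not_forall, not_or] at hirr
  obtain ⟨U, hU, h1, h2⟩ := hirr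
  have hU' : ∀ a : A, ∀ v ∈ h.perp U, a • v ∈ h.perp U := fun a v hv u hu => by
    rw [← hinv a⁻¹, inv_smul_smul]
    exact hv _ (hU _ _ hu)
  have key : ∀ T : AddSubgroup W, (∀ a : A, ∀ v ∈ T, a • v ∈ T) → Nat.card T < n →
      ∃ d, Nat.card T = d ^ 2 ∧ KQ ⊤ (fixingSubgroup A (T : Set W)) (3 ^ (d - 1)) := by
    intro T hT hlt
    have h3 := h.res (hnd T hT)
    obtain ⟨d, hd⟩ := h3.exists_sq
    have h4 : Inv (⊤ : Subgroup A) T := fun a _ => hT a
    let := resAct ⊤ T h4
    refine ⟨d, hd, KQ.of_res h4 (ih _ hlt (⊤ : Subgroup A) T _ h3 (fun a x y => hinv a x y) ?_ rfl d hd)⟩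
    intro T' hT' x hx h5
    refine Subtype.ext (hnd (T'.map T.subtype) ?_ x ⟨x, hx, rfl⟩ ?_)
    · rintro a _ ⟨w, hw, rfl⟩
      exact ⟨_, hT' ⟨a, trivial⟩ w hw, rfl⟩
    · rintro _ ⟨w, hw, rfl⟩
      exact h5 w hw
  have h3 := h.card_mul_perp U
  have h4 : 2 ≤ Nat.card U := (AddSubgroup.one_lt_card_iff_ne_bot _).2 h1
  have h5 : Nat.card U < Nat.card W := lt_of_le_of_ne U.card_le_card_addGroup
    fun e => h2 (AddSubgroup.eq_top_of_card_eq U e)
  have h6 : 0 < Nat.card (h.perp U) := Nat.card_pos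
  obtain ⟨d, a1, a2⟩ := key U hU (by omega)
  obtain ⟨d', a3, a4⟩ := key _ hU' (by nlinarith)
  have h7 : U ⊔ h.perp U = ⊤ := by
    have h8 : U ⊓ h.perp U = ⊥ := (AddSubgroup.eq_bot_iff_forall _).2 fun x hx =>
      hnd U hU x hx.1 fun y hy => h.symm (hx.2 y hy)
    refine AddSubgroup.eq_top_of_le_card _ ?_
    rw [← h3, ← Nat.card_prod]
    refine Nat.card_le_card_of_injective (fun p => ⟨p.1 + p.2, AddSubgroup.add_mem_sup p.1.2 p.2.2⟩)
      fun p p' e => ?_
    have e : (p.1 : W) + p.2 = p'.1 + p'.2 := congrArg Subtype.val e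
    have h9 : (p.1 : W) - p'.1 ∈ U ⊓ h.perp U := AddSubgroup.mem_inf.2 ⟨sub_mem p.1.2 p'.1.2, by
      rw [show (p.1 : W) - p'.1 = p'.2 - p.2 by rw [sub_eq_sub_iff_add_eq_add, e, add_comm]]
      exact sub_mem p'.2.2 p.2.2⟩
    rw [h8, AddSubgroup.mem_bot, sub_eq_zero] at h9
    rw [h9] at e
    exact Prod.ext (Subtype.ext h9) (Subtype.ext (add_left_cancel e))
  refine ((a2.inf a4).congr fun a _ => ⟨fun ha => mem_fixing_top.2 fun w => ?_, fun ha =>
    ⟨(mem_fixingSubgroup_iff A).2 fun w _ => mem_fixing_top.1 ha w,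
      (mem_fixingSubgroup_iff A).2 fun w _ => mem_fixing_top.1 ha w⟩⟩).mono ?_
  · obtain ⟨u, hu, v, hv, rfl⟩ := AddSubgroup.mem_sup.1 (h7 ▸ trivial : w ∈ U ⊔ h.perp U)
    rw [smul_add, (mem_fixingSubgroup_iff A).1 ha.1 u hu, (mem_fixingSubgroup_iff A).1 ha.2 v hv]
  · rw [← pow_add]
    refine Nat.pow_le_pow_right (by norm_num) ?_
    rw [a1, a3, he, ← mul_pow] at h3
    obtain rfl := Nat.pow_left_injective two_ne_zero h3
    obtain ⟨d, rfl⟩ : ∃ m, d = m + 1 := ⟨d - 1, by
      rcases d with _ | d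
      · simp [a1] at h4
      · rfl⟩
    obtain ⟨d', rfl⟩ : ∃ m, d' = m + 1 := ⟨d' - 1, by
      rcases d' with _ | d'
      · simp [a3] at h6
      · rfl⟩
    have : (d + 1) * (d' + 1) = d * d' + d + d' + 1 := by ring
    omega

end CL.Ord.PC
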