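import Mathlib
import Cfsg.Agent.ORD.SpCls2
import Cfsg.Agent.FGS.HHClifford
import Cfsg.Agent.KSG.WagLin
import Cfsg.Agent.SOLV.Fitting

/-! Solvable linear groups of dimension `r` in coprime characteristic: a subnormal nilpotent subgroup
`L` with relative class number at most `3 ^ (r - 1)` and a vector with abelian stabilizer in `L`. -/

set_option autoImplicit false

namespace CL.Ord.PC

open Subgroup Module
open scoped commutatorElement

universe u

/-- The conclusion of the main theorem for the action `σ`. -/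
def Good {A : Type u} [Group A] {V : Type*} (σ : A → V → V) (c : ℕ) : Prop :=
  ∃ L : Subgroup A, L.IsSubnormal ∧ (∃ n, ∀ x ∈ L.lowerCentralSeries n, ∀ v, σ x v = v) ∧
    KQ ⊤ L c ∧ ∃ v, ∀ a ∈ L, ∀ b ∈ L, σ a v = v → σ b v = v → ∀ w, σ (a * b) w = σ (b * a) w

section good
variable {A : Type u} [Group A] {V : Type*} {σ : A → V → V} {c : ℕ}

theorem Good.mono (h : Good σ c) {d : ℕ} (hcd : c ≤ d) : Good σ d := by
  obtain ⟨L, h1, h2, h3, h4⟩ := h
  exact ⟨L, h1, h2, h3.mono hcd, h4⟩

theorem Good.comap (h : Good σ c) {A' : Type u} [Group A'] (φ : A' →* A) :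
    Good (fun a => σ (φ a)) c := by
  obtain ⟨L, h1, ⟨n, h2⟩, h3, v, h4⟩ := h
  refine ⟨L.comap φ, h1.comap φ, ⟨n, fun x hx => h2 _ ?_⟩, by simpa using h3.comap φ, v,
    fun a ha b hb hav hbv w => ?_⟩
  · have := mem_map_of_mem φ hx
    rw [map_lowerCentralSeries] at this
    exact lowerCentralSeries_mono n (map_comap_le φ L) this
  · simp only [map_mul]
    exact h4 _ ha _ hb hav hbv w

theorem Good.of_normal {N : Subgroup A} [hN : N.Normal] {a : ℕ} (hk : KQ ⊤ N a)
    (h : Good (fun x : N => σ x) c) : Good σ (a * c) := by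
  obtain ⟨L, h1, ⟨n, h2⟩, h3, v, h4⟩ := h
  refine ⟨L.map N.subtype, h1.trans' hN.isSubnormal, ⟨n, fun x hx => ?_⟩, ?_, v, ?_⟩
  · rw [← map_lowerCentralSeries] at hx
    obtain ⟨y, hy, rfl⟩ := hx
    exact h2 y hy
  · have := hk.trans (by simpa using h3.of_map : KQ (⊤ ⊓ N) (L.map N.subtype) c)
    rwa [inf_eq_right.2 (map_subtype_le L)] at this
  · rintro _ ⟨x, hx, rfl⟩ _ ⟨y, hy, rfl⟩ hxv hyv w
    exact h4 x hx y hy hxv hyv w

theorem isSubnormal_biInf {ι : Type*} (s : Finset ι) (L : ι → Subgroup A)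
    (h : ∀ i, (L i).IsSubnormal) : (⨅ i ∈ s, L i).IsSubnormal := by
  classical
  induction s using Finset.induction_on with
  | empty => simp
  | insert i s hi ih => rw [Finset.iInf_insert]; exact (h i).inf ih

end good

section sum
variable {K : Type*} [Field K] {A : Type u} [Group A] {V : Type*} [AddCommGroup V] [Module K V]

theorem Good.of_sum (ρ : Representation K A V) {ι : Type*} [Fintype ι] (U : ι → Submodule K V)
    (hU : ∀ i g, U i ≤ (U i).comap (ρ g)) (htop : ⨆ i, U i = ⊤)
    (hind : ∀ v : ι → V, (∀ i, v i ∈ U i) → ∑ i, v i = 0 → ∀ i, v i = 0) (c : ι → ℕ)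
    (h : ∀ i, Good (fun a v => ρ.subrepresentation (U i) (hU i) a v) (c i)) :
    Good (fun a v => ρ a v) (∏ i, c i) := by
  choose L h1 h2 h3 v h4 using h
  choose n h2 using h2
  have key : ∀ f g : End K V, (∀ i, ∀ w ∈ U i, f w = g w) → ∀ w, f w = g w := fun f g hfg w => by
    have : (⊤ : Submodule K V) ≤ LinearMap.eqLocus f g := by
      rw [← htop]; exact iSup_le fun i w hw => hfg i w hw
    exact this trivial
  have hle : ∀ i, (⨅ i ∈ Finset.univ, L i) ≤ L i := fun i => biInf_le _ (Finset.mem_univ i)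
  refine ⟨⨅ i ∈ Finset.univ, L i, isSubnormal_biInf _ _ h1, ⟨Finset.univ.sup n, fun x hx => ?_⟩,
    KQ.iInf _ _ _ fun i _ => h3 i, ∑ i, (v i : V), fun a ha b hb hav hbv => ?_⟩
  · refine key (ρ x) 1 fun i w hw => ?_
    have hx' : x ∈ (L i).lowerCentralSeries (n i) :=
      (L i).lowerCentralSeries_antitone (Finset.le_sup (f := n) (Finset.mem_univ i))
        (lowerCentralSeries_mono _ (hle i) hx)
    exact congrArg Subtype.val (h2 i x hx' ⟨w, hw⟩)
  · have fx : ∀ a, ρ a (∑ i, (v i : V)) = ∑ i, (v i : V) → ∀ i,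
        ρ.subrepresentation (U i) (hU i) a (v i) = v i := fun a ha i => by
      have := hind (fun i => ρ a (v i) - v i) (fun i => sub_mem (hU i a (v i).2) (v i).2)
        (by rw [Finset.sum_sub_distrib, ← map_sum, ha, sub_self]) i
      exact Subtype.ext (sub_eq_zero.1 this)
    refine key (ρ (a * b)) (ρ (b * a)) fun i w hw => ?_
    exact congrArg Subtype.val (h4 i a (hle i ha) b (hle i hb) (fx a hav i) (fx b hbv i) ⟨w, hw⟩)

theorem sum_finrank_le [FiniteDimensional K V] {ι : Type*} [Fintype ι] (U : ι → Submodule K V)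
    (hind : ∀ v : ι → V, (∀ i, v i ∈ U i) → ∑ i, v i = 0 → ∀ i, v i = 0) :
    ∑ i, finrank K (U i) ≤ finrank K V := by
  let f : (∀ i, U i) →ₗ[K] V := ∑ i, (U i).subtype ∘ₗ LinearMap.proj i
  have hf : Function.Injective f := (injective_iff_map_eq_zero f).2 fun x hx => by
    funext i
    refine Subtype.ext (hind (fun i => x i) (fun i => (x i).2) ?_ i)
    simpa [f] using hx
  rw [← Module.finrank_pi_fintype]
  exact LinearMap.finrank_le_finrank_of_injective hf

end sum

/-- The statement for dimension `r`. -/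
def Main (r : ℕ) : Prop :=
  ∀ (K A V : Type u) [Field K] [Group A] [Finite A] [Group.IsSolvable A] [AddCommGroup V]
    [Module K V] [FiniteDimensional K V] (ρ : Representation K A V), (Nat.card A : K) ≠ 0 →
    finrank K V = r → 1 ≤ r → Good (fun a v => ρ a v) (3 ^ (r - 1))

section cases
variable {K A V : Type u} [Field K] [Group A] [Finite A] [Group.IsSolvable A] [AddCommGroup V]
  [Module K V] [FiniteDimensional K V] (ρ : Representation K A V)

omit [Group.IsSolvable A] [Finite A] in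
theorem card_sub_ne_zero (hA : (Nat.card A : K) ≠ 0) (B : Subgroup A) : (Nat.card B : K) ≠ 0 := by
  intro h
  obtain ⟨m, hm⟩ := B.card_subgroup_dvd_card
  exact hA (by rw [hm, Nat.cast_mul, h, zero_mul])

/-- The homogeneous components of a subgroup. -/
def Comps (B : Subgroup A) : Type u := {W : Submodule K V // ∃ U, HH.Irr ρ B U ∧ W = HH.comp ρ B U}

omit [Finite A] [Group.IsSolvable A] [FiniteDimensional K V] in
theorem map_comp_eq (B : Subgroup A) [B.Normal] (g : A) (U : Submodule K V) :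
    (HH.comp ρ B U).map (ρ g) = HH.comp ρ B (U.map (ρ g)) := by
  have hn : ∀ g : A, g ∈ normalizer (B : Set A) := fun g => by
    rw [normalizer_eq_top]; trivial
  refine le_antisymm (HH.map_comp_le (hn g)) fun v hv => ?_
  rw [HH.mem_map_rho]
  have := HH.map_comp_le (ρ := ρ) (Q := B) (U := U.map (ρ g)) (hn g⁻¹) ⟨v, hv, rfl⟩
  rwa [← HH.map_rho_mul, inv_mul_cancel, HH.map_rho_one] at this

/-- The action on the homogeneous components of a normal subgroup. -/
@[reducible] def compsAction (B : Subgroup A) [B.Normal] : MulAction A (Comps ρ B) where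
  smul g W := ⟨W.1.map (ρ g), by
    obtain ⟨U, hU, e⟩ := W.2
    exact ⟨U.map (ρ g), hU.map_normalizer (by rw [normalizer_eq_top]; trivial),
      by rw [e, map_comp_eq]⟩⟩
  one_smul W := Subtype.ext (HH.map_rho_one ρ W.1)
  mul_smul g h W := Subtype.ext (HH.map_rho_mul ρ g h W.1)

theorem good_imprim (hA : (Nat.card A : K) ≠ 0) (ih : ∀ m < finrank K V, Main.{u} m)
    (B : Subgroup A) [B.Normal] {U₀ : Submodule K V} (h0 : HH.Irr ρ B U₀)
    (hne : HH.comp ρ B U₀ ≠ ⊤) : Good (fun a v => ρ a v) (3 ^ (finrank K V - 1)) := by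
  classical
  have hB := card_sub_ne_zero hA B
  let act := compsAction ρ B
  have hc : ∀ W : Comps ρ B, ∃ U, HH.Irr ρ B U ∧ W.1 = HH.comp ρ B U := fun W => W.2
  choose X hX eX using hc
  have hni : ∀ i j : Comps ρ B, i ≠ j → ¬ HH.Iso ρ B (X i) (X j) := fun i j hij h => hij <| by
    refine Subtype.ext ?_
    rw [eX, eX]
    exact le_antisymm (h.symm hB (hX i) (hX j).1).comp_le h.comp_le
  have hbot : ∀ i : Comps ρ B, i.1 ≠ ⊥ := fun i e => (hX i).1 <|
    eq_bot_iff.2 (HH.le_comp.trans (by rw [← eX, e]))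
  have hind : iSupIndep fun i : Comps ρ B => i.1 := fun i => by
    rw [disjoint_iff, iSup_subtype']
    simp only [eX]
    exact HH.comp_inf_iSup_eq_bot hB (X := fun j : {j // j ≠ i} => X j) (fun j => hX j) (hX i)
      fun j => hni _ _ j.2.symm
  have : Finite (Comps ρ B) := WellFoundedGT.finite_of_iSupIndep hind hbot
  have := Fintype.ofFinite (Comps ρ B)
  have hsum : ∀ v : Comps ρ B → V, (∀ i, v i ∈ i.1) → ∑ i, v i = 0 → ∀ i, v i = 0 :=
    fun v hv h0 i => HH.eq_zero_of_sum_eq_zero hB Finset.univ (fun i _ => hX i)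
      (fun i _ j _ => hni i j) v (fun i _ => eX i ▸ hv i) h0 i (Finset.mem_univ i)
  have htop : ⨆ i : Comps ρ B, i.1 = ⊤ := eq_top_iff.2 <|
    HH.le_of_forall_irr hB HH.inv_top fun U _ hU =>
      HH.le_comp.trans (le_iSup (fun i : Comps ρ B => i.1) ⟨_, U, hU, rfl⟩)
  have hlt : ∀ i : Comps ρ B, i.1 ≠ ⊤ := fun i e => by
    have h1 : HH.Iso ρ B (X i) U₀ := HH.iso_of_le_comp hB (hX i).2.1 h0 (by rw [← eX, e]; exact le_top)
    have := (h1.symm hB (hX i) h0.1).comp_le
    rw [← eX, e] at this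
    exact hne (eq_top_iff.2 this)
  let N := (MulAction.toPermHom A (Comps ρ B)).ker
  have hN : ∀ (i : Comps ρ B) (g : N), i.1 ≤ i.1.comap (ρ.comp N.subtype g) := fun i g v hv => by
    have : (g : A) • i = i := congrArg (fun f : Equiv.Perm (Comps ρ B) => f i) (MonoidHom.mem_ker.1 g.2)
    have e : i.1.map (ρ g) = i.1 := congrArg Subtype.val this
    exact e.le ⟨v, hv, rfl⟩
  have hpos : ∀ i : Comps ρ B, 1 ≤ finrank K i.1 := fun i =>
    Nat.pos_of_ne_zero fun e => hbot i (Submodule.finrank_eq_zero.1 e)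
  have h1 := Good.of_sum (ρ.comp N.subtype) (fun i : Comps ρ B => i.1) hN htop hsum
    (fun i => 3 ^ (finrank K i.1 - 1)) fun i =>
      ih _ (Submodule.finrank_lt (hlt i)) K N i.1 _ (card_sub_ne_zero hA N) rfl (hpos i)
  refine (Good.of_normal (σ := fun a v => ρ a v) (KQ.perm_three (Comps ρ B)) h1).mono ?_
  rw [Finset.prod_pow_eq_pow_sum, ← pow_add]
  refine Nat.pow_le_pow_right (by norm_num) ?_
  have h2 := sum_finrank_le (fun i : Comps ρ B => i.1) hsum
  have h3 : ∑ i : Comps ρ B, finrank K i.1 =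
      ∑ i : Comps ρ B, (finrank K i.1 - 1) + Nat.card (Comps ρ B) := by
    rw [Nat.card_eq_fintype_card, ← Finset.card_univ, Finset.card_eq_sum_ones,
      ← Finset.sum_add_distrib]
    exact Finset.sum_congr rfl fun i _ => (Nat.sub_add_cancel (hpos i)).symm
  have h4 : 0 < Nat.card (Comps ρ B) := by
    have : Nonempty (Comps ρ B) := ⟨⟨_, U₀, h0, rfl⟩⟩
    exact Nat.card_pos
  omega

omit [Finite A] [Group.IsSolvable A] in
/-- An endomorphism commuting with `B` and with all `B`-endomorphisms of a homogeneous module is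
zero or injective. -/
theorem eq_zero_of_homog {B : Subgroup A} (hh : ∀ U, HH.Irr ρ B U → HH.comp ρ B U = ⊤)
    {x : End K V} (h1 : HH.Equi ρ B x) (h2 : ∀ f, HH.Equi ρ B f → ∀ v, x (f v) = f (x v)) {v : V}
    (hv : v ≠ 0) (hx : x v = 0) : x = 0 := by
  have hi : HH.Inv ρ B (LinearMap.ker x) := fun u hu w hw => by
    rw [LinearMap.mem_ker] at hw ⊢
    rw [h1 u hu, hw, map_zero]
  obtain ⟨U, hU, hirr⟩ := HH.exists_irr_le hi fun e => hv (by
    have : v ∈ LinearMap.ker x := hx
    rwa [e] at this)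
  rw [← LinearMap.ker_eq_top, eq_top_iff, ← hh U hirr]
  refine HH.comp_le ?_
  rintro _ ⟨f, hf, rfl⟩ _ ⟨w, hw, rfl⟩
  have : x w = 0 := hU hw
  rw [LinearMap.mem_ker, h2 f hf, this, map_zero]

theorem good_scalar [Nontrivial V] (hf : Function.Injective ρ) {Z E : Subgroup A}
    (h : letI := DistribMulAction.compHom V ρ; SolvLin.Str V Z E)
    (hs : ∀ z ∈ Z, ∃ c : K, ρ z = c • (1 : End K V)) :
    Good (fun a v => ρ a v) (3 ^ (finrank K V - 1)) := by
  classical
  let act := DistribMulAction.compHom V ρ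
  choose c hc using hs
  have h1 : (1 : End K V) ≠ 0 := one_ne_zero
  let j : Z →* K :=
    { toFun := fun z => c z z.2
      map_one' := smul_left_injective K h1 (by simp only [← hc, one_smul]; exact map_one ρ)
      map_mul' := fun a b => smul_left_injective K h1 (by
        simp only [← hc]
        rw [coe_mul, map_mul, hc a a.2, hc b b.2, smul_mul_smul_comm, mul_one]) }
  have hj : Function.Injective j := fun a b e => Subtype.ext <| hf <| by
    rw [hc a a.2, hc b b.2]; exact congrArg (· • (1 : End K V)) e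
  have hcen : ∀ g : A, g ∈ centralizer (Z : Set A) := fun g z hz => hf <| by
    rw [map_mul, map_mul, hc z hz, smul_mul_assoc, mul_smul_comm, one_mul, mul_one]
  obtain ⟨W, _, _, _, B, hW, hB, hnd, hker, hinv⟩ := str_section h j hj
  obtain ⟨e, he⟩ := hB.exists_sq
  have hk := kq_form _ A W B hB (fun a => hinv a (hcen a)) hnd rfl e he
  have hE : KQ ⊤ E (3 ^ (e - 1)) := hk.congr fun x _ => by rw [mem_fixing_top, hker x (hcen x)]
  have hle : e ≤ finrank K V := by
    have := h.Zn
    let τ : E →* End K (End K V) :=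
      { toFun := fun a => LinearMap.mulLeft K (ρ a) * LinearMap.mulRight K (ρ (a : A)⁻¹)
        map_one' := by ext x; simp
        map_mul' := fun a b => by ext x; simp [mul_assoc] }
    have hτ : ∀ (a : E) (y : A) (hy : y ∈ E), τ a (ρ y) = c _ (h.comm a a.2 y hy) • ρ y :=
      fun a y hy => by
        change ρ a * (ρ y * ρ (a : A)⁻¹) = _
        rw [← smul_one_mul, ← hc, ← map_mul, ← map_mul, ← map_mul]
        congr 1
        rw [commutatorElement_def]; group
    have h0 : ∀ y : A, ρ y ≠ 0 := fun y e => h1 (by rw [← map_one ρ, ← mul_inv_cancel y, map_mul, e,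
      zero_mul])
    have := Fintype.ofFinite (E ⧸ Z.subgroupOf E)
    have hw := CL.Wag.card_le_of_weights τ (fun q : E ⧸ Z.subgroupOf E => ρ (q.out : A))
      (fun q => h0 _) (fun q a => ⟨_, hτ a _ q.out.2⟩) fun q q' hq => by
        rw [← q.out_eq, ← q'.out_eq]
        refine QuotientGroup.eq.2 (h.selfc _ fun y hy => ?_)
        have e1 := (hτ ⟨y, hy⟩ _ q'.out.2).symm.trans (hq ⟨y, hy⟩ _ (hτ ⟨y, hy⟩ _ q.out.2))
        have e2 := smul_left_injective K (h0 _) e1
        have e3 : ⁅y, (q'.out : A)⁆ = ⁅y, (q.out : A)⁆ := hf (by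
          rw [hc _ (h.comm y hy _ q'.out.2), hc _ (h.comm y hy _ q.out.2), e2])
        refine SolvLin.commute_of_commutator_eq ?_
        rw [← commutatorElement_inv, ← e3, commutatorElement_inv]
    rw [← Nat.card_eq_fintype_card, Module.finrank_linearMap] at hw
    have h2 : e ^ 2 ≤ finrank K V ^ 2 := by rw [← he, hW, sq]; exact hw
    exact (Nat.pow_le_pow_iff_left two_ne_zero).1 h2
  obtain ⟨v, hv⟩ := exists_ne (0 : V)
  refine ⟨E, h.En.isSubnormal, ⟨2, fun x hx w => ?_⟩,
    hE.mono (Nat.pow_le_pow_right (by norm_num) (by omega)), v, fun a ha b hb hav hbv w => ?_⟩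
  · have : E.lowerCentralSeries 2 = ⊥ := E.lowerCentralSeries_succ_eq_bot <|
      commutator_le.2 fun a ha b hb => mem_center_iff.2 fun g => (hcen g _ (h.comm a ha b hb)).symm
    rw [this, mem_bot] at hx
    simp [hx]
  · have h2 : ρ ⁅a, b⁆ v = v := by
      change ρ a v = v at hav
      change ρ b v = v at hbv
      have ia : ρ a⁻¹ v = v := by conv_lhs => rw [← hav, HH.rho_inv_rho]
      have ib : ρ b⁻¹ v = v := by conv_lhs => rw [← hbv, HH.rho_inv_rho]
      simp only [commutatorElement_def, HH.rho_mul, ia, ib, hav, hbv]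
    have h3 := (h.fpf _ (h.comm a ha b hb) v h2).resolve_right hv
    rw [commutatorElement_eq_one_iff_mul_comm.1 h3]

omit [Finite A] [Group.IsSolvable A] [FiniteDimensional K V] in
theorem exists_rep_ext (L : Type u) [Field L] [Module L V] (C : Subgroup A)
    (h : ∀ g ∈ C, ∀ (x : L) (v : V), ρ g (x • v) = x • ρ g v) :
    ∃ σ : Representation L C V, ∀ g v, σ g v = ρ g v :=
  ⟨{ toFun := fun g => { toFun := ρ g, map_add' := map_add _, map_smul' := h g g.2 }
     map_one' := by ext; simp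
     map_mul' := fun a b => by ext; simp }, fun _ _ => rfl⟩

theorem three_pow_aux {t s : ℕ} (ht : 1 ≤ t) (hs : 1 ≤ s) : t * 3 ^ (s - 1) ≤ 3 ^ (t * s - 1) := by
  obtain ⟨t, rfl⟩ := Nat.exists_eq_add_of_le' ht
  obtain ⟨s, rfl⟩ := Nat.exists_eq_add_of_le' hs
  have h1 : t + 1 ≤ 3 ^ t := Nat.lt_pow_self (by norm_num)
  have h2 : (t + 1) * (s + 1) - 1 = t + s + t * s := by
    rw [Nat.sub_eq_iff_eq_add (by nlinarith)]; ring
  rw [h2, Nat.add_sub_cancel, pow_add, pow_add]
  exact (Nat.mul_le_mul_right _ h1).trans (Nat.le_mul_of_pos_right _ (by positivity))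

theorem good_ext [Nontrivial V] (hA : (Nat.card A : K) ≠ 0) (ih : ∀ m < finrank K V, Main.{u} m)
    (L : Type u) [Field L] [Algebra K L] [Module L V] [IsScalarTower K L V] (C : Subgroup A)
    [C.Normal] (h : ∀ g ∈ C, ∀ (x : L) (v : V), ρ g (x • v) = x • ρ g v) (h2 : 2 ≤ finrank K L)
    (hi : C.index ≤ finrank K L) : Good (fun a v => ρ a v) (3 ^ (finrank K V - 1)) := by
  obtain ⟨σ, hσ⟩ := exists_rep_ext ρ L C h
  have : FiniteDimensional L V := Module.Finite.right K L V
  have e := Module.finrank_mul_finrank K L V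
  have hpos : 0 < finrank L V := Module.finrank_pos
  have hC : (Nat.card C : L) ≠ 0 := by
    rw [← map_natCast (algebraMap K L)]
    exact (map_ne_zero _).2 (card_sub_ne_zero hA C)
  have h3 := ih (finrank L V) (by rw [← e]; nlinarith) L C V σ hC rfl hpos
  simp only [hσ] at h3
  have h4 : C.relIndex ⊤ ≤ finrank K L := by rwa [relIndex_top_right]
  refine (Good.of_normal (σ := fun a v => ρ a v) (KQ.of_relIndex h4) h3).mono ?_
  rw [← e]
  exact three_pow_aux (by omega) hpos

theorem good_nonscalar [Nontrivial V] (hA : (Nat.card A : K) ≠ 0)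
    (ih : ∀ m < finrank K V, Main.{u} m) (hf : Function.Injective ρ) {Z : Subgroup A} [Z.Normal]
    (hab : ∀ a ∈ Z, ∀ b ∈ Z, a * b = b * a) (hh : ∀ U, HH.Irr ρ Z U → HH.comp ρ Z U = ⊤) {z : A}
    (hz : z ∈ Z) (hs : ∀ c : K, ρ z ≠ c • (1 : End K V)) :
    Good (fun a v => ρ a v) (3 ^ (finrank K V - 1)) := by
  let L := Algebra.adjoin K (ρ '' Z)
  have hcomm : ∀ f : End K V, HH.Equi ρ Z f → ∀ x ∈ L, x * f = f * x := fun f hf x hx => by
    refine (Algebra.commute_of_mem_adjoin_of_forall_mem_commute hx ?_).symm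
    rintro _ ⟨y, hy, rfl⟩
    exact LinearMap.ext (hf y hy)
  have hZ : ∀ g ∈ centralizer (Z : Set A), HH.Equi ρ Z (ρ g) := fun g hg y hy v => by
    rw [← HH.rho_mul, ← HH.rho_mul, hg y hy]
  have hL : ∀ x ∈ L, HH.Equi ρ Z x := fun x hx y hy v =>
    LinearMap.congr_fun (hcomm _ (hZ y fun w hw => hab w hw y hy) x hx) v
  let cr : CommRing L := { (inferInstance : Ring L) with
    mul_comm := fun x y => Subtype.ext (hcomm _ (hL _ y.2) _ x.2) }
  have : NoZeroDivisors L := ⟨fun {x y} e => by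
    by_contra hne
    rw [not_or] at hne
    obtain ⟨v, hv⟩ : ∃ v, (y : End K V) v ≠ 0 := by
      by_contra h
      push Not at h
      exact hne.2 (Subtype.ext (LinearMap.ext h))
    exact hne.1 (Subtype.ext (eq_zero_of_homog ρ hh (hL _ x.2)
      (fun f hf v => LinearMap.congr_fun (hcomm f hf _ x.2) v) hv
      (LinearMap.congr_fun (congrArg Subtype.val e) v)))⟩
  have : IsDomain L := NoZeroDivisors.to_isDomain L
  let fld : Field L := fieldOfFiniteDimensional K L
  have hcj : ∀ a : A, ∃ φ : L →ₐ[K] L, ∀ x : L, (φ x : End K V) = ρ a * x * ρ a⁻¹ := fun a => by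
    let ψ : End K V →ₐ[K] End K V :=
      { toFun := fun x => ρ a * x * ρ a⁻¹
        map_one' := by rw [mul_one, ← map_mul, mul_inv_cancel, map_one]
        map_mul' := fun x y => by
          simp only [mul_assoc]
          rw [← mul_assoc (ρ a⁻¹), ← map_mul, inv_mul_cancel, map_one, one_mul]
        map_zero' := by simp
        map_add' := fun x y => by rw [mul_add, add_mul]
        commutes' := fun k => by
          rw [← Algebra.commutes, mul_assoc, ← map_mul, mul_inv_cancel, map_one, mul_one] }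
    have hψ : L ≤ L.comap ψ := Algebra.adjoin_le (by
      rintro _ ⟨y, hy, rfl⟩
      refine Algebra.subset_adjoin ⟨_, (inferInstance : Z.Normal).conj_mem y hy a, ?_⟩
      rw [map_mul, map_mul]; rfl)
    exact ⟨(ψ.comp L.val).codRestrict L fun x => hψ x.2, fun _ => rfl⟩
  choose φ hφ using hcj
  refine good_ext ρ hA ih L (centralizer (Z : Set A))
    (fun g hg x v => (LinearMap.congr_fun (hcomm _ (hZ g hg) _ x.2) v).symm) ?_ ?_
  · by_contra hlt
    have hpos : 0 < finrank K L := Module.finrank_pos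
    obtain ⟨c, hc⟩ := (finrank_eq_one_iff_of_nonzero' (1 : L) one_ne_zero).1 (by omega : finrank K L = 1)
      ⟨ρ z, Algebra.subset_adjoin ⟨z, hz, rfl⟩⟩
    exact hs c (congrArg Subtype.val hc).symm
  · refine le_trans ?_ (card_algHom_le_finrank K L L)
    refine Nat.card_le_card_of_injective (fun q : A ⧸ centralizer (Z : Set A) => φ q.out)
      fun q q' e => ?_
    rw [← q.out_eq, ← q'.out_eq]
    refine QuotientGroup.eq.2 fun y hy => ?_
    have e1 := hφ q.out ⟨ρ y, Algebra.subset_adjoin ⟨y, hy, rfl⟩⟩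
    rw [show φ q.out = φ q'.out from e, hφ] at e1
    simp only [← map_mul] at e1
    have e2 := hf e1
    calc y * (q.out⁻¹ * q'.out) = q.out⁻¹ * (q.out * y * q.out⁻¹) * q'.out := by group
      _ = _ := by rw [← e2]; group

theorem good_faithful [Nontrivial V] (hA : (Nat.card A : K) ≠ 0)
    (ih : ∀ m < finrank K V, Main.{u} m) (hf : Function.Injective ρ) :
    Good (fun a v => ρ a v) (3 ^ (finrank K V - 1)) := by
  by_cases hh : ∀ B : Subgroup A, B.Normal → ∀ U, HH.Irr ρ B U → HH.comp ρ B U = ⊤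
  swap
  · push Not at hh
    obtain ⟨B, hB, U, h0, hne⟩ := hh
    exact good_imprim ρ hA ih B h0 hne
  let act := DistribMulAction.compHom V ρ
  have hp : SolvLin.Prim A V := fun B hB hab b hb v hv => by
    rw [or_iff_not_imp_right]
    intro hv0
    have := eq_zero_of_homog ρ (hh B hB) (x := ρ b - 1)
      (fun y hy w => by simp only [LinearMap.sub_apply, End.one_apply, map_sub, ← HH.rho_mul,
        hab b hb y hy])
      (fun f hf w => by simp only [LinearMap.sub_apply, End.one_apply, map_sub, hf b hb]) hv0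
      (sub_eq_zero.2 hv)
    exact hf (by rw [map_one]; exact sub_eq_zero.1 this)
  obtain ⟨Z, E, h⟩ := SolvLin.exists_str hp
  by_cases hs : ∀ z ∈ Z, ∃ c : K, ρ z = c • (1 : End K V)
  · exact good_scalar ρ hf h hs
  · push Not at hs
    obtain ⟨z, hz, hs⟩ := hs
    have := h.Zn
    exact good_nonscalar ρ hA ih hf (fun a ha b hb => h.ab ha hb) (hh Z h.Zn) hz hs

end cases

theorem main (r : ℕ) : Main.{u} r := by
  induction r using Nat.strong_induction_on with
  | _ r ih =>
  intro K A V _ _ _ _ _ _ _ ρ hA hr h1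
  subst hr
  have : Nontrivial V := Module.finrank_pos_iff.1 h1
  let σ : Representation K (A ⧸ ρ.ker) V := QuotientGroup.lift _ ρ fun _ h => h
  have hσ : Function.Injective σ := fun x y e => by
    obtain ⟨x, rfl⟩ := QuotientGroup.mk_surjective x
    obtain ⟨y, rfl⟩ := QuotientGroup.mk_surjective y
    have e' : ρ x = ρ y := e
    exact QuotientGroup.eq.2 (by rw [MonoidHom.mem_ker, map_mul, ← e', ← map_mul]; simp)
  have hq : (Nat.card (A ⧸ ρ.ker) : K) ≠ 0 := fun h => by
    obtain ⟨m, hm⟩ := ρ.ker.card_quotient_dvd_card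
    exact hA (by rw [hm, Nat.cast_mul, h, zero_mul])
  exact (good_faithful σ hq ih hσ).comap (QuotientGroup.mk' _)

/-- The main theorem for faithful representations. -/
theorem exists_fitting {K A V : Type u} [Field K] [Group A] [Finite A] [Group.IsSolvable A]
    [AddCommGroup V] [Module K V] [FiniteDimensional K V] [Nontrivial V] (ρ : Representation K A V)
    (hf : Function.Injective ρ) (hA : (Nat.card A : K) ≠ 0) :
    ∃ L ≤ Cfsg.fittingSubgroup A, KQ ⊤ L (3 ^ (finrank K V - 1)) ∧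
      ∃ v, ∀ a ∈ L, ∀ b ∈ L, ρ a v = v → ρ b v = v → a * b = b * a := by
  obtain ⟨L, h1, ⟨n, h2⟩, h3, v, h4⟩ := main _ K A V ρ hA rfl Module.finrank_pos
  refine ⟨L, CL.le_fittingSubgroup_of_isSubnormal h1 (isNilpotent_of_lowerCentralSeries_eq_bot (n := n)
    (eq_bot_iff.2 fun x hx => hf ?_)), h3, v, fun a ha b hb hav hbv => hf ?_⟩
  · rw [map_one]; exact LinearMap.ext (h2 x hx)
  · exact LinearMap.ext (h4 a ha b hb hav hbv)

end CL.Ord.PC
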