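import Mathlib
import Cfsg.Agent.ORD.LinCls
import Cfsg.Agent.FGS.SolvLin4
import Cfsg.Agent.SOLV.MinNormal
import Cfsg.Agent.BLK.FongCover
import Cfsg.Agent.S4958
import Cfsg.Agent.S4567

/-! The class number of a solvable group with trivial `p'`-core, and the number of characters over
an invariant character of a normal subgroup. -/

set_option autoImplicit false

namespace CL.Ord.PC

open Subgroup Module Cfsg
open scoped commutatorElement

universe u

theorem exists_vec {A W : Type u} [Group A] [Finite A] [Group.IsSolvable A] [AddCommGroup W]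
    [Finite W] [Nontrivial W] [DistribMulAction A W] {p : ℕ} [Fact p.Prime] [Module (ZMod p) W]
    (V : Subgroup A) [V.Normal] (hV : ∀ a, a ∈ V ↔ ∀ w : W, a • w = w) (hp : ¬ p ∣ V.index) :
    ∃ r, 1 ≤ r ∧ Nat.card W = p ^ r ∧ ∃ L, V ≤ L ∧ KQ ⊤ L (3 ^ (r - 1)) ∧
      ∃ v : W, ∀ a ∈ L, ∀ b ∈ L, a • v = v → b • v = v → ⁅a, b⁆ ∈ V := by
  let ρ : Representation (ULift.{u} (ZMod p)) A W :=
    { toFun := fun a =>
        { toFun := fun w => a • w
          map_add' := smul_add a
          map_smul' := fun c w =>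
            ((DistribSMul.toAddMonoidHom W a).toZModLinearMap p).map_smul c.down w }
      map_one' := LinearMap.ext (one_smul A)
      map_mul' := fun a b => LinearMap.ext (mul_smul a b) }
  let σ : Representation (ULift.{u} (ZMod p)) (A ⧸ V) W :=
    QuotientGroup.lift V ρ fun a ha => LinearMap.ext ((hV a).1 ha)
  have hc : (Nat.card (A ⧸ V) : ULift.{u} (ZMod p)) ≠ 0 := fun h =>
    hp ((ZMod.natCast_eq_zero_iff _ _).1 (congrArg ULift.down h))
  have hpos : 0 < finrank (ULift.{u} (ZMod p)) W := Module.finrank_pos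
  obtain ⟨L, -, -, h3, v, h4⟩ := main _ _ (A ⧸ V) W σ hc rfl hpos
  refine ⟨_, hpos, ?_, L.comap (QuotientGroup.mk' V), QuotientGroup.le_comap_mk' V L,
    by simpa using h3.comap (QuotientGroup.mk' V), v, fun a ha b hb hav hbv => (hV _).2 fun w => ?_⟩
  · rw [Module.natCard_eq_pow_finrank (K := ULift.{u} (ZMod p)), Nat.card_ulift, Nat.card_zmod]
  · have : (a * b) • (b * a)⁻¹ • w = (b * a) • (b * a)⁻¹ • w := h4 _ ha _ hb hav hbv _
    rw [smul_inv_smul, ← mul_smul] at this
    rw [commutatorElement_def, mul_assoc, ← mul_inv_rev, this]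

theorem k_le_of_normal_sylow {Y : Type u} [Group Y] [Finite Y] [Group.IsSolvable Y] {p : ℕ}
    [hp : Fact p.Prime] (V : Subgroup Y) [V.Normal] (h0 : V ≠ ⊥)
    (hab : ∀ a ∈ V, ∀ b ∈ V, a * b = b * a) (hexp : ∀ a ∈ V, a ^ p = 1) (hi : ¬ p ∣ V.index)
    (hc : centralizer (V : Set Y) ≤ V) :
    ∃ r, 1 ≤ r ∧ Nat.card V = p ^ r ∧ Nat.card (ConjClasses Y) ≤ 3 ^ (r - 1) * p ^ r := by
  have hval : ∀ (n : ℕ) (w : SolvLin.AbMod V hab), (n • w).val = w.val ^ n := fun n w => by
    induction n with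
    | zero => rw [zero_nsmul, pow_zero, SolvLin.AbMod.val_zero]
    | succ n ih => rw [succ_nsmul, SolvLin.AbMod.val_add, ih, pow_succ]
  have hnt : Nontrivial (SolvLin.AbMod V hab) := by
    rw [← Finite.one_lt_card_iff_nontrivial, SolvLin.AbMod.card]
    exact V.one_lt_card_iff_ne_bot.2 h0
  have hfix : ∀ (a : Y) (w : SolvLin.AbMod V hab), a • w = w ↔ w.val * a = a * w.val := fun a w => by
    rw [← SolvLin.AbMod.val_inj.eq_iff, SolvLin.AbMod.val_smul, mul_inv_eq_iff_eq_mul, eq_comm]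
  obtain ⟨r, hr, hW, L, hVL, hk, v, hv⟩ := @exists_vec Y (SolvLin.AbMod V hab) _ _ _ _ _ _ _ p _
    (AddCommGroup.zmodModule fun w => SolvLin.AbMod.val_inj (by
      rw [hval, hexp _ w.val_mem, SolvLin.AbMod.val_zero])) V _
    (fun a => ⟨fun ha w => (hfix a w).2 (hab _ w.val_mem _ ha),
      fun h => hc fun x hx => (hfix a (SolvLin.AbMod.mk hab x hx)).1 (h _)⟩) hi
  rw [SolvLin.AbMod.card] at hW
  refine ⟨r, hr, hW, (hk.k_le (MonoidHom.id Y)).trans (Nat.mul_le_mul_left _ ?_)⟩
  rw [comap_id]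
  have hcard : Nat.card (V.subgroupOf L) = p ^ r := by
    rw [← hW]; exact Nat.card_congr (subgroupOfEquivOfLe hVL).toEquiv
  have hi' : ¬ p ∣ (V.subgroupOf L).index := fun h => hi (h.trans (relIndex_dvd_index_of_le hVL))
  obtain ⟨G, hG⟩ := exists_right_complement'_of_coprime (N := V.subgroupOf L)
    (by rw [hcard]; exact (hp.out.coprime_iff_not_dvd.2 hi').pow_left r)
  rw [← hcard]
  refine Cfsg.Agent.S4958.result p (V.subgroupOf L) (fun x hx => Subtype.ext (hexp _ hx)) hi'
    (le_antisymm (fun x hx => hc fun y hy => congrArg Subtype.val (hx ⟨y, hVL hy⟩ hy))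
      fun x hx y hy => Subtype.ext (hab _ hy _ hx)) G hG ⟨v.val, hVL v.val_mem⟩ v.val_mem
    fun a ha b hb => ?_
  have h1 : ⁅a, b⁆ ∈ V.subgroupOf L := hv a a.2 b b.2
    ((hfix _ _).2 (congrArg Subtype.val (ha.2 _ rfl))) ((hfix _ _).2 (congrArg Subtype.val (hb.2 _ rfl)))
  exact commutatorElement_eq_one_iff_mul_comm.1 (disjoint_def.1 hG.disjoint h1
    (mul_mem (mul_mem (mul_mem ha.1 hb.1) (inv_mem ha.1)) (inv_mem hb.1)))

theorem k_le_of_core (p : ℕ) [hp : Fact p.Prime] (n : ℕ) : ∀ (X : Type u) [Group X] [Finite X]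
    [Group.IsSolvable X], Nat.card X = n → pPrimeCore p X = ⊥ → Nat.card (ConjClasses X) ≤
      3 ^ ((Nat.card X).factorization p - 1) * p ^ (Nat.card X).factorization p := by
  induction n using Nat.strong_induction_on with
  | _ n ih =>
  intro X _ _ _ hn hO
  rcases subsingleton_or_nontrivial X with h | h
  · exact k_le_one.trans (Nat.one_le_iff_ne_zero.2 (by have := hp.out.pos; positivity))
  obtain ⟨V, q, hV, hq, hel, hVq⟩ := exists_isMinNormal_isElementaryAbelian X
  have := hV.normal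
  obtain rfl : q = p := by
    by_contra hne
    have := Fact.mk hq
    obtain ⟨k, hk⟩ := hVq.exists_card_eq
    exact hV.ne_bot (eq_bot_iff.2 (hO ▸ le_pPrimeCore
      (hk ▸ ((Nat.coprime_primes hq hp.out).2 hne).pow_left k)))
  let f := (QuotientGroup.mk' (pPrimeCore q (X ⧸ V))).comp (QuotientGroup.mk' V)
  have hf : Function.Surjective f :=
    (QuotientGroup.mk'_surjective _).comp (QuotientGroup.mk'_surjective _)
  have hker : f.ker = (pPrimeCore q (X ⧸ V)).comap (QuotientGroup.mk' V) := by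
    rw [← MonoidHom.comap_ker, QuotientGroup.ker_mk']
  have hVK : V ≤ f.ker := hker ▸ QuotientGroup.le_comap_mk' V _
  have hi : (V.subgroupOf f.ker).index = Nat.card (pPrimeCore q (X ⧸ V)) := by
    have := relIndex_comap (⊥ : Subgroup (X ⧸ V)) (QuotientGroup.mk' V) f.ker
    rw [MonoidHom.comap_bot, QuotientGroup.ker_mk', relIndex_bot_left] at this
    have e : f.ker.map (QuotientGroup.mk' V) = pPrimeCore q (X ⧸ V) := by
      rw [hker, map_comap_eq_self_of_surjective (QuotientGroup.mk'_surjective V)]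
    rw [e] at this
    exact this
  have hi' : ¬ q ∣ (V.subgroupOf f.ker).index := hi ▸ not_dvd_card_pPrimeCore q _
  have hpc : pCore q f.ker = V.subgroupOf f.ker := by
    have hq' : IsPGroup q (V.subgroupOf f.ker) := hVq.comap_subtype
    exact le_antisymm (pCore_le_sylow (hq'.toSylow hi')) (le_pCore hq')
  have hc := centralizer_pCore_le_of_isSolvable (G := f.ker) (p := q)
    (pPrimeCore_eq_bot_of_isSubnormal (Normal.isSubnormal inferInstance) hO)
  rw [hpc] at hc
  have hcV : Nat.card (V.subgroupOf f.ker) = Nat.card V :=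
    Nat.card_congr (subgroupOfEquivOfLe hVK).toEquiv
  obtain ⟨r, hr, h1, h2⟩ := k_le_of_normal_sylow (V.subgroupOf f.ker)
    (fun e => hV.ne_bot (by rwa [subgroupOf_eq_bot, disjoint_iff, inf_eq_left.2 hVK] at e))
    (fun a ha b hb => Subtype.ext (congrArg (Subtype.val : V → X) (hel.1.1.1 ⟨a, ha⟩ ⟨b, hb⟩)))
    (fun a ha => Subtype.ext (hel.2 a ha)) hi' hc
  have e1 := f.ker.card_mul_index
  rw [index_ker, MonoidHom.range_eq_top.2 hf, card_top] at e1
  have e2 := (V.subgroupOf f.ker).card_mul_index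
  have hlt : 1 < Nat.card f.ker := f.ker.one_lt_card_iff_ne_bot.2 fun e =>
    hV.ne_bot (eq_bot_iff.2 (e ▸ hVK))
  have h3 := ih _ (by rw [← hn, ← e1]; exact lt_mul_of_one_lt_left Nat.card_pos hlt) _ rfl
    (pPrimeCore_quotient_pPrimeCore q (X ⧸ V))
  have h4 := k_le_ker_range f
  rw [MonoidHom.range_eq_top.2 hf, k_congr topEquiv] at h4
  have e3 : (Nat.card X).factorization q =
      r + (Nat.card ((X ⧸ V) ⧸ pPrimeCore q (X ⧸ V))).factorization q := by
    rw [← e1, Nat.factorization_mul Nat.card_pos.ne' Nat.card_pos.ne', ← e2, h1,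
      Nat.factorization_mul (pow_pos hq.pos r).ne' index_ne_zero_of_finite]
    simp [hq.factorization_pow, Nat.factorization_eq_zero_of_not_dvd hi']
  refine h4.trans ((Nat.mul_le_mul h2 h3).trans ?_)
  rw [e3, mul_mul_mul_comm, ← pow_add, ← pow_add]
  exact Nat.mul_le_mul_right _ (Nat.pow_le_pow_right (by norm_num) (by omega))

theorem card_overSet_le {G : Type u} [Group G] [Finite G] (N : Subgroup G) [N.Normal] [Fintype N]
    {θ : N → ℂ} (hθ : IsIrrCharacter N θ) (hinv : Char.inertia N θ = ⊤) :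
    Nat.card (Blk.overSet N θ) ≤ Nat.card (ConjClasses (G ⧸ N)) := by
  obtain ⟨Γ, _, _, H, _, _, π, ρ, θ', Z, μ, h⟩ := Blk.exists_isFC N hθ hinv
  have := h.normal
  have := Fintype.ofFinite Z
  have := Fintype.ofFinite H
  obtain ⟨e, -⟩ := h.exists_equiv hθ hinv
  have s1 : Function.Surjective ((QuotientGroup.mk' N).comp π) :=
    (QuotientGroup.mk'_surjective N).comp h.surjπ
  have s2 : Function.Surjective ((QuotientGroup.mk' Z).comp ρ) :=
    (QuotientGroup.mk'_surjective Z).comp h.surjρ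
  have e2 : H ⧸ Z ≃* G ⧸ N := (QuotientGroup.quotientKerEquivOfSurjective _ s2).symm.trans
    ((QuotientGroup.quotientMulEquivOfEq (by
      rw [← MonoidHom.comap_ker, ← MonoidHom.comap_ker, QuotientGroup.ker_mk', QuotientGroup.ker_mk',
        h.comap_eq])).trans (QuotientGroup.quotientKerEquivOfSurjective _ s1))
  rw [Nat.card_congr e, ← k_congr e2]
  have := Cfsg.Agent.S4567.result Z h.central ⟨fun z => (μ z : ℂ), Char.isIrrCharacter_hom μ⟩
    fun n hn => h.inj (Units.ext hn)
  exact this.le.trans (Finite.card_subtype_le _)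

end CL.Ord.PC
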