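import Mathlib
import Cfsg.Agent.ORD.Deg3

/-!
# Groups whose nonlinear characters have prime degree (Isaacs–Passman; Isaacs 12.11)
-/

set_option autoImplicit false
set_option linter.unusedSectionVars false
open Cfsg CL.Char
open scoped ComplexConjugate commutatorElement

namespace CL.Ord

universe u
variable {G : Type*} [Group G]

theorem card_dvd_degree_of_vanish [Finite G] {P : Subgroup G} {χ : G → ℂ} (hχ : IsCharacter G χ)
    (h : ∀ x ∈ P, x ≠ 1 → χ x = 0) : Nat.card P ∣ charDegree χ := by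
  have := Fintype.ofFinite P
  obtain ⟨n, hn⟩ := (hχ.res P).exists_nat_inner isCharacter_one
  have h1 := card_mul_classInner (fun x : P => χ x) (fun _ => 1)
  rw [hn, Finset.sum_eq_single (1 : P) (fun g _ hg => by
    rw [h g g.2 fun e => hg (Subtype.ext e), zero_mul]) (by simp)] at h1
  simp only [OneMemClass.coe_one, map_one, mul_one, hχ.apply_one_eq_charDegree] at h1
  exact ⟨n, by exact_mod_cast h1.symm⟩

theorem card_sylow_eq_of_prime_degree [Finite G] {χ : G → ℂ} (hχ : IsIrrCharacter G χ)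
    (hc : charCenter χ = ⊥) {q : ℕ} [hq : Fact q.Prime] (hχq : charDegree χ = q) (P : Sylow q G) :
    Nat.card P = q := by
  have := Fintype.ofFinite (P : Subgroup G)
  have hk : charKer χ = ⊥ := eq_bot_iff.mpr (hc ▸ charKer_le_charCenter χ)
  have hqd : q ∣ Nat.card G := hχq ▸ hχ.charDegree_dvd_card
  obtain ⟨k, hk'⟩ := IsPGroup.iff_card.mp P.isPGroup'
  have hab : ∀ a ∈ (P : Subgroup G), ∀ b ∈ (P : Subgroup G), a * b = b * a := by
    by_cases hl : ∀ θ, IsIrrCharacter (P : Subgroup G) θ →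
        classInner (fun x : (P : Subgroup G) => χ x) θ ≠ 0 → θ 1 = 1
    · intro a ha b hb
      have h1 : ⁅(⟨a, ha⟩ : (P : Subgroup G)), (⟨b, hb⟩ : (P : Subgroup G))⁆ ∈
          charKer fun x : (P : Subgroup G) => χ x :=
        (hχ.isCharacter.res P).mem_charKer_iff_constituents.mpr fun θ hθ h =>
          hθ.commutator_le_charKer_iff.mpr (hl θ hθ h)
            (Subgroup.commutator_mem_commutator (Subgroup.mem_top _) (Subgroup.mem_top _))
      rw [hχ.isCharacter.charKer_res, hk, Subgroup.bot_subgroupOf, Subgroup.mem_bot,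
        commutatorElement_eq_one_iff_mul_comm] at h1
      exact congrArg Subtype.val h1
    · exfalso
      push Not at hl
      obtain ⟨θ, hθ, hne, h1⟩ := hl
      obtain ⟨j, -, hj⟩ := (Nat.dvd_prime_pow hq.out).mp (hk' ▸ hθ.charDegree_dvd_card)
      have hj0 : j ≠ 0 := fun e => h1 (hθ.isCharacter.charDegree_eq_one_iff.mp (by simp [hj, e]))
      have h2 := (hχ.isCharacter.res P).charDegree_le_of_inner_ne_zero hθ hne
      rw [charDegree_res, hχq] at h2
      have h3 : charDegree θ = q := le_antisymm h2 (hj ▸ Nat.le_self_pow hj0 q)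
      have h4 : (fun x : (P : Subgroup G) => χ x) = θ :=
        (hχ.isCharacter.res P).eq_of_inner_ne_zero_of_degree hθ hne (by
          simp only [OneMemClass.coe_one]
          rw [hχ.apply_one_eq_charDegree, hθ.apply_one_eq_charDegree, hχq, h3])
      have : Nontrivial (P : Subgroup G) := (Subgroup.nontrivial_iff_ne_bot _).mpr (P.ne_bot_of_dvd_card hqd)
      have h5 := hθ.center_le_charCenter
      rw [← h4, show (charCenter fun x : (P : Subgroup G) => χ x) =
        (charCenter χ).comap (P : Subgroup G).subtype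
        from hχ.isCharacter.charCenter_comp (P : Subgroup G).subtype, hc, MonoidHom.comap_bot, Subgroup.ker_subtype,
        le_bot_iff] at h5
      exact (Subgroup.nontrivial_iff_ne_bot _).mp P.isPGroup'.center_nontrivial h5
  have h1 := card_dvd_degree_of_vanish (P := P) hχ.isCharacter fun x hx hx1 => by
    refine (hχ.eq_zero_or_norm_eq x ?_).resolve_right fun e => hx1 ?_
    · rw [hχq, Nat.Prime.coprime_iff_not_dvd hq.out]
      exact fun h => P.not_dvd_index (h.trans (Subgroup.index_dvd_of_le fun y hy =>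
        Subgroup.mem_centralizer_singleton_iff.mpr (hab y hy x hx)))
    · rwa [← hχ.mem_charCenter, hc] at e
  rw [hχq] at h1
  exact ((Nat.dvd_prime hq.out).mp h1).resolve_left fun e =>
    P.ne_bot_of_dvd_card hqd (Subgroup.card_eq_one.mp e)

theorem exists_max_degree (G : Type*) [Group G] [Finite G] :
    ∃ χ, IsIrrCharacter G χ ∧ ∀ ψ, IsIrrCharacter G ψ → charDegree ψ ≤ charDegree χ := by
  obtain ⟨χ, hχ⟩ := Finite.exists_max fun χ : IrrCharacter G => charDegree (χ : G → ℂ)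
  exact ⟨χ, χ.2, fun ψ hψ => hχ ⟨ψ, hψ⟩⟩

theorem MinNab.commutator_comm_of_prime {H : Type*} [Group H] [Finite H] (hH : MinNab H)
    (h : ∀ χ, IsIrrCharacter H χ → charDegree χ ≠ 1 → (charDegree χ).Prime) :
    ∀ a ∈ commutator H, ∀ b ∈ commutator H, a * b = b * a := by
  classical
  have := Fintype.ofFinite H
  obtain ⟨χ, hχ, hmax⟩ := exists_max_degree H
  by_cases h4 : charDegree χ ≤ 4
  · exact hH.commutator_comm_of_degree_le fun ψ hψ => (hmax ψ hψ).trans h4
  by_contra hc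
  obtain ⟨q, hq⟩ : ∃ q, charDegree χ = q := ⟨_, rfl⟩
  rw [hq] at hmax h4
  have hqp : q.Prime := hq ▸ h χ hχ (by omega)
  have : Fact q.Prime := ⟨hqp⟩
  have hk := hH.charKer_eq_bot hχ (by omega)
  have hZ : Subgroup.center H = ⊥ :=
    eq_bot_iff.mpr (hH.centralizer_eq_bot hc ▸ Subgroup.center_le_centralizer _)
  obtain ⟨P⟩ : Nonempty (Sylow q H) := inferInstance
  have hP := card_sylow_eq_of_prime_degree hχ ((hχ.charCenter_eq_center hk).trans hZ) hq P
  obtain ⟨M, hM⟩ := CL.Glb.exists_isPModular hqp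
  obtain ⟨e, he⟩ : ∃ e, (Subgroup.centralizer ((P : Subgroup H) : Set H)).relIndex
    (Subgroup.normalizer ((P : Subgroup H) : Set H)) = e := ⟨_, rfl⟩
  have hed : e ∣ q - 1 := he ▸ relIndex_centralizer_dvd_of_prime hqp hP
  have he0 : 0 < e := Nat.pos_of_dvd_of_pos hed (by omega)
  by_cases he1 : e = 1
  · rw [he1, Subgroup.relIndex_eq_one] at he
    obtain ⟨Q, hQn, hQ, k, hk'⟩ := CL.hasNPC_iff_exists_normal_index.mp
      (CL.hasNPC_of_normalizer_le_centralizer P he)
    have := Fintype.ofFinite Q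
    obtain ⟨θ, hθ, hne⟩ := hχ.exists_under_res Q
    have h1 := commutator_le_charKer_of_linear_under hχ hθ hne (Nat.eq_one_of_dvd_coprimes hQ
      hθ.charDegree_dvd_card (hq ▸ CL.Blk.charDegree_dvd_of_under hχ hθ hne))
    by_cases hQ0 : Q = ⊥
    · rw [hQ0, Subgroup.index_bot] at hk'
      have : Nontrivial H := by
        by_contra hn
        rw [not_nontrivial_iff_subsingleton] at hn
        exact hH.ne_bot (Subsingleton.elim _ _)
      have := (IsPGroup.of_card hk').center_nontrivial (G := H)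
      exact (Subgroup.nontrivial_iff_ne_bot _).mp this hZ
    refine hc fun a ha b hb => ?_
    rw [← commutatorElement_eq_one_iff_mul_comm, ← Subgroup.mem_bot, ← hk]
    exact h1 (Subgroup.commutator_mem_commutator (hH.le Q hQn hQ0 ha) (hH.le Q hQn hQ0 hb))
  obtain ⟨X, Y, -, -, hX, hY, εX, ε, h1, hε, -, -, h3⟩ :=
    Cfsg.Agent.S4441.result q M hM (by omega) P hP e he
  obtain ⟨X, rfl⟩ : ∃ X' : Finset (IrrCharacter H), X = X' := ⟨(Set.toFinite X).toFinset, by simp⟩
  rw [Nat.card_coe_set_eq, Set.ncard_coe_finset] at hX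
  obtain ⟨θ, hθ⟩ : Y.Nonempty := by
    rw [← Set.nonempty_coe_sort]
    exact (Nat.card_pos_iff.mp (hY ▸ Nat.div_pos (Nat.le_of_dvd (by omega) hed) he0)).1
  have hX1 : ∀ ψ ∈ X, εX ψ = 1 ∧ charDegree (ψ : H → ℂ) = 1 := by
    intro ψ hψ
    obtain ⟨h5, h6, -⟩ := h1 ψ hψ
    have h7 := hmax _ ψ.2
    have h8 := ψ.2.charDegree_pos
    rcases h5 with h5 | h5
    · rw [h5] at h6
      refine ⟨h5, ?_⟩
      by_contra h9
      have := Int.le_of_dvd (by omega) h6.symm.dvd
      omega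
    · exfalso
      rw [h5] at h6
      obtain ⟨c, hc⟩ := h6.symm.dvd
      have h9 : c = 1 := by nlinarith
      have h10 : charDegree (ψ : H → ℂ) + 1 = q := by rw [h9] at hc; omega
      rcases (h _ ψ.2 (by omega)).eq_two_or_odd with h11 | h11
      · omega
      · rcases hqp.eq_two_or_odd with h12 | h12 <;> omega
  have h5 : ∀ g ∈ commutator H, ¬ q ∣ orderOf g → (ε : ℂ) * (θ : H → ℂ) g = e := by
    intro g hg hqg
    rw [h3 θ hθ g hqg, finsum_mem_coe_finset, Finset.sum_congr rfl (g := fun _ => (1 : ℂ))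
      fun ψ hψ => by
        have h6 := ψ.2.isCharacter.charDegree_eq_one_iff.mp (hX1 ψ hψ).2
        rw [(hX1 ψ hψ).1, ψ.2.one_eq_one_iff_commutator.mp h6 g hg, h6]; simp,
      Finset.sum_const, hX, nsmul_eq_mul, mul_one]
  have h6 := h5 1 (one_mem _) (by rw [orderOf_one, Nat.dvd_one]; omega)
  have hε0 : (ε : ℂ) ≠ 0 := by rcases hε with rfl | rfl <;> simp
  have hθ1 : charDegree (θ : H → ℂ) ≠ 1 := by
    intro h7
    rw [θ.2.apply_one_eq_charDegree, h7] at h6
    have h8 : ε * (1 : ℕ) = e := by exact_mod_cast h6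
    rcases hε with rfl | rfl <;> omega
  have h7 : IsPGroup q (commutator H) := IsPGroup.iff_orderOf.mpr fun y => by
    refine ⟨_, Nat.eq_prime_pow_of_unique_prime_dvd (orderOf_pos y).ne' fun {r} hr hrd => ?_⟩
    by_contra hne
    have h8 : orderOf (y ^ (orderOf y / r)) = r := orderOf_pow_orderOf_div (orderOf_pos y).ne' hrd
    have h9 := h5 _ (y ^ (orderOf y / r)).2 (by
      rw [Subgroup.orderOf_coe, h8]
      exact fun h9 => hne ((Nat.prime_dvd_prime_iff_eq hqp hr).mp h9).symm)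
    have h10 := mul_left_cancel₀ hε0 (h9.trans h6.symm)
    rw [← θ.2.mem_charKer, hH.charKer_eq_bot θ.2 hθ1, Subgroup.mem_bot,
      OneMemClass.coe_eq_one] at h10
    rw [h10, orderOf_one] at h8
    exact hr.one_lt.ne h8
  have := h7.isNilpotent
  exact hc fun a ha b hb => congrArg Subtype.val
    ((hH.isMinNormal.isMulCommutative_of_isSolvable inferInstance).is_comm.comm
      (⟨a, ha⟩ : commutator H) ⟨b, hb⟩)

theorem exists_three_of_prime_degrees [Finite G]
    (h : ∀ χ, IsIrrCharacter G χ → charDegree χ ≠ 1 → (charDegree χ).Prime) :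
    ∃ m n, ∀ χ, IsIrrCharacter G χ →
      charDegree χ = 1 ∨ charDegree χ = m ∨ charDegree χ = n := by
  by_cases hG : commutator G = ⊥
  · exact ⟨1, 1, fun χ hχ => Or.inl (hχ.isCharacter.charDegree_eq_one_iff.mpr
      (hχ.commutator_le_charKer_iff.mp (hG ▸ bot_le)))⟩
  obtain ⟨K, hKn, -, hK⟩ := exists_minNab (⊥ : Subgroup G) (fun e => hG (le_bot_iff.mp e))
  obtain ⟨π, hπ⟩ : ∃ π : G →* G ⧸ K, π = QuotientGroup.mk' K := ⟨_, rfl⟩
  have hsurj : Function.Surjective π := hπ ▸ QuotientGroup.mk'_surjective K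
  have hker : π.ker = K := by rw [hπ, QuotientGroup.ker_mk']
  obtain ⟨τ, hτ, hτ1⟩ := hK.exists_nonlinear
  have hτ' := hτ.comp_surjective π hsurj
  have hq : ∀ χ, IsIrrCharacter (G ⧸ K) χ → charDegree χ ≠ 1 → (charDegree χ).Prime :=
    fun χ hχ => charDegree_comp χ π ▸ h _ (hχ.comp_surjective π hsurj)
  have hτp := hq τ hτ hτ1
  by_cases hZ : Subgroup.center (G ⧸ K) = ⊥
  swap
  · obtain ⟨p, hp, hPG⟩ := hK.exists_isPGroup hZ
    have : Fact p.Prime := ⟨hp⟩
    obtain ⟨k, hk⟩ := IsPGroup.iff_card.mp hPG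
    refine ⟨p, p, fun χ hχ => or_iff_not_imp_left.mpr fun h1 => Or.inl ?_⟩
    by_contra h2
    have h3 := res_irr_of_coprime_index (N := K) hχ hχ.apply_one_eq_charDegree (by
      rw [K.index_eq_card, hk]
      exact ((Nat.coprime_primes (h χ hχ h1) hp).mpr h2).pow_right k)
    have h4 := h _ (gallagher_irr hχ.isCharacter h3 hτ' fun x hx => by
      simp only [map_one, MonoidHom.mem_ker.mp (hker.ge hx)])
    rw [charDegree_mul hτ'.isCharacter hχ.isCharacter, charDegree_comp] at h4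
    exact Nat.not_prime_mul hτ1 h1 (h4 fun e => h1 (Nat.eq_one_of_mul_eq_one_left e))
  have hc := hK.commutator_comm_of_prime hq
  obtain ⟨p, hp, hVp⟩ := hK.exists_prime_pow_eq_one hc
  have : Fact p.Prime := ⟨hp⟩
  have hf := hK.degree_frob hZ hc hτ hτ1
  obtain ⟨N, hN⟩ : ∃ N, N = (commutator (G ⧸ K)).comap π := ⟨_, rfl⟩
  have hNn : N.Normal := hN ▸ inferInstance
  have := Fintype.ofFinite N
  have hpV : p ∣ Nat.card (commutator (G ⧸ K)) := by
    have h1 : IsPGroup p (commutator (G ⧸ K)) :=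
      fun x => ⟨1, Subtype.ext (by simpa using hVp x x.2)⟩
    exact h1.card_eq_or_dvd.resolve_left fun e => hK.ne_bot (Subgroup.card_eq_one.mp e)
  refine ⟨charDegree τ, p, fun χ hχ => or_iff_not_imp_left.mpr fun h1 => ?_⟩
  obtain ⟨θ, hθ, hne⟩ := hχ.exists_under_res N
  obtain ⟨k, h2, h3⟩ := exists_charDegree_eq_mul hχ hθ hne
  rw [hN, Subgroup.index_comap_of_surjective _ hsurj, ← hf] at h3
  by_cases hθ1 : charDegree θ = 1
  · rw [hθ1, mul_one] at h2
    exact Or.inl (h2.trans (((Nat.dvd_prime hτp).mp h3).resolve_left (h2 ▸ h1)))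
  rcases frob_alt_degree π hsurj hc (hK.fpf hZ hc) hN hθ with ⟨ψ, hψ, h4⟩ | h4
  · rw [← hf] at h4
    have h5 := h ψ hψ
    rw [h4] at h5
    exact absurd (h5 fun e => hθ1 (Nat.eq_one_of_mul_eq_one_left e)) (Nat.not_prime_mul hτ1 hθ1)
  · right
    have h5 := index_dvd_sq_of_vanish (K := π.ker.subgroupOf N) hθ h4
    rw [← Subgroup.relIndex, Subgroup.relIndex_ker, show N.map π = commutator (G ⧸ K) by
      rw [hN, Subgroup.map_comap_eq_self_of_surjective hsurj]] at h5
    exact ((Nat.prime_dvd_prime_iff_eq hp (h χ hχ h1)).mp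
      (h2 ▸ (hp.dvd_of_dvd_pow (hpV.trans h5)).mul_left k)).symm

theorem ncard_charDegrees_le_three {m n : ℕ} (h : ∀ χ, IsIrrCharacter G χ →
    charDegree χ = 1 ∨ charDegree χ = m ∨ charDegree χ = n) : (charDegrees G).ncard ≤ 3 := by
  refine (Set.ncard_le_ncard (t := {1, m, n}) ?_).trans ?_
  · rintro _ ⟨χ, rfl⟩
    exact h _ χ.2
  · exact (Set.ncard_insert_le _ _).trans (Nat.succ_le_succ ((Set.ncard_insert_le _ _).trans
      (by simp)))

section OneP

variable {Z : Subgroup G} [hZ : Z.Normal]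

/-- `z ↦ [g, z]` on an abelian normal subgroup. -/
def commHom (hc : ∀ a ∈ Z, ∀ b ∈ Z, a * b = b * a) (g : G) : Z →* Z :=
  MonoidHom.mk' (fun z => ⟨g * z * g⁻¹ * z⁻¹, Z.mul_mem (hZ.conj_mem _ z.2 g) (Z.inv_mem z.2)⟩)
    fun a b => Subtype.ext (by
      have h1 := hc _ (Z.inv_mem a.2) _ (Z.mul_mem (hZ.conj_mem _ b.2 g) (Z.inv_mem b.2))
      simp only [Subgroup.coe_mul, Subgroup.coe_inv, mul_inv_rev] at h1 ⊢
      calc _ = g * a * g⁻¹ * (g * b * g⁻¹ * (b : G)⁻¹ * (a : G)⁻¹) := by group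
        _ = _ := by rw [← h1]; group)

theorem commHom_coe (hc : ∀ a ∈ Z, ∀ b ∈ Z, a * b = b * a) (g : G) (z : Z) :
    (commHom hc g z : G) = g * z * g⁻¹ * (z : G)⁻¹ := rfl

theorem commHom_eq_one_iff (hc : ∀ a ∈ Z, ∀ b ∈ Z, a * b = b * a) (g : G) (z : Z) :
    commHom hc g z = 1 ↔ g * z = z * g := by
  rw [← OneMemClass.coe_eq_one, commHom_coe, mul_inv_eq_one, mul_inv_eq_iff_eq_mul]

theorem homConj_eq_iff (hc : ∀ a ∈ Z, ∀ b ∈ Z, a * b = b * a) (g : G) (lam : Z →* ℂˣ) :
    homConj Z g lam = lam ↔ ∀ n ∈ (commHom hc g).range, lam n = 1 := by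
  have key : ∀ z, homConj Z g lam z = lam (commHom hc g z) * lam z := fun z => by
    rw [homConj_apply, ← map_mul]
    congr 1
    ext
    simp [commHom_coe]
  constructor
  · rintro h _ ⟨z, rfl⟩
    have := key z
    rwa [h, right_eq_mul] at this
  · intro h
    ext z
    rw [key, h _ ⟨z, rfl⟩, one_mul]

theorem card_fixed_mul [Finite G] (hc : ∀ a ∈ Z, ∀ b ∈ Z, a * b = b * a) (g : G) :
    Nat.card {lam : Z →* ℂˣ // homConj Z g lam = lam} * Nat.card (commHom hc g).range =
      Nat.card Z := by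
  simp_rw [homConj_eq_iff hc]
  rw [card_hom_trivial_on _ (by
    rw [commutator_eq_bot_of_comm fun a b => Subtype.ext (hc _ a.2 _ b.2)]; exact bot_le),
    Subgroup.index_mul_card]

theorem index_center_of_fixed [Finite G] [Group.IsNilpotent G] {p : ℕ} (hp : p.Prime)
    (hc : ∀ a ∈ Z, ∀ b ∈ Z, a * b = b * a) (hG : commutator G ≤ Z) (hi : Z.index = p ^ 2)
    (hpow : ∀ g : G, g ^ p ∈ Z) (hGp : IsPGroup p (commutator G))
    (hT : ∀ lam : Z →* ℂˣ, ∃ g ∉ Z, homConj Z g lam = lam)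
    (hD : ∀ g ∉ Z, (commHom hc g).range ≠ ⊥) : (Subgroup.center G).index = p ^ 3 := by
  classical
  have := Fintype.ofFinite G
  have : Fact p.Prime := ⟨hp⟩
  obtain ⟨z, hz⟩ : ∃ z, Nat.card Z = z := ⟨_, rfl⟩
  have hz0 : 0 < z := hz ▸ Nat.card_pos
  have hcG : Nat.card G = z * p ^ 2 := by rw [← hz, ← hi, Z.card_mul_index]
  have hidx : ∀ H : Subgroup G, Z ≤ H → H ≠ Z → H.index = 1 ∨ H.index = p := by
    intro H h1 h2
    obtain ⟨j, hj, h3⟩ := (Nat.dvd_prime_pow hp).mp (hi ▸ Subgroup.index_dvd_of_le h1)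
    have : j ≠ 2 := by
      rintro rfl
      exact h2 (Subgroup.eq_of_le_of_card_ge h1 (Nat.eq_of_mul_eq_mul_right (pow_pos hp.pos 2)
        (by rw [← h3, H.card_mul_index, h3, hcG, hz])).le).symm
    interval_cases j <;> simp_all
  have hH : ∀ g ∉ Z, (Z ⊔ Subgroup.zpowers g).index = p := by
    intro g hg
    refine (hidx _ le_sup_left fun e => hg (e ▸ Subgroup.mem_sup_right
      (Subgroup.mem_zpowers g))).resolve_left fun e => ?_
    have h1 := Subgroup.relIndex_mul_index (le_sup_left (a := Z) (b := Subgroup.zpowers g))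
    rw [e, mul_one, hi, Subgroup.relIndex_sup_left, ← QuotientGroup.ker_mk' Z,
      Subgroup.relIndex_ker, MonoidHom.map_zpowers, Nat.card_zpowers] at h1
    have h2 : orderOf (QuotientGroup.mk' Z g) ∣ p := orderOf_dvd_of_pow_eq_one (by
      rw [← map_pow, QuotientGroup.mk'_apply, QuotientGroup.eq_one_iff]; exact hpow g)
    have := Nat.le_of_dvd hp.pos (h1 ▸ h2)
    nlinarith [hp.one_lt]
  have htop : ∀ g ∉ Z, ∀ U : Subgroup G, Z ≤ U → g ∈ U →
      ∀ x ∈ U, x ∉ Z ⊔ Subgroup.zpowers g → U = ⊤ := by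
    intro g hg U h1 h2 x hx hx'
    have h3 : Z ⊔ Subgroup.zpowers g ≤ U := sup_le h1 (Subgroup.zpowers_le.mpr h2)
    rw [← Subgroup.index_eq_one]
    refine ((Nat.dvd_prime hp).mp (hH g hg ▸ Subgroup.index_dvd_of_le h3)).resolve_right fun e => ?_
    refine hx' (Subgroup.eq_of_le_of_card_ge h3 (Nat.eq_of_mul_eq_mul_right hp.pos ?_).le ▸ hx)
    rw [← e, U.card_mul_index, e, ← hH g hg, Subgroup.card_mul_index]
  have hd : ∀ g ∉ Z, ∃ j, j ≠ 0 ∧ Nat.card (commHom hc g).range = p ^ j := by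
    intro g hg
    have h1 : IsPGroup p (commHom hc g).range := by
      rintro ⟨_, y, rfl⟩
      obtain ⟨k, hk⟩ := hGp ⟨commHom hc g y,
        Subgroup.commutator_mem_commutator (Subgroup.mem_top g) (Subgroup.mem_top (y : G))⟩
      exact ⟨k, Subtype.ext (Subtype.ext (by simpa using congrArg Subtype.val hk))⟩
    obtain ⟨j, hj⟩ := IsPGroup.iff_card.mp h1
    exact ⟨j, fun e => hD g hg (Subgroup.card_eq_one.mp (by rw [hj, e, pow_zero])), hj⟩
  obtain ⟨g₀, hg₀, hd₀, g₁, hg₁, hd₁⟩ : ∃ g₀ ∉ Z, Nat.card (commHom hc g₀).range = p ∧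
      ∃ g₁ ∉ Z ⊔ Subgroup.zpowers g₀, Nat.card (commHom hc g₁).range = p := by
    by_contra hcon
    push Not at hcon
    obtain ⟨H, hZH, hHi, hHd⟩ : ∃ H : Subgroup G, Z ≤ H ∧ H.index = p ∧
        ∀ g ∉ H, Nat.card (commHom hc g).range ≠ p := by
      by_cases h0 : ∃ g₀ ∉ Z, Nat.card (commHom hc g₀).range = p
      · obtain ⟨g₀, h1, h2⟩ := h0
        exact ⟨_, le_sup_left, hH g₀ h1, hcon g₀ h1 h2⟩
      · push Not at h0
        obtain ⟨g, hg, -⟩ := hT 1
        exact ⟨_, le_sup_left, hH g hg, fun x hx => h0 x fun h => hx (Subgroup.mem_sup_left h)⟩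
    have hcH : Nat.card H = z * p := Nat.eq_of_mul_eq_mul_right hp.pos (by
      rw [← hHi, H.card_mul_index, hHi, hcG]; ring)
    obtain ⟨F, hF⟩ : ∃ F : G → ℕ,
      F = fun g => Nat.card {lam : Z →* ℂˣ // homConj Z g lam = lam} := ⟨_, rfl⟩
    have hFm : ∀ g, F g * Nat.card (commHom hc g).range = z := fun g => by
      rw [hF, ← hz]; exact card_fixed_mul hc g
    have := Fintype.ofFinite (Z →* ℂˣ)
    have h1 : ∑ g, F g = ∑ lam : Z →* ℂˣ, Nat.card (inertia Z fun a => (lam a : ℂ)) := by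
      simp_rw [hF, Nat.card_eq_fintype_card, Fintype.card_subtype, Finset.card_filter]
      rw [Finset.sum_comm]
      simp_rw [mem_inertia_hom]
    have h2 : z * (z * p) + z * p ^ 2 ≤ ∑ g, F g + z * p := by
      rw [h1, ← Finset.add_sum_erase _ _ (Finset.mem_univ 1)]
      have h3 : (Finset.univ.erase (1 : Z →* ℂˣ)).card * (z * p) ≤
          ∑ lam ∈ Finset.univ.erase (1 : Z →* ℂˣ), Nat.card (inertia Z fun a => (lam a : ℂ)) :=
        Finset.card_nsmul_le_sum _ _ _ fun lam _ => by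
          obtain ⟨g, hg, hgl⟩ := hT lam
          have h4 := (inertia Z fun a => (lam a : ℂ)).card_mul_index
          rw [hcG] at h4
          rcases hidx _ (le_inertia (isIrrCharacter_hom lam).isClassFunction)
            (fun e => hg (e ▸ mem_inertia_hom.mpr hgl)) with h5 | h5 <;> rw [h5] at h4
          · nlinarith [hp.one_lt]
          · exact (Nat.eq_of_mul_eq_mul_right hp.pos (by rw [h4]; ring)).ge
      have h4 := Finset.card_erase_add_one (Finset.mem_univ (1 : Z →* ℂˣ))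
      rw [Finset.card_univ, ← Nat.card_eq_fintype_card,
        card_hom_of_comm fun a b => Subtype.ext (hc _ a.2 _ b.2), hz] at h4
      have h5 : (inertia Z fun a => ((1 : Z →* ℂˣ) a : ℂ)) = ⊤ := inertia_const 1
      rw [h5, Subgroup.card_top, hcG]
      nlinarith
    have h3 : ∀ g, p ^ 2 * F g ≤ z + (if g ∈ H then (p - 1) * z else 0) +
        (if g ∈ Z then (p ^ 2 - p) * z else 0) := by
      intro g
      have h4 := hFm g
      obtain ⟨q, rfl⟩ := Nat.exists_eq_add_one_of_ne_zero hp.ne_zero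
      have h0 : (q + 1) ^ 2 - (q + 1) = q * (q + 1) := by
        rw [Nat.sub_eq_iff_eq_add (Nat.le_self_pow two_ne_zero _)]; ring
      rw [h0, Nat.add_sub_cancel]
      by_cases hgZ : g ∈ Z
      · rw [if_pos (hZH hgZ), if_pos hgZ]
        have : F g ≤ z := h4 ▸ Nat.le_mul_of_pos_right _ Nat.card_pos
        nlinarith
      obtain ⟨j, hj0, hj⟩ := hd g hgZ
      rw [if_neg hgZ]
      by_cases hgH : g ∈ H
      · rw [if_pos hgH]
        have : F g * (q + 1) ≤ z := h4 ▸ Nat.mul_le_mul_left _ (hj ▸ Nat.le_self_pow hj0 _)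
        nlinarith
      · rw [if_neg hgH]
        have h5 : 2 ≤ j := by
          by_contra h6
          exact hHd g hgH (by rw [hj, show j = 1 by omega, pow_one])
        have : F g * (q + 1) ^ 2 ≤ z :=
          h4 ▸ Nat.mul_le_mul_left _ (hj ▸ Nat.pow_le_pow_right hp.pos h5)
        nlinarith
    have h4 := Finset.sum_le_sum fun g (_ : g ∈ Finset.univ) => h3 g
    have h5 : ∀ (U : Subgroup G) (c : ℕ), ∑ g, (if g ∈ U then c else 0) = Nat.card U * c := by
      intro U c
      rw [← Finset.sum_filter, Finset.sum_const, smul_eq_mul, Nat.card_eq_fintype_card,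
        Fintype.card_subtype]
    rw [← Finset.mul_sum, Finset.sum_add_distrib, Finset.sum_add_distrib, h5, h5, Finset.sum_const,
      Finset.card_univ, ← Nat.card_eq_fintype_card, hcG, hcH, hz, smul_eq_mul] at h4
    obtain ⟨q, rfl⟩ := Nat.exists_eq_add_of_le' hp.two_le
    have h0 : (q + 2) ^ 2 - (q + 2) = (q + 1) * (q + 2) := by
      rw [Nat.sub_eq_iff_eq_add (Nat.le_self_pow two_ne_zero _)]; ring
    rw [h0, show q + 2 - 1 = q + 1 by omega] at h4
    have h6 := Nat.mul_le_mul_left ((q + 2) ^ 2) h2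
    rw [mul_add ((q + 2) ^ 2) (∑ g, F g)] at h6
    have h7 := h6.trans (Nat.add_le_add_right h4 _)
    have h8 : 0 < z * (q + 2) ^ 3 * (q + 1) := by positivity
    have h9 : 0 ≤ z * z * (q + 2) * (q + 1) * q := by positivity
    nlinarith
  have hg₁Z : g₁ ∉ Z := fun h => hg₁ (Subgroup.mem_sup_left h)
  have hcen : ∀ g, Nat.card (commHom hc g).range = p → ∀ y : Z,
      (commHom hc g y : G) ∈ Subgroup.center G := by
    intro g hg
    have hn : ((commHom hc g).range.map Z.subtype).Normal := ⟨by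
      rintro _ ⟨_, ⟨y, rfl⟩, rfl⟩ x
      refine ⟨_, ⟨⟨x * y * x⁻¹, hZ.conj_mem _ y.2 x⟩, rfl⟩, ?_⟩
      have h1 := hc _ (hG (Subgroup.commutator_mem_commutator (Subgroup.mem_top g⁻¹)
        (Subgroup.mem_top x⁻¹))) _ y.2
      simp only [Subgroup.coe_subtype, commHom_coe, commutatorElement_def, inv_inv] at h1 ⊢
      calc _ = x * g * (g⁻¹ * x⁻¹ * g * x * y) * (g⁻¹ * x⁻¹ * g * x)⁻¹ * g⁻¹ *
            ((y : G)⁻¹ * x⁻¹) := by group
        _ = _ := by rw [h1]; group⟩
    have hcard : Nat.card ((commHom hc g).range.map Z.subtype) = p := by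
      rw [Subgroup.card_map_of_injective Z.subtype_injective, hg]
    have h1 := CL.inf_center_ne_bot_of_isNilpotent ((commHom hc g).range.map Z.subtype)
      fun e => by rw [e, Subgroup.card_bot] at hcard; exact hp.one_lt.ne hcard
    have h2 := Subgroup.card_dvd_of_le (inf_le_left : (commHom hc g).range.map Z.subtype ⊓
      Subgroup.center G ≤ _)
    rw [hcard] at h2
    have h3 := Subgroup.eq_of_le_of_card_ge (inf_le_left : (commHom hc g).range.map Z.subtype ⊓
      Subgroup.center G ≤ _) (hcard.trans (((Nat.dvd_prime hp).mp h2).resolve_left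
        fun e => h1 (Subgroup.card_eq_one.mp e)).symm).le
    exact fun y => (h3.ge ⟨_, ⟨y, rfl⟩, rfl⟩).2
  have hmul : ∀ (x y : G) (w : Z), (commHom hc y w : G) ∈ Subgroup.center G →
      commHom hc (x * y) w = commHom hc x w * commHom hc y w := by
    intro x y w h
    have h1 := Subgroup.mem_center_iff.mp h
    ext
    have h2 := h1 x
    have h3 := h1 (commHom hc x w)
    rw [Subgroup.coe_mul, h3]
    simp only [commHom_coe] at h2 ⊢
    calc _ = x * (y * w * y⁻¹ * (w : G)⁻¹) * (w * x⁻¹ * (w : G)⁻¹) := by group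
      _ = _ := by rw [h2]; group
  have hZ1 : ∀ x ∈ Z, ∀ w : Z, commHom hc x w = 1 := fun x hx w =>
    (commHom_eq_one_iff hc x w).mpr (hc x hx w w.2)
  have hall : ∀ (x : G) (w : Z), (commHom hc x w : G) ∈ Subgroup.center G := by
    let U : Subgroup G :=
      { carrier := {x | ∀ w : Z, (commHom hc x w : G) ∈ Subgroup.center G}
        mul_mem' := fun {a b} ha hb w => by
          rw [hmul a b w (hb w)]; exact mul_mem (ha w) (hb w)
        one_mem' := fun w => by rw [hZ1 1 (one_mem _)]; exact one_mem _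
        inv_mem' := fun {a} ha w => by
          have h1 := hmul a⁻¹ a w (ha w)
          rw [inv_mul_cancel, hZ1 1 (one_mem _), eq_comm, mul_eq_one_iff_eq_inv] at h1
          rw [h1]; exact inv_mem (ha w) }
    have hU := htop g₀ hg₀ U (fun x hx w => by rw [hZ1 x hx]; exact one_mem _) (hcen g₀ hd₀)
      g₁ (hcen g₁ hd₁) hg₁
    exact fun x => (hU.ge (Subgroup.mem_top x) : x ∈ U)
  have hsub : ∀ (lam : Z →* ℂˣ) (w : Z), ∃ U : Subgroup G, Z ≤ U ∧
      ∀ x, x ∈ U ↔ lam (commHom hc x w) = 1 := fun lam w =>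
    ⟨{ carrier := {x | lam (commHom hc x w) = 1}
       mul_mem' := fun {a b} ha hb => by
          change lam _ = 1
          rw [hmul a b w (hall b w), map_mul, ha, hb, mul_one]
       one_mem' := by change lam _ = 1; rw [hZ1 1 (one_mem _), map_one]
       inv_mem' := fun {a} ha => by
          change lam _ = 1
          have h1 := congrArg lam (hmul a⁻¹ a w (hall a w))
          rwa [inv_mul_cancel, hZ1 1 (one_mem _), map_mul, ha, mul_one, map_one, eq_comm] at h1 },
      fun x hx => by change lam _ = 1; rw [hZ1 x hx, map_one], fun _ => Iff.rfl⟩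
  have hex : ∀ g ∉ Z, ∃ lam : Z →* ℂˣ, homConj Z g lam ≠ lam := by
    intro g hg
    by_contra hcon
    push Not at hcon
    refine hD g hg (eq_bot_iff.mpr ?_)
    rintro _ ⟨w, rfl⟩
    exact (commHom_eq_one_iff hc g w).mpr
      (mem_centralizer_of_forall_homConj hc hcon w w.2).symm
  obtain ⟨lam, hl₀, hl₁⟩ : ∃ lam : Z →* ℂˣ, homConj Z g₀ lam ≠ lam ∧ homConj Z g₁ lam ≠ lam := by
    obtain ⟨a, ha⟩ := hex g₀ hg₀
    obtain ⟨b, hb⟩ := hex g₁ hg₁Z
    by_cases ha1 : homConj Z g₁ a = a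
    · by_cases hb0 : homConj Z g₀ b = b
      · refine ⟨a * b, fun e => ha ?_, fun e => hb ?_⟩
        · rwa [map_mul, hb0, mul_left_inj] at e
        · rwa [map_mul, ha1, mul_right_inj] at e
      · exact ⟨b, hb0, hb⟩
    · exact ⟨a, ha, ha1⟩
  obtain ⟨g, hg, hgl⟩ := hT lam
  have hg₀g : g₀ ∉ Z ⊔ Subgroup.zpowers g := fun h => hl₀ (mem_inertia_hom.mp
    (sup_le (le_inertia (isIrrCharacter_hom lam).isClassFunction)
      (Subgroup.zpowers_le.mpr (mem_inertia_hom.mpr hgl)) h))
  have hker : ∀ w : Z, commHom hc g₀ w = 1 → (w : G) ∈ Subgroup.center G := by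
    intro w hw
    obtain ⟨U, hZU, hU⟩ := hsub lam w
    have h1 := htop g hg U hZU ((hU g).mpr ((homConj_eq_iff hc g lam).mp hgl _ ⟨w, rfl⟩)) g₀
      ((hU g₀).mpr (by rw [hw, map_one])) hg₀g
    have h2 := (hU g₁).mp (h1.ge (Subgroup.mem_top _))
    have h3 : commHom hc g₁ w = 1 := by
      by_contra h4
      refine hl₁ ((homConj_eq_iff hc g₁ lam).mpr fun n hn => ?_)
      have h5 : Subgroup.zpowers (commHom hc g₁ w) ≤ (commHom hc g₁).range :=
        Subgroup.zpowers_le.mpr ⟨w, rfl⟩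
      have h6 := Subgroup.card_dvd_of_le h5
      rw [hd₁] at h6
      have h7 := Subgroup.eq_of_le_of_card_ge h5 (hd₁.trans (((Nat.dvd_prime hp).mp h6).resolve_left
        fun e => h4 (by rwa [Nat.card_zpowers, orderOf_eq_one_iff] at e)).symm).le
      exact (Subgroup.zpowers_le (H := lam.ker)).mpr h2 (h7.ge hn)
    have h4 := htop g₀ hg₀ (Subgroup.centralizer {(w : G)})
      (fun x hx => Subgroup.mem_centralizer_singleton_iff.mpr (hc x hx w w.2))
      (Subgroup.mem_centralizer_singleton_iff.mpr ((commHom_eq_one_iff hc _ w).mp hw)) g₁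
      (Subgroup.mem_centralizer_singleton_iff.mpr ((commHom_eq_one_iff hc _ w).mp h3)) hg₁
    exact Subgroup.mem_center_iff.mpr fun x =>
      Subgroup.mem_centralizer_singleton_iff.mp (h4.ge (Subgroup.mem_top x))
  have hle : Subgroup.center G ≤ Z := fun c hcc => by
    by_contra h1
    refine hD c h1 (eq_bot_iff.mpr ?_)
    rintro _ ⟨w, rfl⟩
    exact (commHom_eq_one_iff hc c w).mpr (Subgroup.mem_center_iff.mp hcc w).symm
  have h1 : (Subgroup.center G).subgroupOf Z = (commHom hc g₀).ker := by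
    ext w
    exact ⟨fun h => (commHom_eq_one_iff hc g₀ w).mpr (Subgroup.mem_center_iff.mp h g₀), hker w⟩
  rw [← Subgroup.relIndex_mul_index hle, Subgroup.relIndex, h1, Subgroup.index_ker, hd₀, hi]
  ring

end OneP

theorem degrees_one_p [Finite G] {p : ℕ} (hp : p.Prime)
    (hcd : ∀ χ, IsIrrCharacter G χ → charDegree χ = 1 ∨ charDegree χ = p)
    (hm : ∃ χ, IsIrrCharacter G χ ∧ charDegree χ = p) :
    (∃ A : Subgroup G, A.Normal ∧ (∀ a ∈ A, ∀ b ∈ A, a * b = b * a) ∧ A.index = p) ∨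
      (Subgroup.center G).index = p ^ 3 := by
  have := Fintype.ofFinite G
  have : Fact p.Prime := ⟨hp⟩
  refine or_iff_not_imp_left.mpr fun hA => ?_
  obtain ⟨-, -, -, -, hnil, -⟩ := (two_degrees hcd hm hp.one_lt.ne').resolve_left hA
  obtain ⟨P⟩ : Nonempty (Sylow p G) := inferInstance
  have hP := CL.isNilpotent_iff_sylow_normal.mp hnil p this P
  have hGP : commutator G ≤ P := commutator_le_of_forall_ker fun β hβ hk =>
    (hcd β hβ).resolve_right fun hc => P.not_dvd_index (hc.symm.dvd.trans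
      (hβ.charDegree_dvd_index_of_le
        ((hβ.isCharacter.le_charKer_iff.mpr hk).trans (charKer_le_charCenter β))))
  have hG : commutator G ≠ ⊥ := fun e => by
    obtain ⟨χ, hχ, h1⟩ := hm
    exact hp.one_lt.ne' (h1.symm.trans (hχ.isCharacter.charDegree_eq_one_iff.mpr
      (hχ.commutator_le_charKer_iff.mp (e ▸ bot_le))))
  obtain ⟨K, hKn, -, hK⟩ := exists_minNab (⊥ : Subgroup G) (fun e => hG (le_bot_iff.mp e))
  obtain ⟨π, hπ⟩ : ∃ π : G →* G ⧸ K, π = QuotientGroup.mk' K := ⟨_, rfl⟩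
  have hsurj : Function.Surjective π := hπ ▸ QuotientGroup.mk'_surjective K
  obtain ⟨τ, hτ, hτ1⟩ := hK.exists_nonlinear
  have hτ' := hτ.comp_surjective π hsurj
  have hτp : charDegree τ = p := (charDegree_comp τ π ▸ hcd _ hτ').resolve_left hτ1
  have : Nontrivial (G ⧸ K) := by
    by_contra hn
    rw [not_nontrivial_iff_subsingleton] at hn
    exact hK.ne_bot (Subsingleton.elim _ _)
  have hZ : Subgroup.center (G ⧸ K) ≠ ⊥ := Group.IsNilpotent.center_ne_bot _
  obtain ⟨Z, hZe⟩ : ∃ Z, Z = (Subgroup.center (G ⧸ K)).comap π := ⟨_, rfl⟩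
  have hZn : Z.Normal := hZe ▸ inferInstance
  have := Fintype.ofFinite Z
  have hi : Z.index = p ^ 2 := by
    rw [hZe, Subgroup.index_comap_of_surjective _ hsurj, ← (hK.degree_sq hZ hτ hτ1).1, hτp]
  have hGZ : commutator G ≤ Z := hZe ▸ Subgroup.map_le_iff_le_comap.mp
    ((map_commutator_eq π hsurj).le.trans (hK.commutator_le_center hZ))
  have hle : ∀ χ, IsIrrCharacter G χ → charDegree χ ≤ p := fun χ hχ =>
    (hcd χ hχ).elim (fun h => h ▸ hp.one_le) le_of_eq
  have hc : ∀ a ∈ Z, ∀ b ∈ Z, a * b = b * a := fun a ha b hb => congrArg Subtype.val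
    (mul_comm_of_forall_degree (fun θ hθ => by
      by_contra h1
      obtain ⟨χ, hχ, hne⟩ := hθ.exists_over
      have h2 := CL.Blk.charDegree_dvd_of_under hχ hθ hne
      have h3 : charDegree χ = p := (hcd χ hχ).resolve_left fun e => h1 (Nat.dvd_one.mp (e ▸ h2))
      have h4 := ((Nat.dvd_prime hp).mp (h3 ▸ h2)).resolve_left h1
      obtain rfl := exists_ext_of_degree_ge hle hθ h4.ge hχ hne
      have h5 := hle _ (mul_ext_irr hχ.isCharacter hθ hτ' (by
        rw [hτ.isCharacter.charCenter_comp, hZe]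
        exact Subgroup.comap_mono hτ.center_le_charCenter))
      rw [charDegree_mul hτ'.isCharacter hχ.isCharacter, charDegree_comp, hτp, h3] at h5
      nlinarith [hp.one_lt]) ⟨a, ha⟩ ⟨b, hb⟩)
  have hpow : ∀ g : G, g ^ p ∈ Z := by
    intro g
    obtain ⟨q, hq, hVq⟩ := hK.exists_prime_pow_eq_one fun a ha b _ =>
      (Subgroup.mem_center_iff.mp (hK.commutator_le_center hZ ha) b).symm
    have hqp : q = p := by
      obtain ⟨⟨x, hx⟩, hx1⟩ := Subgroup.ne_bot_iff_exists_ne_one.mp hK.ne_bot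
      have h1 : IsPGroup p (commutator (G ⧸ K)) :=
        map_commutator_eq π hsurj ▸ (P.isPGroup'.to_le hGP).map π
      obtain ⟨k, hk⟩ := IsPGroup.iff_orderOf.mp h1 ⟨x, hx⟩
      have h2 : orderOf (⟨x, hx⟩ : commutator (G ⧸ K)) = q := by
        have : Fact q.Prime := ⟨hq⟩
        exact orderOf_eq_prime (Subtype.ext (hVq x hx)) hx1
      exact (Nat.prime_dvd_prime_iff_eq hq hp).mp (hq.dvd_of_dvd_pow (h2.symm.trans hk).dvd)
    rw [hZe, Subgroup.mem_comap, map_pow, Subgroup.mem_center_iff]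
    intro y
    have h1 : ⁅y, π g⁆ ∈ commutator (G ⧸ K) :=
      Subgroup.commutator_mem_commutator (Subgroup.mem_top _) (Subgroup.mem_top _)
    have h2 : Commute ⁅y, π g⁆ (π g) :=
      (Subgroup.mem_center_iff.mp (hK.commutator_le_center hZ h1) _).symm
    have h3 : y * π g ^ p * y⁻¹ = π g ^ p := by
      rw [← conj_pow, show y * π g * y⁻¹ = ⁅y, π g⁆ * π g by rw [commutatorElement_def]; group,
        h2.mul_pow, ← hqp, hVq _ h1, one_mul]
    rw [← mul_inv_eq_iff_eq_mul, h3]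
  refine index_center_of_fixed hp hc hGZ hi hpow (P.isPGroup'.to_le hGP) (fun lam => ?_)
    fun g hg e => hA ⟨Z ⊔ Subgroup.zpowers g, Subgroup.Normal.of_commutator_le G
      (hGZ.trans le_sup_left), ?_, ?_⟩
  · by_contra hcon
    push Not at hcon
    have h1 := hle _ ((ind_irr_iff_inertia_eq (isIrrCharacter_hom lam)).mpr (le_antisymm
      (fun g hg => by_contra fun h => hcon g h (mem_inertia_hom.mp hg))
      (le_inertia (isIrrCharacter_hom lam).isClassFunction)))
    rw [charDegree_indFun _ (isIrrCharacter_hom lam).isCharacter, charDegree_hom, hi] at h1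
    nlinarith [hp.one_lt]
  · have h1 : ∀ w ∈ Z, g * w = w * g := fun w hw => (commHom_eq_one_iff hc g ⟨w, hw⟩).mp (by
      rw [← Subgroup.mem_bot, ← e]; exact ⟨_, rfl⟩)
    have h2 : ∀ a ∈ Z ⊔ Subgroup.zpowers g, (∀ w ∈ Z, a * w = w * a) ∧ a * g = g * a := by
      intro a ha
      have h3 : Z ⊔ Subgroup.zpowers g ≤ Subgroup.centralizer (Z : Set G) ⊓
          Subgroup.centralizer {g} := sup_le (le_inf (fun a ha w hw => hc w hw a ha)
        fun a ha => Subgroup.mem_centralizer_singleton_iff.mpr (h1 a ha).symm)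
        (Subgroup.zpowers_le.mpr ⟨fun w hw => (h1 w hw).symm,
          Subgroup.mem_centralizer_singleton_iff.mpr rfl⟩)
      exact ⟨fun w hw => ((h3 ha).1 w hw).symm,
        Subgroup.mem_centralizer_singleton_iff.mp (h3 ha).2⟩
    intro a ha b hb
    have h3 : Z ⊔ Subgroup.zpowers g ≤ Subgroup.centralizer {a} := sup_le
      (fun w hw => Subgroup.mem_centralizer_singleton_iff.mpr ((h2 a ha).1 w hw).symm)
      (Subgroup.zpowers_le.mpr (Subgroup.mem_centralizer_singleton_iff.mpr (h2 a ha).2.symm))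
    exact (Subgroup.mem_centralizer_singleton_iff.mp (h3 hb)).symm
  · have h1 := Subgroup.relIndex_mul_index (le_sup_left (a := Z) (b := Subgroup.zpowers g))
    rw [hi, Subgroup.relIndex_sup_left, ← QuotientGroup.ker_mk' Z,
      Subgroup.relIndex_ker, MonoidHom.map_zpowers, Nat.card_zpowers, orderOf_eq_prime (p := p) (x := QuotientGroup.mk' Z g) (by
        rw [← map_pow, QuotientGroup.mk'_apply, QuotientGroup.eq_one_iff]; exact hpow g)
        (fun e => hg ((QuotientGroup.eq_one_iff g).mp e)), QuotientGroup.ker_mk', sq] at h1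
    exact Nat.eq_of_mul_eq_mul_left hp.pos h1

end CL.Ord
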