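import Mathlib
import Cfsg.Agent.ORD.PrimeDeg

/-!
# The basic dichotomy for character degrees of solvable groups (Isaacs 12.4)
-/

set_option autoImplicit false
set_option linter.unusedSectionVars false
open Cfsg CL.Char
open scoped ComplexConjugate commutatorElement

namespace CL.Ord

variable {G : Type*} [Group G]

theorem MinNab.commutator_comm_of_isSolvable {H : Type*} [Group H] [Group.IsSolvable H]
    (hH : MinNab H) : ∀ a ∈ commutator H, ∀ b ∈ commutator H, a * b = b * a :=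
  fun a ha b hb => congrArg Subtype.val
    ((hH.isMinNormal.isMulCommutative_of_isSolvable inferInstance).is_comm.comm
      (⟨a, ha⟩ : commutator H) ⟨b, hb⟩)

theorem solvable_dichotomy [Finite G] [Group.IsSolvable G] (hG : commutator G ≠ ⊥) :
    (∃ p e : ℕ, p.Prime ∧ e ≠ 0 ∧ p ^ e ∈ charDegrees G ∧ ∀ χ, IsIrrCharacter G χ →
      ¬ p ∣ charDegree χ → p ^ e * charDegree χ ∈ charDegrees G) ∨
    ∃ (N : Subgroup G) (_ : N.Normal) (p a : ℕ), p.Prime ∧ a ≠ 0 ∧ commutator G ≤ N ∧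
      1 < N.index ∧ N.index ∣ p ^ a - 1 ∧ N.index ∈ charDegrees G ∧
      ∀ θ, IsIrrCharacter N θ →
        N.index * charDegree θ ∈ charDegrees G ∨ p ^ a ∣ charDegree θ ^ 2 := by
  obtain ⟨K, hKn, -, hK⟩ := exists_minNab (⊥ : Subgroup G) (fun e => hG (le_bot_iff.mp e))
  obtain ⟨π, hπ⟩ : ∃ π : G →* G ⧸ K, π = QuotientGroup.mk' K := ⟨_, rfl⟩
  have hsurj : Function.Surjective π := hπ ▸ QuotientGroup.mk'_surjective K
  have hker : π.ker = K := by rw [hπ, QuotientGroup.ker_mk']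
  obtain ⟨τ, hτ, hτ1⟩ := hK.exists_nonlinear
  have hτ' := hτ.comp_surjective π hsurj
  have hτm : charDegree τ ∈ charDegrees G := charDegree_comp τ π ▸ mem_charDegrees hτ'
  by_cases hZ : Subgroup.center (G ⧸ K) = ⊥
  swap
  · left
    obtain ⟨p, hp, hPG⟩ := hK.exists_isPGroup hZ
    have : Fact p.Prime := ⟨hp⟩
    obtain ⟨k, hk⟩ := IsPGroup.iff_card.mp hPG
    obtain ⟨e, -, he⟩ := (Nat.dvd_prime_pow hp).mp (hk ▸ hτ.charDegree_dvd_card)
    refine ⟨p, e, hp, fun h => hτ1 (by rw [he, h, pow_zero]), he ▸ hτm, fun χ hχ h => ?_⟩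
    have h1 := res_irr_of_coprime_index (N := K) hχ hχ.apply_one_eq_charDegree (by
      rw [K.index_eq_card, hk]
      exact ((Nat.Prime.coprime_iff_not_dvd hp).mpr h).symm.pow_right k)
    have h2 := mem_charDegrees (gallagher_irr hχ.isCharacter h1 hτ' fun x hx => by
      simp only [map_one, MonoidHom.mem_ker.mp (hker.ge hx)])
    rwa [charDegree_mul hτ'.isCharacter hχ.isCharacter, charDegree_comp, he] at h2
  right
  have hc := hK.commutator_comm_of_isSolvable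
  obtain ⟨p, hp, hVp⟩ := hK.exists_prime_pow_eq_one hc
  have : Fact p.Prime := ⟨hp⟩
  have hf := hK.degree_frob hZ hc hτ hτ1
  obtain ⟨a, ha⟩ := IsPGroup.iff_card.mp (show IsPGroup p (commutator (G ⧸ K)) from
    fun x => ⟨1, Subtype.ext (by simpa using hVp x x.2)⟩)
  have hi : ((commutator (G ⧸ K)).comap π).index = (commutator (G ⧸ K)).index :=
    Subgroup.index_comap_of_surjective _ hsurj
  refine ⟨(commutator (G ⧸ K)).comap π, inferInstance, p, a, hp,
    fun e => hK.ne_bot (Subgroup.card_eq_one.mp (by rw [ha, e, pow_zero])),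
    Subgroup.map_le_iff_le_comap.mp (map_commutator_eq π hsurj).le, ?_, ?_, ?_, fun θ hθ => ?_⟩
  · have := hτ.charDegree_pos
    rw [hi, ← hf]; omega
  · rw [hi, ← ha]; exact index_dvd_card_sub_one_of_fpf (hK.fpf hZ hc) hc
  · rw [hi, ← hf]; exact hτm
  · rw [hi]
    refine (frob_alt_degree π hsurj hc (hK.fpf hZ hc) rfl hθ).imp
      (fun ⟨χ, hχ, h⟩ => h ▸ mem_charDegrees hχ) fun h => ?_
    have h5 := index_dvd_sq_of_vanish (K := π.ker.subgroupOf _) hθ h
    rwa [← Subgroup.relIndex, Subgroup.relIndex_ker,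
      Subgroup.map_comap_eq_self_of_surjective hsurj, ha] at h5

theorem exists_two_hubs [Finite G] [Group.IsSolvable G] :
    ∃ r p : ℕ, ∀ q ∈ degreePrimes G, (q = r ∨ (degreeGraph G).Adj q r) ∨
      (q = p ∨ (degreeGraph G).Adj q p) := by
  have hadj : ∀ {q r d : ℕ}, q.Prime → r.Prime → d ∈ charDegrees G → q ∣ d → r ∣ d →
      q = r ∨ (degreeGraph G).Adj q r := fun hq hr hd h1 h2 =>
    or_iff_not_imp_left.mpr fun hne => ⟨hne, hq, hr, _, hd,
      ((Nat.coprime_primes hq hr).mpr hne).mul_dvd_of_dvd_of_dvd h1 h2⟩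
  by_cases hG : commutator G = ⊥
  · refine ⟨0, 0, ?_⟩
    rintro q ⟨hq, _, ⟨χ, rfl⟩, h⟩
    rw [χ.2.isCharacter.charDegree_eq_one_iff.mpr
      (χ.2.commutator_le_charKer_iff.mp (hG ▸ bot_le)), Nat.dvd_one] at h
    exact absurd h hq.one_lt.ne'
  rcases solvable_dichotomy hG with ⟨p, e, hp, he, -, h⟩ | ⟨N, _, p, a, hp, ha, -, h1, -, h2, h⟩
  · refine ⟨p, p, ?_⟩
    rintro q ⟨hq, _, ⟨χ, rfl⟩, hd⟩
    left
    by_cases hpd : p ∣ charDegree (χ : G → ℂ)
    · exact hadj hq hp (mem_charDegrees χ.2) hd hpd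
    · exact hadj hq hp (h χ χ.2 hpd) (hd.mul_left _) ((dvd_pow_self p he).mul_right _)
  · obtain ⟨r, hr, hrd⟩ := Nat.exists_prime_and_dvd h1.ne'
    refine ⟨r, p, ?_⟩
    rintro q ⟨hq, _, ⟨χ, rfl⟩, hd⟩
    have := Fintype.ofFinite N
    obtain ⟨θ, hθ, hne⟩ := χ.2.exists_under_res N
    obtain ⟨k, hk, hk'⟩ := exists_charDegree_eq_mul χ.2 hθ hne
    rcases hq.dvd_mul.mp (hk ▸ hd) with h3 | h3
    · exact Or.inl (hadj hq hr h2 (h3.trans hk') hrd)
    rcases h θ hθ with h4 | h4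
    · exact Or.inl (hadj hq hr h4 (h3.mul_left _) (hrd.mul_right _))
    · exact Or.inr (hadj hq hp (mem_charDegrees χ.2) hd
        (hk ▸ (hp.dvd_of_dvd_pow ((dvd_pow_self p ha).trans h4)).mul_left k))

theorem card_connectedComponent_le_two {V : Type*} (Γ : SimpleGraph V) (S : Set V) (r p : V)
    (h : ∀ q ∈ S, (∃ hq : q ∈ S, ∃ hr : r ∈ S, (Γ.induce S).Reachable ⟨q, hq⟩ ⟨r, hr⟩) ∨
      ∃ hq : q ∈ S, ∃ hp : p ∈ S, (Γ.induce S).Reachable ⟨q, hq⟩ ⟨p, hp⟩) :
    Nat.card (Γ.induce S).ConnectedComponent ≤ 2 := by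
  rw [← Fintype.card_prop, ← Nat.card_eq_fintype_card]
  refine Nat.card_le_card_of_injective
    (fun c => ∃ hr : r ∈ S, c = (Γ.induce S).connectedComponentMk ⟨r, hr⟩) fun c c' e => ?_
  have key : ∀ c : (Γ.induce S).ConnectedComponent,
      (∃ hr : r ∈ S, c = (Γ.induce S).connectedComponentMk ⟨r, hr⟩) ∨
      ∃ hp : p ∈ S, c = (Γ.induce S).connectedComponentMk ⟨p, hp⟩ := by
    intro c
    induction c using SimpleGraph.ConnectedComponent.ind with | _ v => ?_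
    exact (h v v.2).imp (fun ⟨_, hr, h⟩ => ⟨hr, SimpleGraph.ConnectedComponent.sound h⟩)
      fun ⟨_, hr, h⟩ => ⟨hr, SimpleGraph.ConnectedComponent.sound h⟩
  by_cases h1 : ∃ hr : r ∈ S, c = (Γ.induce S).connectedComponentMk ⟨r, hr⟩
  · obtain ⟨_, h2⟩ := e.mp h1
    obtain ⟨_, h1⟩ := h1
    exact h1.trans h2.symm
  · obtain ⟨_, h2⟩ := (key c).resolve_left h1
    obtain ⟨_, h3⟩ := (key c').resolve_left fun h => h1 (e.mpr h)
    exact h2.trans h3.symm

theorem mem_degreePrimes_of_adj {q r : ℕ} (h : (degreeGraph G).Adj q r) : r ∈ degreePrimes G := by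
  obtain ⟨-, -, hr, d, hd, h1⟩ := h
  exact ⟨hr, d, hd, (Dvd.intro_left q rfl).trans h1⟩

theorem card_components_le_two [Finite G] [Group.IsSolvable G] :
    Nat.card ((degreeGraph G).induce (degreePrimes G)).ConnectedComponent ≤ 2 := by
  obtain ⟨r, p, h⟩ := exists_two_hubs (G := G)
  have key : ∀ q ∈ degreePrimes G, ∀ r, (q = r ∨ (degreeGraph G).Adj q r) →
      ∃ hq : q ∈ degreePrimes G, ∃ hr : r ∈ degreePrimes G,
        ((degreeGraph G).induce (degreePrimes G)).Reachable ⟨q, hq⟩ ⟨r, hr⟩ := by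
    rintro q hq r (rfl | h)
    · exact ⟨hq, hq, SimpleGraph.Reachable.refl _⟩
    · exact ⟨hq, mem_degreePrimes_of_adj h, SimpleGraph.Adj.reachable h⟩
  exact card_connectedComponent_le_two _ _ r p fun q hq =>
    (h q hq).imp (key q hq r) (key q hq p)

end CL.Ord
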