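import Mathlib
import Cfsg.Agent.CHAR.Ramified
import Cfsg.Agent.CHAR.Ext
import Cfsg.Agent.CHAR.Faithful
import Cfsg.Agent.BLK.GAmb
import Cfsg.Agent.TECH.SylIn
import Cfsg.Agent.FGS.CoprimeIndex

/-!
# Characters fully ramified over a normal subgroup (DeMeyer–Janusz, Gagola)
-/

set_option autoImplicit false
set_option linter.unusedSectionVars false
open Cfsg CL.Char
open scoped ComplexConjugate commutatorElement

namespace CL.Ord

variable {G : Type*} [Group G]

/-- `χ` is fully ramified over `Z`, lying over `θ` with ramification `e`. -/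
structure FR (Z : Subgroup G) (χ : G → ℂ) (θ : Z → ℂ) (e : ℕ) : Prop where
  irr : IsIrrCharacter G χ
  irrZ : IsIrrCharacter Z θ
  sq : e ^ 2 = Z.index
  res : (fun z : Z => χ z) = (e : ℂ) • θ

/-- Over a cyclic quotient, restrictions of irreducible characters are multiplicity free. -/
theorem inner_res_eq_one_of_isCyclic [Finite G] {N : Subgroup G} [hN : N.Normal] [Fintype N]
    (hc : IsCyclic (G ⧸ N)) {χ : G → ℂ} (hχ : IsIrrCharacter G χ) {θ : N → ℂ}
    (hθ : IsIrrCharacter N θ) (h : classInner (fun n : N => χ n) θ ≠ 0) :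
    classInner (fun n : N => χ n) θ = 1 := by
  classical
  have := Fintype.ofFinite G
  obtain ⟨T, hT⟩ : ∃ T, T = inertia N θ := ⟨_, rfl⟩
  have hNT : N ≤ T := hT ▸ le_inertia hθ.isClassFunction
  obtain ⟨ψ, hψ, -, hin⟩ := clifford_ind_surj hNT hθ hT.ge hχ h
  have := Fintype.ofFinite (N.subgroupOf T)
  have hcyc : IsCyclic (T ⧸ N.subgroupOf T) := by
    let f : T ⧸ N.subgroupOf T →* G ⧸ N := QuotientGroup.map _ _ T.subtype le_rfl
    refine isCyclic_of_injective f ?_
    rw [injective_iff_map_eq_one]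
    intro a ha
    obtain ⟨t, rfl⟩ := QuotientGroup.mk_surjective a
    exact (QuotientGroup.eq_one_iff _).mpr ((QuotientGroup.eq_one_iff (t : G)).mp ha)
  have hinv : inertia (N.subgroupOf T) (subOf N T θ) = ⊤ := inertia_subOf_eq_top hNT hT.le
  obtain ⟨η, hη, hext⟩ := exists_ext_of_isCyclic (N.subgroupOf T) hcyc (hθ.subOf hNT)
    (inertia_eq_top_iff.mp hinv)
  have hres : (fun n : N.subgroupOf T => η n) = subOf N T θ := funext hext
  have hcomm : commutator T ≤ N.subgroupOf T := by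
    have := hcyc.isMulCommutative
    rw [Subgroup.Normal.quotient_commutative_iff_commutator_le] at this
    exact this
  obtain ⟨lam, hl, e⟩ := exists_hom_mul_of_commutator_le hcomm hη.isCharacter
    (hres ▸ hθ.subOf hNT) hψ (by rw [hres, classInner_res_subOf hNT, hin]; exact h)
  rw [← hin, ← classInner_res_subOf hNT]
  have : (fun x : N.subgroupOf T => ψ x) = subOf N T θ := by
    funext x
    rw [e]
    simp only [hl x x.2, Units.val_one, one_mul]
    exact hext x
  rw [this]
  exact (hθ.subOf hNT).inner_self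

variable {Z : Subgroup G} [hZ : Z.Normal] {χ : G → ℂ} {θ : Z → ℂ} {e : ℕ}

theorem FR.vanish [Finite G] (h : FR Z χ θ e) {g : G} (hg : g ∉ Z) : χ g = 0 :=
  (sq_eq_index_iff_vanish h.irr h.irrZ h.res).mp h.sq g hg

theorem FR.unique [Finite G] [Fintype Z] (h : FR Z χ θ e) {ψ : G → ℂ} (hψ : IsIrrCharacter G ψ)
    (hin : classInner (fun n : Z => ψ n) θ ≠ 0) : ψ = χ :=
  (sq_eq_index_iff_unique h.irr h.irrZ h.res).mp h.sq ψ hψ hin

theorem FR.pos [Finite G] (h : FR Z χ θ e) : 0 < e := by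
  rcases Nat.eq_zero_or_pos e with rfl | h0
  · have := h.sq
    simp only [ne_eq, OfNat.ofNat_ne_zero, not_false_eq_true, zero_pow] at this
    exact absurd this.symm Subgroup.index_ne_zero_of_finite
  · exact h0

theorem FR.inertia [Finite G] (h : FR Z χ θ e) : inertia Z θ = ⊤ :=
  inertia_eq_top_of_res_eq_smul h.irr.isClassFunction (by exact_mod_cast h.pos.ne') h.res

theorem FR.one (h : FR Z χ θ e) : χ 1 = e * θ 1 := congrFun h.res 1

theorem FR.over [Finite G] [Fintype Z] (h : FR Z χ θ e) {A : Subgroup G} [Fintype A] (hA : Z ≤ A)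
    {η : A → ℂ} (hη : IsIrrCharacter A η) (hin : classInner (fun a : A => χ a) η ≠ 0) :
    classInner (fun z : Z => η ⟨z, hA z.2⟩) θ ≠ 0 := by
  obtain ⟨φ, hφ, h1⟩ := hη.exists_under (Subgroup.inclusion hA)
  have h2 := inner_comp_ne_zero_of_constituent (Subgroup.inclusion hA)
    (h.irr.isCharacter.res A) hη hin hφ.isCharacter h1
  have h3 : (fun x : Z => χ ((Subgroup.inclusion hA x : A) : G)) = (e : ℂ) • θ := h.res
  rw [h3] at h2
  rw [eq_of_inner_smul_ne_zero h.irrZ hφ h2]
  exact h1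

theorem FR.ind_eq [Fintype G] (h : FR Z χ θ e) {A : Subgroup G} [Fintype A] (hA : Z ≤ A)
    {η : A → ℂ} (hη : IsIrrCharacter A η) (hin : classInner (fun a : A => χ a) η ≠ 0) :
    indFun A η = classInner (fun a : A => χ a) η • χ := by
  have := Fintype.ofFinite Z
  rw [← inner_ind_eq_inner_res hη.isCharacter h.irr.isCharacter]
  refine hη.isCharacter.ind.isClassFunction.eq_smul_of_forall h.irr fun φ hφ h1 => ?_
  rw [inner_ind_eq_inner_res hη.isCharacter hφ.isCharacter] at h1
  exact h.unique hφ (inner_comp_ne_zero_of_constituent (Subgroup.inclusion hA)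
    (hφ.isCharacter.res A) hη h1 h.irrZ.isCharacter (h.over hA hη hin))

theorem FR.exists_mul [Finite G] (h : FR Z χ θ e) {A : Subgroup G} [Fintype A] (hA : Z ≤ A)
    {η : A → ℂ} (hη : IsIrrCharacter A η) {m : ℕ} (hm : classInner (fun a : A => χ a) η = m)
    (hm0 : m ≠ 0) : ∃ f : ℕ, (fun z : Z => η ⟨z, hA z.2⟩) = (f : ℂ) • θ ∧ m * e = A.index * f := by
  have := Fintype.ofFinite G
  have := Fintype.ofFinite Z
  have hin : classInner (fun a : A => χ a) η ≠ 0 := by rw [hm]; exact_mod_cast hm0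
  have h1 := clifford_le_of_invariant hA hη h.irrZ (by rw [h.inertia]; exact le_top)
    (h.over hA hη hin)
  obtain ⟨f, hf⟩ := (hη.isCharacter.resLE hA).exists_nat_inner h.irrZ.isCharacter
  rw [hf] at h1
  refine ⟨f, h1, ?_⟩
  have h2 := congrFun (h.ind_eq hA hη hin) 1
  have h3 : η 1 = f * θ 1 := congrFun h1 1
  rw [indFun_one, hm, h3, Pi.smul_apply, h.one, smul_eq_mul, ← mul_assoc, ← mul_assoc] at h2
  exact_mod_cast (mul_right_cancel₀ h.irrZ.one_ne_zero h2).symm

/-- DeMeyer–Janusz: the restriction to the preimage of a Hall subgroup of `G / Z` is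
homogeneous. -/
theorem FR.homog [Finite G] (h : FR Z χ θ e) {Q : Subgroup G} (hQ : Z ≤ Q)
    (hcop : (Z.relIndex Q).Coprime Q.index) :
    ∃ (ξ : Q → ℂ) (m : ℕ), IsIrrCharacter Q ξ ∧ (fun x : Q => χ x) = (m : ℂ) • ξ ∧
      m ^ 2 = Q.index := by
  have := Fintype.ofFinite G
  have := Fintype.ofFinite Q
  obtain ⟨ξ, hξ, hin⟩ := h.irr.exists_under_res Q
  obtain ⟨m, hm⟩ := (h.irr.isCharacter.res Q).exists_nat_inner hξ.isCharacter
  have hm0 : m ≠ 0 := by rintro rfl; exact hin (by simpa using hm)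
  obtain ⟨f, -, hf⟩ := h.exists_mul hQ hξ hm hm0
  have hi : 0 < Q.index := Nat.pos_of_ne_zero Subgroup.index_ne_zero_of_finite
  have h1 : m ^ 2 * Z.relIndex Q = Q.index * f ^ 2 := by
    have : (m * e) ^ 2 = (Q.index * f) ^ 2 := by rw [hf]
    rw [mul_pow, h.sq, ← Subgroup.relIndex_mul_index hQ] at this
    apply Nat.eq_of_mul_eq_mul_right hi
    nlinarith
  have h2 : Q.index ∣ m ^ 2 := hcop.symm.dvd_of_dvd_mul_right ⟨_, h1⟩
  have h3 : Q.index ≤ m ^ 2 := Nat.le_of_dvd (by positivity) h2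
  have h4 : classInner (fun x : Q => χ x) (fun x : Q => χ x) = Q.index :=
    (inner_res_self_eq_index_iff Q h.irr.inner_self).mpr fun g hg => h.vanish fun hz => hg (hQ hz)
  have h5 := (h.irr.isCharacter.res Q).isGen.norm_sub_smul hξ (n := m) (by simpa using hm)
  have h6 := (h.irr.isCharacter.res Q).isGen.sq_inner_le hξ (n := m) (m := Q.index)
    (by simpa using hm) (by simpa using h4)
  have h7 : m ^ 2 = Q.index := le_antisymm (by exact_mod_cast h6) h3
  refine ⟨ξ, m, hξ, ?_, h7⟩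
  rw [h4, ← h7] at h5
  simp only [Int.cast_natCast, Nat.cast_pow, sub_self] at h5
  exact sub_eq_zero.mp (classInner_self_eq_zero.mp h5)

/-- The key construction: a subgroup `S` with `S K / K` a `p`-complement of `G / K`. -/
theorem FR.exists_compl [Finite G] (h : FR Z χ θ e) {K : Subgroup G} [hK : K.Normal] (hZK : Z ≤ K)
    {p : ℕ} [hp : Fact p.Prime] (R : Sylow p G)
    (hone : ∀ (Q : Subgroup G) [Fintype (K.subgroupOf Q)] (ξ : Q → ℂ) (m : ℕ)
      (η : K.subgroupOf Q → ℂ), Q = Z ⊔ R → IsIrrCharacter Q ξ →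
      (fun x : Q => χ x) = (m : ℂ) • ξ → m ^ 2 = Q.index → IsIrrCharacter _ η →
      classInner (fun x : K.subgroupOf Q => ξ x) η ≠ 0 →
      classInner (fun x : K.subgroupOf Q => ξ x) η = 1) :
    ∃ S : Subgroup G, ¬ p ∣ K.relIndex S ∧
      ∀ g : G, ∃ k ∈ K, ∃ s ∈ S, ∃ r ∈ (R : Subgroup G), g = k * s * r := by
  classical
  have := Fintype.ofFinite G
  set Q : Subgroup G := Z ⊔ R with hQ
  have hQi : ¬ p ∣ Q.index := fun hd =>
    R.not_dvd_index (hd.trans (Subgroup.index_dvd_of_le le_sup_right))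
  have hcop : (Z.relIndex Q).Coprime Q.index := by
    obtain ⟨k, hk⟩ := IsPGroup.iff_card.mp R.isPGroup'
    have : Z.relIndex Q ∣ p ^ k := by
      rw [hQ, Subgroup.relIndex_sup_left, ← hk]
      exact Subgroup.relIndex_dvd_card _ _
    exact Nat.Coprime.coprime_dvd_left this
      (Nat.Coprime.pow_left _ ((Nat.Prime.coprime_iff_not_dvd hp.out).mpr hQi))
  obtain ⟨ξ, m, hξ, hres, hm⟩ := h.homog (le_sup_left : Z ≤ Q) hcop
  have hm0 : (m : ℂ) ≠ 0 := by
    have : m ≠ 0 := by
      rintro rfl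
      exact Subgroup.index_ne_zero_of_finite (H := Q) (by simpa using hm.symm)
    exact_mod_cast this
  set P : Subgroup G := K ⊓ Q with hP
  have hPQ : P ≤ Q := inf_le_right
  have hsub : P.subgroupOf Q = K.subgroupOf Q := by
    rw [hP, Subgroup.inf_subgroupOf_right]
  have hPn : (P.subgroupOf Q).Normal := hsub ▸ inferInstance
  have hQN : Q ≤ Subgroup.normalizer (P : Set G) :=
    CL.Glb.le_norm_of_conj fun s hs g hg =>
      ⟨hK.conj_mem g hg.1 s, Q.mul_mem (Q.mul_mem hs hg.2) (Q.inv_mem hs)⟩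
  have := Fintype.ofFinite P
  have := Fintype.ofFinite (P.subgroupOf Q)
  obtain ⟨η, hη, hin⟩ := hξ.exists_under (Subgroup.inclusion hPQ)
  have hin' : classInner (fun x : P.subgroupOf Q => ξ x) (subOf P Q η) ≠ 0 := by
    rw [classInner_res_subOf hPQ]; exact hin
  have h1 : classInner (fun x : P.subgroupOf Q => ξ x) (subOf P Q η) = 1 := by
    have key : ∀ (L : Subgroup Q) [Fintype L] (η' : L → ℂ), L = K.subgroupOf Q →
        IsIrrCharacter L η' → classInner (fun x : L => ξ x) η' ≠ 0 →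
        classInner (fun x : L => ξ x) η' = 1 := by
      intro L _ η' hL
      subst hL
      exact hone Q ξ m η' rfl hξ hres hm
    exact key _ _ hsub (hη.subOf hPQ) hin'
  have hvan : ∀ x : Q, x ∉ P.subgroupOf Q → ξ x = 0 := by
    intro x hx
    have h2 : χ x = m * ξ x := congrFun hres x
    rw [h.vanish (g := x) fun hz => hx ⟨hZK hz, x.2⟩] at h2
    exact (mul_eq_zero.mp h2.symm).resolve_left hm0
  have hT : CL.Char.inertia (P.subgroupOf Q) (subOf P Q η) = P.subgroupOf Q := by
    have h2 := clifford_norm hξ (hη.subOf hPQ) hin'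
    rw [h1, (inner_res_self_eq_index_iff _ hξ.inner_self).mpr hvan, one_pow, one_mul] at h2
    have h3 := le_inertia (hη.subOf hPQ).isClassFunction
    have h4 : (P.subgroupOf Q).index =
        (CL.Char.inertia (P.subgroupOf Q) (subOf P Q η)).index := by exact_mod_cast h2
    have h5 := Subgroup.relIndex_mul_index h3
    rw [h4] at h5
    have h6 := (Nat.mul_eq_right Subgroup.index_ne_zero_of_finite).mp h5
    exact le_antisymm (Subgroup.relIndex_eq_one.mp h6) h3
  set S := CL.Glb.stab P η with hS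
  set N := Subgroup.normalizer (P : Set G) with hN
  have hSN : S ≤ N := fun x hx => hx.1
  have hSQ : S ⊓ Q ≤ K := by
    rintro x ⟨hx, hxQ⟩
    have : (⟨x, hxQ⟩ : Q) ∈ CL.Char.inertia (P.subgroupOf Q) (subOf P Q η) := by
      rw [mem_inertia]
      intro n
      exact hx.2 _ _ rfl
    rw [hT] at this
    exact this.1
  have hNSQ : ∀ n ∈ N, ∃ s ∈ S, ∃ q ∈ Q, n = s * q := by
    intro n hn
    have hη' : IsIrrCharacter P fun x => η (CL.Glb.cjE P hn x) := hη.comp_mulEquiv _
    have hχP : (fun x : P => χ x) = (m : ℂ) • fun x : P => ξ (Subgroup.inclusion hPQ x) :=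
      funext fun x => congrFun hres (Subgroup.inclusion hPQ x)
    have h2 : classInner (fun x : P => χ x) (fun x => η (CL.Glb.cjE P hn x)) =
        classInner (fun x : P => χ x) η := by
      rw [← classInner_comp_equiv (CL.Glb.cjE P hn).toEquiv (fun x : P => χ x) η]
      congr 1
      funext x
      exact (h.irr.isClassFunction _ _).symm
    rw [hχP, classInner_smul_left, classInner_smul_left] at h2
    have h3 := mul_left_cancel₀ hm0 h2
    have h4 : classInner (fun x : P.subgroupOf Q => ξ x)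
        (subOf P Q fun x => η (CL.Glb.cjE P hn x)) ≠ 0 := by
      rw [classInner_res_subOf hPQ]
      exact h3 ▸ hin
    obtain ⟨q, hq⟩ := mem_conjugates.mp (mem_conjugates_of_under hξ (hη.subOf hPQ)
      (hη'.subOf hPQ) hin' h4)
    refine ⟨n * (q : G)⁻¹, ⟨mul_mem hn (inv_mem (hQN q.2)), fun g g' hg => ?_⟩, q, q.2, by group⟩
    have hy : (q : G)⁻¹ * g * q ∈ P := CL.Glb.conj_mem_of_norm' (hQN q.2) g.2
    have h5 := congrFun hq ⟨⟨_, hPQ hy⟩, hy⟩
    rw [conjN_apply, subOf_apply, subOf_apply] at h5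
    convert h5.symm using 2
    · apply Subtype.ext
      rw [CL.Glb.coe_cjE, hg]
      simp only
      group
    · apply Subtype.ext
      simp only [Subgroup.coe_mul, InvMemClass.coe_inv]
      group
  refine ⟨S, fun hd => hQi ?_, fun g => ?_⟩
  · have h2 := relIndex_eq_index_of_forall_exists_mul (S.subgroupOf N) (Q.subgroupOf N)
      (fun g => by
        obtain ⟨s, hs, q, hq, e⟩ := hNSQ g g.2
        exact ⟨⟨s, hSN hs⟩, hs, ⟨q, hQN hq⟩, hq, Subtype.ext e⟩)
    rw [Subgroup.relIndex_subgroupOf hSN] at h2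
    have h3 : K.relIndex S ∣ Q.relIndex S := by
      rw [← Subgroup.inf_relIndex_left S Q]
      exact Subgroup.relIndex_dvd_of_le_left S hSQ
    rw [h2] at h3
    exact (hd.trans h3).trans (Subgroup.relIndex_dvd_index_of_le hQN)
  · obtain ⟨k, hk, y, hy, rfl⟩ := (CL.MSS.sylIn_inf_normal R K).frattini (x := g)
      (by rw [Subgroup.normalizer_eq_top]; trivial)
    have hyN : y ∈ N := by
      have hPe : P = Z ⊔ ((R : Subgroup G) ⊓ K) := by
        refine le_antisymm ?_ (sup_le (le_inf hZK le_sup_left)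
          (le_inf inf_le_right (inf_le_left.trans le_sup_right)))
        rintro x ⟨hxK, hxQ⟩
        obtain ⟨z, hz, r, hr, rfl⟩ := Subgroup.mem_sup_of_normal_left.mp hxQ
        exact mul_mem (Subgroup.mem_sup_left hz) (Subgroup.mem_sup_right
          ⟨hr, (K.mul_mem_cancel_left (hZK hz)).mp hxK⟩)
      have : ∀ s ∈ Subgroup.normalizer (((R : Subgroup G) ⊓ K : Subgroup G) : Set G),
          ∀ g ∈ P, s * g * s⁻¹ ∈ P := by
        intro s hs g hg
        rw [hPe] at hg ⊢
        obtain ⟨z, hz, r, hr, rfl⟩ := Subgroup.mem_sup_of_normal_left.mp hg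
        have : s * (z * r) * s⁻¹ = (s * z * s⁻¹) * (s * r * s⁻¹) := by group
        rw [this]
        exact mul_mem (Subgroup.mem_sup_left (hZ.conj_mem z hz s))
          (Subgroup.mem_sup_right (CL.Glb.conj_mem_of_norm hs hr))
      exact CL.Glb.le_norm_of_conj this hy
    obtain ⟨s, hs, q, hq, rfl⟩ := hNSQ y hyN
    obtain ⟨z, hz, r, hr, rfl⟩ := Subgroup.mem_sup_of_normal_left.mp hq
    refine ⟨k * (s * z * s⁻¹), mul_mem hk (hZK (hZ.conj_mem z hz s)), s, hs, r, hr, by group⟩

end CL.Ord
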