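import Mathlib
import Cfsg.Agent.ORD.SpCls2

/-! Lower bounds for class numbers I: orders of solvable permutation groups, counting lemmas. -/

set_option autoImplicit false

namespace CL.KLow

open MulAction Equiv Pointwise CL.SolvLin CL.Ord.PC

universe u

theorem card_eq_ker_range {G H : Type*} [Group G] [Group H] (f : G →* H) :
    Nat.card G = Nat.card f.ker * Nat.card f.range := by
  rw [← Subgroup.index_ker, Subgroup.card_mul_index]

theorem card_perm_aux (n : ℕ) :
    ∀ (G Ω : Type u) [Group G] [Finite G] [Finite Ω] [MulAction G Ω] [FaithfulSMul G Ω],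
      Group.IsSolvable G → Nat.card Ω = n → ∀ (I : Type u) (π : Ω → I), Function.Surjective π →
      (∀ (g : G) (x : Ω), π (g • x) = π x) → Nat.card G ≤ 3 ^ (Nat.card Ω - Nat.card I) := by
  induction n using Nat.strong_induction_on with
  | _ n ih =>
  have hc : 1 ≤ 3 := by norm_num
  have ih1 : ∀ (K Γ : Type u) [Group K] [Finite K] [Finite Γ] [MulAction K Γ] [FaithfulSMul K Γ],
      Group.IsSolvable K → Nat.card Γ < n → Nat.card K ≤ 3 ^ (Nat.card Γ - 1) := by
    intro K Γ _ _ _ _ _ hK hlt
    rcases isEmpty_or_nonempty Γ with h | h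
    · have : Subsingleton K := ⟨fun a b => eq_of_smul_eq_smul (α := Γ) fun x => isEmptyElim x⟩
      exact (Finite.card_le_one_iff_subsingleton.2 this).trans (Nat.one_le_pow _ _ hc)
    · have := ih _ hlt K Γ hK rfl PUnit (fun _ => PUnit.unit)
        (fun _ => ⟨h.some, rfl⟩) (fun _ _ => rfl)
      simpa using this
  -- the case of at least two colours
  have case1 : ∀ (G Ω : Type u) [Group G] [Finite G] [Finite Ω] [MulAction G Ω] [FaithfulSMul G Ω],
      Group.IsSolvable G → Nat.card Ω = n → ∀ (I : Type u) (π : Ω → I), Function.Surjective π →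
      (∀ (g : G) (x : Ω), π (g • x) = π x) → 2 ≤ Nat.card I →
      Nat.card G ≤ 3 ^ (Nat.card Ω - Nat.card I) := by
    intro G Ω _ _ _ _ _ hG hn I π hπ hinv hI
    have : Finite I := Finite.of_surjective π hπ
    have : Nontrivial I := Finite.one_lt_card_iff_nontrivial.1 hI
    obtain ⟨i, j, hij⟩ := exists_pair_ne I
    let Δ : SubMulAction G Ω := ⟨{x | π x = i}, fun g x hx => by
      change π (g • x) = i
      rw [hinv]; exact hx⟩
    let Δ' : SubMulAction G Ω := ⟨{x | π x ≠ i}, fun g x hx => by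
      change π (g • x) ≠ i
      rw [hinv]; exact hx⟩
    have hcard : Nat.card Δ + Nat.card Δ' = Nat.card Ω := by
      rw [← Nat.card_sum]
      classical
      exact Nat.card_congr (Equiv.sumCompl fun x => π x = i)
    have h1 : 0 < Nat.card Δ := by
      obtain ⟨x, hx⟩ := hπ i
      have : Nonempty Δ := ⟨⟨x, hx⟩⟩
      exact Nat.card_pos
    have h2 : 0 < Nat.card Δ' := by
      obtain ⟨x, hx⟩ := hπ j
      have : Nonempty Δ' := ⟨⟨x, by change π x ≠ i; rw [hx]; exact hij.symm⟩⟩
      exact Nat.card_pos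
    let f := toPermHom G Δ
    have : FaithfulSMul f.ker Δ' := ⟨fun {a b} h => by
      refine Subtype.ext (eq_of_smul_eq_smul (α := Ω) fun x => ?_)
      by_cases hx : π x = i
      · have ha := congrArg (fun σ : Perm Δ => (σ ⟨x, hx⟩ : Ω)) a.2
        have hb := congrArg (fun σ : Perm Δ => (σ ⟨x, hx⟩ : Ω)) b.2
        exact ha.trans hb.symm
      · exact congrArg Subtype.val (h ⟨x, hx⟩)⟩
    let π' : Δ' → {k : I // k ≠ i} := fun x => ⟨π x.1, x.2⟩
    have hπ' : Function.Surjective π' := by
      rintro ⟨k, hk⟩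
      obtain ⟨x, rfl⟩ := hπ k
      exact ⟨⟨x, hk⟩, rfl⟩
    have hI' : Nat.card {k : I // k ≠ i} + 1 = Nat.card I := by
      classical
      rw [← Nat.card_congr (Equiv.optionSubtypeNe i), Finite.card_option]
    have hle : Nat.card {k : I // k ≠ i} ≤ Nat.card Δ' := Nat.card_le_card_of_surjective _ hπ'
    have a1 := ih (Nat.card Δ') (by omega) f.ker Δ' inferInstance rfl _ π' hπ'
      (fun g x => Subtype.ext (hinv g.1 x.1))
    have : Finite f.range := Finite.of_surjective _ f.rangeRestrict_surjective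
    have a2 := ih1 f.range Δ (Group.isSolvable_of_surjective f.rangeRestrict_surjective) (by omega)
    refine (card_eq_ker_range f).le.trans ((Nat.mul_le_mul a1 a2).trans ?_)
    rw [← pow_add]
    exact Nat.pow_le_pow_right hc (by omega)
  intro G Ω _ _ _ _ _ hG hn I π hπ hinv
  by_cases hI : 2 ≤ Nat.card I
  · exact case1 G Ω hG hn I π hπ hinv hI
  by_cases h2 : Nat.card Ω < 2
  · have : Subsingleton Ω := Finite.card_le_one_iff_subsingleton.1 (by omega)
    have : Subsingleton G := ⟨fun a b => eq_of_smul_eq_smul (α := Ω) fun x => Subsingleton.elim _ _⟩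
    exact (Finite.card_le_one_iff_subsingleton.2 this).trans (Nat.one_le_pow _ _ hc)
  refine le_trans ?_ (Nat.pow_le_pow_right hc (show Nat.card Ω - 1 ≤ _ by omega))
  have hnt : Nontrivial Ω := Finite.one_lt_card_iff_nontrivial.1 (by omega)
  by_cases htr : IsPretransitive G Ω
  swap
  · have h3 : 2 ≤ Nat.card (orbitRel.Quotient G Ω) := by
      have : Finite (orbitRel.Quotient G Ω) := Quotient.finite _
      by_contra h
      have : Subsingleton (orbitRel.Quotient G Ω) :=
        Finite.card_le_one_iff_subsingleton.1 (by omega)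
      refine htr ⟨fun x y => ?_⟩
      have : (Quotient.mk _ y : orbitRel.Quotient G Ω) = Quotient.mk _ x := Subsingleton.elim _ _
      exact Quotient.exact this
    refine (case1 G Ω hG hn (orbitRel.Quotient G Ω) (Quotient.mk _) Quotient.mk_surjective
      (fun g x => Quotient.sound ⟨g, rfl⟩) h3).trans (Nat.pow_le_pow_right hc (by omega))
  by_cases hpr : IsPreprimitive G Ω
  · exact CL.Ord.PC.card_le_three_pow_of_prim G Ω hpr (by omega)
  obtain ⟨B, hB, hBt⟩ : ∃ B : Set Ω, IsBlock G B ∧ ¬ IsTrivialBlock B := by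
    by_contra h
    push Not at h
    exact hpr { isTrivialBlock_of_isBlock := fun {B} hB => h B hB }
  rw [IsTrivialBlock, not_or, Set.not_subsingleton_iff] at hBt
  obtain ⟨⟨x, hx, y, hy, hxy⟩, hBu⟩ := hBt
  have hsys := (hB.isBlockSystem ⟨x, hx⟩).1.2
  have hex : ∀ a : Ω, ∃ C : orbit G B, a ∈ C.1 ∧ ∀ D : orbit G B, a ∈ D.1 → D = C := fun a => by
    obtain ⟨C, ⟨hC, haC⟩, hu⟩ := hsys a
    exact ⟨⟨C, hC⟩, haC, fun D hD => Subtype.ext (hu D.1 ⟨D.2, hD⟩)⟩
  choose ρ hρ hρu using hex
  have hρs : Function.Surjective ρ := by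
    rintro ⟨_, g, rfl⟩
    exact ⟨g • x, (hρu _ _ (Set.smul_mem_smul_set hx)).symm⟩
  have hρe : ∀ (g : G) (a : Ω), ρ (g • a) = g • ρ a := fun g a =>
    (hρu _ _ (Set.smul_mem_smul_set (hρ a))).symm
  have : Finite (orbit G B) := Finite.of_surjective ρ hρs
  have hlt : Nat.card (orbit G B) < Nat.card Ω := by
    refine lt_of_le_of_ne (Nat.card_le_card_of_surjective _ hρs) fun h => hxy ?_
    have hb := hρs.bijective_of_nat_card_le h.ge
    exact hb.1 ((hρu x ⟨B, mem_orbit_self B⟩ hx).symm.trans (hρu y ⟨B, mem_orbit_self B⟩ hy))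
  have hge : 2 ≤ Nat.card (orbit G B) := by
    obtain ⟨z, hz⟩ := (Set.ne_univ_iff_exists_notMem B).1 hBu
    refine Finite.one_lt_card_iff_nontrivial.2 ⟨ρ z, ⟨B, mem_orbit_self B⟩, fun h => hz ?_⟩
    have := hρ z
    rwa [h] at this
  let f := toPermHom G (orbit G B)
  have a1 := case1 f.ker Ω inferInstance hn _ ρ hρs (fun g a => by
    have := congrArg (fun σ : Perm (orbit G B) => σ (ρ a)) g.2
    exact (hρe g.1 a).trans this) hge
  have : Finite f.range := Finite.of_surjective _ f.rangeRestrict_surjective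
  have a2 := ih1 f.range (orbit G B) (Group.isSolvable_of_surjective f.rangeRestrict_surjective) (by omega)
  refine (card_eq_ker_range f).le.trans ((Nat.mul_le_mul a1 a2).trans ?_)
  rw [← pow_add]
  exact Nat.pow_le_pow_right hc (by omega)

/-- A solvable permutation group of degree `n` has order at most `3 ^ (n - 1)`. -/
theorem index_ker_le (G Ω : Type u) [Group G] [Finite G] [Finite Ω] [Nonempty Ω] [MulAction G Ω]
    [Group.IsSolvable G] : (toPermHom G Ω).ker.index ≤ 3 ^ (Nat.card Ω - 1) := by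
  have : Finite (toPermHom G Ω).range :=
    Finite.of_surjective _ (toPermHom G Ω).rangeRestrict_surjective
  have := card_perm_aux _ (toPermHom G Ω).range Ω
    (Group.isSolvable_of_surjective (toPermHom G Ω).rangeRestrict_surjective) rfl PUnit
    (fun _ => PUnit.unit) (fun _ => ⟨Classical.arbitrary Ω, rfl⟩) (fun _ _ => rfl)
  rw [Subgroup.index_ker]
  simpa using this

theorem index_ker_le_factorial (G Ω : Type*) [Group G] [Finite Ω] [MulAction G Ω] :
    (toPermHom G Ω).ker.index ≤ (Nat.card Ω).factorial := by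
  rw [Subgroup.index_ker, ← Nat.card_perm]
  exact Subgroup.card_le_card_group _

/-! ### Groups with few classes -/

theorem unit_three_aux {n a b c : ℕ} (ha : a ∣ n) (hb : b ∣ n) (hc : c ∣ n) (h1 : b ≤ a)
    (h2 : c ≤ b) (e : n = 1 + a + b + c) : n ≤ 42 := by
  obtain ⟨x, hx⟩ := ha
  obtain ⟨y, hy⟩ := hb
  have key : ∀ D M : ℕ, 0 < M → D * n = M * (1 + c) → c ≤ M := fun D M hM h =>
    Nat.le_of_dvd hM ((Nat.dvd_add_left (dvd_mul_left c M)).1 (by
      rw [← mul_one_add, ← h]; exact hc.mul_left D))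
  by_contra hn
  have x4 : x < 4 := by
    by_contra h
    have : a * 4 ≤ a * x := Nat.mul_le_mul_left _ (by omega)
    omega
  have y5 : y < 5 := by
    by_contra h
    have : b * 5 ≤ b * y := Nat.mul_le_mul_left _ (by omega)
    interval_cases x <;> omega
  have k1 := key 1 6 (by norm_num)
  have k2 := key 1 4 (by norm_num)
  have k3 := key 1 3 (by norm_num)
  interval_cases x <;> interval_cases y <;> omega

theorem unit_two {n a b : ℕ} (ha : a ∣ n) (hb : b ∣ n) (e : n = 1 + a + b) : n ≤ 6 := by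
  wlog h : b ≤ a generalizing a b
  · exact this hb ha (by omega) (by omega)
  obtain ⟨x, hx⟩ := ha
  by_contra hn
  have x4 : x < 3 := by
    by_contra h
    have : a * 3 ≤ a * x := Nat.mul_le_mul_left _ (by omega)
    omega
  have : b ≤ 2 := by
    interval_cases x
    · omega
    · omega
    · exact Nat.le_of_dvd two_pos ((Nat.dvd_add_left (dvd_mul_left b 2)).1
        (by rwa [show 2 + 2 * b = n by omega]))
  interval_cases x <;> omega

theorem landau (G : Type*) [Group G] [Finite G] :
    (Nat.card (ConjClasses G) ≤ 1 → Nat.card G ≤ 1) ∧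
    (Nat.card (ConjClasses G) ≤ 2 → Nat.card G ≤ 2) ∧
    (Nat.card (ConjClasses G) ≤ 3 → Nat.card G ≤ 6) ∧
    (Nat.card (ConjClasses G) ≤ 4 → Nat.card G ≤ 42) := by
  classical
  have := Fintype.ofFinite G
  have h1 := CL.sum_card_centralizer_eq (G := G)
  let f : ConjClasses G → ℕ := fun c => c.carrier.ncard
  have h2 : ∀ c, f c ∣ Nat.card G := fun c => by
    obtain ⟨g, rfl⟩ := ConjClasses.mk_surjective c
    exact (CL.ncard_carrier_eq_index g).dvd.trans (Subgroup.index_dvd_card _)
  have h3 : f 1 = 1 := by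
    change (ConjClasses.mk (1 : G)).carrier.ncard = 1
    rw [CL.ncard_carrier_eq_index, Subgroup.index_eq_one, Subgroup.centralizer_eq_top_iff_subset]
    simp
  have h4 : ∑ c, f c = Nat.card G := by
    rw [Nat.card_eq_fintype_card, ← sum_conjClasses_card_eq_card]
    exact Finset.sum_congr rfl fun c _ => Set.ncard_eq_toFinset_card' _
  rw [← Finset.add_sum_erase _ _ (Finset.mem_univ 1), h3, ← Finset.sum_map_toList] at h4
  have h5 : (((Finset.univ.erase 1).toList).map f).length + 1 = Nat.card (ConjClasses G) := by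
    rw [List.length_map, Finset.length_toList, Finset.card_erase_add_one (Finset.mem_univ _),
      Nat.card_eq_fintype_card, Finset.card_univ]
  have h6 : ∀ a ∈ ((Finset.univ.erase 1).toList).map f, a ∣ Nat.card G := fun a ha => by
    obtain ⟨c, -, rfl⟩ := List.mem_map.1 ha
    exact h2 c
  rw [← h5]
  generalize ((Finset.univ.erase 1).toList).map f = l at h4 h6
  generalize Nat.card G = n at h4 h6
  rcases l with _ | ⟨a, _ | ⟨b, _ | ⟨c, _ | ⟨d, l⟩⟩⟩⟩ <;>
    simp only [List.sum_cons, List.sum_nil, List.length_cons, List.length_nil, List.mem_cons,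
      List.not_mem_nil, or_false, forall_eq_or_imp, forall_eq] at h4 h6 ⊢
  · omega
  · have : a ≤ 1 := Nat.le_of_dvd one_pos ((Nat.dvd_add_left dvd_rfl).1 (by
      rwa [show 1 + a = n by omega]))
    omega
  · have := unit_two h6.1 h6.2 (by omega)
    omega
  · obtain ⟨ha, hb, hc⟩ := h6
    have : n ≤ 42 := by
      rcases le_total a b with h | h <;> rcases le_total b c with h' | h' <;>
        rcases le_total a c with h'' | h''
      all_goals first
        | exact unit_three_aux ha hb hc (by omega) (by omega) (by omega)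
        | exact unit_three_aux ha hc hb (by omega) (by omega) (by omega)
        | exact unit_three_aux hb ha hc (by omega) (by omega) (by omega)
        | exact unit_three_aux hb hc ha (by omega) (by omega) (by omega)
        | exact unit_three_aux hc ha hb (by omega) (by omega) (by omega)
        | exact unit_three_aux hc hb ha (by omega) (by omega) (by omega)
    omega
  · omega

/-! ### Orbits on nonzero vectors -/

section nu
variable {A V : Type*} [Group A] [AddCommGroup V] [DistribMulAction A V]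

variable (A V) in
/-- The number of orbits on the nonzero vectors. -/
noncomputable def nu : ℕ := {O : Set V | ∃ v, v ≠ 0 ∧ orbit A v = O}.ncard

theorem nu_img : nu (Img A V) V = nu A V := by
  have : ∀ v : V, orbit (Img A V) v = orbit A v := fun v => Set.ext fun w =>
    ⟨fun ⟨g, e⟩ => by
      obtain ⟨a, rfl⟩ := toImg_surj g
      exact ⟨a, e⟩, fun ⟨a, e⟩ => ⟨toImg V a, e⟩⟩
  simp only [nu, this]

theorem le_nu [Finite V] {ι : Type*} (x : ι → V) (h0 : ∀ i, x i ≠ 0)
    (h : ∀ i j (a : A), a • x i = x j → i = j) : Nat.card ι ≤ nu A V := by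
  rw [nu, ← Nat.card_coe_set_eq]
  refine Nat.card_le_card_of_injective (fun i => ⟨_, x i, h0 i, rfl⟩) fun i j e => ?_
  obtain ⟨a, ha⟩ : x j ∈ orbit A (x i) := by
    rw [show orbit A (x i) = orbit A (x j) from congrArg Subtype.val e]; exact mem_orbit_self _
  exact h i j a ha

variable (A V) in
theorem exists_nu : ∃ x : {O : Set V | ∃ v, v ≠ 0 ∧ orbit A v = O} → V, (∀ i, x i ≠ 0) ∧
    (∀ i j (a : A), a • x i = x j → i = j) ∧ ∀ v : V, v ≠ 0 → ∃ i, ∃ a : A, a • x i = v := by
  choose x h1 h2 using fun i : {O : Set V | ∃ v, v ≠ 0 ∧ orbit A v = O} => i.2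
  refine ⟨x, h1, fun i j a e => Subtype.ext ?_, fun v hv => ⟨⟨_, v, hv, rfl⟩, ?_⟩⟩
  · rw [← h2, ← h2, ← e, orbit_smul]
  · change v ∈ orbit A _
    rw [h2]; exact mem_orbit_self _

theorem card_le_nu [Finite A] [Finite V] : Nat.card V ≤ 1 + nu A V * Nat.card A := by
  obtain ⟨x, -, -, h⟩ := exists_nu A V
  rw [nu, ← Nat.card_coe_set_eq, ← Nat.card_prod, add_comm, ← Finite.card_option]
  refine Nat.card_le_card_of_surjective (fun o => o.elim 0 fun p => p.2 • x p.1) fun v => ?_
  by_cases hv : v = 0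
  · exact ⟨none, hv.symm⟩
  · obtain ⟨i, a, e⟩ := h v hv
    exact ⟨some (i, a), e⟩

theorem one_le_nu [Finite V] [Nontrivial V] : 1 ≤ nu A V := by
  obtain ⟨v, hv⟩ := exists_ne (0 : V)
  simpa using le_nu (A := A) (fun _ : Unit => v) (fun _ => hv) fun _ _ _ _ => rfl

end nu

theorem card_le_k {G : Type*} [Group G] [Finite G] (Z : Subgroup G)
    (h : ∀ z ∈ Z, ∀ g, g * z = z * g) : Nat.card Z ≤ Nat.card (ConjClasses G) :=
  Nat.card_le_card_of_injective (fun z => ConjClasses.mk z.1) fun a b e => by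
    obtain ⟨c, hc⟩ := isConj_iff.1 (ConjClasses.mk_eq_mk_iff_isConj.1 e)
    exact Subtype.ext (by rw [← hc, h _ a.2, mul_inv_cancel_right])

/-- An abelian subgroup of small index gives many classes or many orbits. -/
theorem card_le_of_abelian {A V : Type*} [Group A] [AddCommGroup V] [DistribMulAction A V]
    [Finite A] [Finite V] (L : Subgroup A) (h : ∀ a ∈ L, ∀ b ∈ L, a * b = b * a) :
    Nat.card V ≤ 1 + Nat.card (ConjClasses A) * nu A V * L.index ^ 2 := by
  have h1 := card_le_k (⊤ : Subgroup L) fun z _ g => Subtype.ext (h _ g.2 _ z.2)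
  rw [Subgroup.card_top] at h1
  have h2 := h1.trans (Cfsg.Agent.S4200.result L).1
  refine (card_le_nu (A := A)).trans (Nat.add_le_add_left ?_ _)
  rw [← L.card_mul_index]
  calc _ ≤ nu A V * (L.index * Nat.card (ConjClasses A) * L.index) := by gcongr
    _ = _ := by ring

theorem k_add_nu_le {G : Type*} [Group G] [Finite G] (N : Subgroup G) [N.Normal]
    (h : ∀ a ∈ N, ∀ b ∈ N, a * b = b * a) :
    Nat.card (ConjClasses (Img G (AbMod N h))) + nu G (AbMod N h) ≤ Nat.card (ConjClasses G) := by
  classical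
  obtain ⟨x, h0, h1, -⟩ := exists_nu G (AbMod N h)
  let F := ConjClasses.map (toImg (A := G) (AbMod N h))
  have hF : Function.Surjective F := ConjClasses.map_surjective toImg_surj
  let s : _ → ConjClasses G := fun κ => if κ = 1 then 1 else Function.surjInv hF κ
  have hs : ∀ κ, F (s κ) = κ := fun κ => by
    by_cases e : κ = 1
    · simp only [s, if_pos e]
      rw [e]
      exact congrArg ConjClasses.mk (map_one _)
    · simp only [s, if_neg e, Function.surjInv_eq]
  have : Finite (ConjClasses (Img G (AbMod N h))) := Finite.of_surjective F hF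
  have : Finite (AbMod N h) := Finite.of_injective _ AbMod.val_inj
  have key : ∀ κ i, s κ ≠ ConjClasses.mk (x i).val := fun κ i e => by
    have e1 : κ = 1 := by
      rw [← hs κ, e]
      exact congrArg ConjClasses.mk (img_faithful _ fun v => AbMod.val_inj (by
        rw [toImg_smul, AbMod.val_smul, h _ (x i).val_mem _ v.val_mem, mul_inv_cancel_right]))
    simp only [s, if_pos e1] at e
    exact h0 i (AbMod.val_inj (isConj_one_right.1 (ConjClasses.mk_eq_mk_iff_isConj.1 e)))
  rw [nu, ← Nat.card_coe_set_eq, ← Nat.card_sum]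
  refine Nat.card_le_card_of_injective (Sum.elim s fun i => ConjClasses.mk (x i).val) ?_
  rintro (κ | i) (κ' | j) e
  · rw [← hs κ, ← hs κ']; exact congrArg (fun c => Sum.inl (F c)) e
  · exact absurd e (key _ _)
  · exact absurd e.symm (key _ _)
  · obtain ⟨c, hc⟩ := isConj_iff.1 (ConjClasses.mk_eq_mk_iff_isConj.1 e)
    rw [h1 i j c (AbMod.val_inj hc)]

/-- Classes of a central extension. -/
theorem mul_le_k {G : Type*} [Group G] [Finite G] (Z : Subgroup G) [Z.Normal] [IsCyclic Z]
    (hZ : ∀ z ∈ Z, ∀ g, g * z = z * g) {m : ℕ} (hm : 0 < m)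
    (h : ∀ g x : G, g * x * g⁻¹ * x⁻¹ ∈ Z → (g * x * g⁻¹ * x⁻¹) ^ m = 1)
    (Γ : Set (ConjClasses (G ⧸ Z))) (hΓ : ∀ c ∈ Γ, ∃ x : G, ConjClasses.mk (x : G ⧸ Z) = c ∧
      ∀ g, g * x * g⁻¹ * x⁻¹ ∈ Z → g * x * g⁻¹ * x⁻¹ = 1) :
    Nat.card Z * (Nat.card (ConjClasses (G ⧸ Z)) + (m - 1) * Γ.ncard) ≤
      m * Nat.card (ConjClasses G) := by
  classical
  have := Fintype.ofFinite G
  let F := ConjClasses.map (QuotientGroup.mk' Z)
  have key : ∀ (x : G) (T : Finset Z), (∀ g (hg : g * x * g⁻¹ * x⁻¹ ∈ Z), ⟨_, hg⟩ ∈ T) →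
      Nat.card Z ≤ T.card * (Finset.univ.filter fun c => F c = ConjClasses.mk (x : G ⧸ Z)).card := by
    intro x T hT
    rw [Nat.card_eq_fintype_card, ← Finset.card_univ]
    refine Finset.card_le_mul_card_image_of_maps_to (f := fun z : Z => ConjClasses.mk (z * x : G))
      (fun z _ => Finset.mem_filter.2 ⟨Finset.mem_univ _, ?_⟩) _ fun b _ => ?_
    · change ConjClasses.mk ((z * x : G) : G ⧸ Z) = _
      rw [QuotientGroup.mk_mul, (QuotientGroup.eq_one_iff _).2 z.2, one_mul]
    rcases (Finset.univ.filter fun z : Z => ConjClasses.mk (z * x : G) = b).eq_empty_or_nonempty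
      with e | ⟨r, hr⟩
    · rw [e]; exact Nat.zero_le _
    refine Finset.card_le_card_of_injOn (fun z => r⁻¹ * z) (fun z hz => ?_)
      fun _ _ _ _ e => mul_left_cancel e
    obtain ⟨g, hg⟩ := isConj_iff.1 (ConjClasses.mk_eq_mk_iff_isConj.1
      ((Finset.mem_filter.1 hr).2.trans (Finset.mem_filter.1 hz).2.symm))
    have e : g * x * g⁻¹ * x⁻¹ = (r⁻¹ * z : Z) := by
      rw [← mul_assoc, hZ _ r.2] at hg
      rw [Subgroup.coe_mul, Subgroup.coe_inv, eq_inv_mul_iff_mul_eq, ← mul_assoc,
        mul_inv_eq_iff_eq_mul, ← hg]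
      group
    have := hT g (e ▸ (r⁻¹ * z).2)
    simp only [e] at this
    exact this
  have h1 : ∀ c, Nat.card Z * (1 + (m - 1) * if c ∈ Γ then 1 else 0) ≤
      m * (Finset.univ.filter fun c' => F c' = c).card := fun c => by
    split_ifs with hc
    · obtain ⟨x, rfl, hx⟩ := hΓ c hc
      have := key x {1} fun g hg => Finset.mem_singleton.2 (Subtype.ext (hx g hg))
      rw [Finset.card_singleton, one_mul] at this
      rw [mul_one, show 1 + (m - 1) = m by omega, mul_comm]
      exact Nat.mul_le_mul_left _ this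
    · obtain ⟨y, rfl⟩ := ConjClasses.mk_surjective c
      obtain ⟨x, rfl⟩ := QuotientGroup.mk_surjective y
      rw [mul_zero, add_zero, mul_one]
      exact (key x (Finset.univ.filter fun z => z ^ m = 1) fun g hg =>
        Finset.mem_filter.2 ⟨Finset.mem_univ _, Subtype.ext (h g x hg)⟩).trans
        (Nat.mul_le_mul_right _ (IsCyclic.card_pow_eq_one_le hm))
  have h2 := Finset.sum_le_sum fun c (_ : c ∈ Finset.univ) => h1 c
  rw [← Finset.mul_sum, ← Finset.mul_sum, ← Finset.card_eq_sum_card_fiberwise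
    (fun _ _ => Finset.mem_univ _), Finset.sum_add_distrib, ← Finset.mul_sum, Finset.sum_boole] at h2
  simpa [Set.ncard_eq_toFinset_card', Set.toFinset, Finset.filter] using h2

end CL.KLow
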