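import Mathlib
import Cfsg.Agent.ORD.KLow1
import Cfsg.Agent.KSG.WagLin

/-! Lower bounds for class numbers II: the field of a primitive group, blocks. -/

set_option autoImplicit false

namespace CL.KLow

open MulAction Subgroup Pointwise CL.SolvLin CL.Ord.PC Module
open scoped commutatorElement

universe u v

variable {A : Type u} {V : Type v} [Group A] [AddCommGroup V] [DistribMulAction A V]

theorem indep_of_ann [Finite V] (K : Subring (End ℤ V)) (hc : ∀ x ∈ K, ∀ y ∈ K, x * y = y * x)
    (σ : A → K → K) (hσ : ∀ a (k : K) v, a • k.1 v = (σ a k).1 (a • v)) [Nontrivial V]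
    (hp : ∀ U : AddSubgroup V, Indep A U → U = ⊥ ∨ U = ⊤) (k : K) (v : V) (hv : v ≠ 0)
    (hk : k.1 v = 0) : k = 0 := by
  classical
  have : Finite (End ℤ V) := Finite.of_injective _ DFunLike.coe_injective
  obtain ⟨v₀, hv₀, hmax⟩ := Set.exists_max_image {w : V | w ≠ 0}
    (fun w => {x : K | x.1 w = 0}.ncard) (Set.toFinite _) ⟨v, hv⟩
  set T := {x : K | x.1 v₀ = 0} with hT
  let U : AddSubgroup V :=
    { carrier := {w | ∀ t ∈ T, t.1 w = 0}
      add_mem' := fun ha hb t ht => by rw [map_add, ha t ht, hb t ht, add_zero]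
      zero_mem' := fun t _ => map_zero _
      neg_mem' := fun ha t ht => by rw [map_neg, ha t ht, neg_zero] }
  have hinj : ∀ a, Function.Injective (σ a) := fun a x y e => Subtype.ext (LinearMap.ext fun w =>
    MulAction.injective a (by simp only [hσ, e]))
  suffices hI : Indep A U by
    rcases hp U hI with e | e
    · exact absurd ((AddSubgroup.eq_bot_iff_forall _).1 e v₀ fun t ht => ht) hv₀
    · have h1 : T = {0} := Set.eq_singleton_iff_unique_mem.2 ⟨rfl, fun t ht =>
        Subtype.ext (LinearMap.ext fun w => (e ▸ trivial : w ∈ U) t ht)⟩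
      have h2 := hmax v hv
      simp only [h1, Set.ncard_singleton] at h2
      exact (Set.ncard_le_one (Set.toFinite _)).1 h2 k hk 0 rfl
  obtain ⟨g, hg⟩ := exists_reps (A := A) U
  let S : orbit A U → Set K := fun l => σ (g l) '' T
  have hS : ∀ (l : orbit A U) w, w ∈ l.1 ↔ ∀ t ∈ S l, t.1 w = 0 := by
    intro l w
    rw [← hg l, AddSubgroup.mem_pointwise_smul_iff_inv_smul_mem]
    refine ⟨?_, fun h t ht => (smul_eq_zero_iff_eq (g l)).1 ?_⟩
    · rintro h _ ⟨t, ht, rfl⟩
      rw [← smul_inv_smul (g l) w, ← hσ, h t ht, smul_zero]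
    · rw [hσ, smul_inv_smul, h _ ⟨t, ht, rfl⟩]
  have hSc : ∀ l, (S l).ncard = T.ncard := fun l => Set.ncard_image_of_injective _ (hinj _)
  have hK : ∀ (l : orbit A U), ∀ w ∈ l.1, w ≠ 0 → S l = {x : K | x.1 w = 0} := fun l w hw hw0 =>
    Set.eq_of_subset_of_ncard_le ((hS l w).1 hw) (by rw [hSc]; exact hmax w hw0)
  have hsep : ∀ l l' : orbit A U, l ≠ l' → ∃ t ∈ S l, t ∉ S l' := by
    intro l l' hne
    by_contra hc
    push Not at hc
    have := Set.eq_of_subset_of_ncard_le (show S l ⊆ S l' from hc) (by rw [hSc, hSc])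
    exact hne (Subtype.ext (AddSubgroup.ext fun w => by rw [hS, hS, this]))
  intro s
  induction s using Finset.induction_on with
  | empty => simp
  | insert l₀ s hl₀ ih =>
    intro x hx hs
    rw [Finset.sum_insert hl₀] at hs
    have h1 : ∀ l ∈ s, x l = 0 := by
      intro l hl
      obtain ⟨t, ht, ht'⟩ := hsep l₀ l fun e => hl₀ (e ▸ hl)
      have := ih (fun m => t.1 (x m)) (fun m => (hS m _).2 fun r hr => by
        rw [← End.mul_apply, hc _ r.2 _ t.2, End.mul_apply, (hS m _).1 (hx m) r hr, map_zero])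
        (by rw [← map_sum, eq_neg_of_add_eq_zero_right hs, map_neg, (hS l₀ _).1 (hx l₀) t ht,
          neg_zero]) l hl
      by_contra hne
      exact ht' (by rw [hK l _ (hx l) hne]; exact this)
    intro l hl
    rcases Finset.mem_insert.1 hl with rfl | hl
    · rwa [Finset.sum_eq_zero h1, add_zero] at hs
    · exact h1 l hl

theorem exists_semilinear [Finite V] [Nontrivial V] (hf : ∀ a : A, (∀ v : V, a • v = v) → a = 1)
    (hp : ∀ U : AddSubgroup V, Indep A U → U = ⊥ ∨ U = ⊤) (Z : Subgroup A) [hZ : Z.Normal]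
    (hab : ∀ a ∈ Z, ∀ b ∈ Z, a * b = b * a) :
    ∃ (K : Type v) (_ : Field K) (_ : Finite K) (_ : Module K V) (j : Z →* K)
      (σ : A →* RingAut K), (∀ (z : Z) (v : V), j z • v = (z : A) • v) ∧
      (∀ (a : A) (k : K) (v : V), a • k • v = σ a k • a • v) ∧
      ∀ a, σ a = 1 ↔ a ∈ centralizer (Z : Set A) := by
  let ρ : A →* End ℤ V := DistribMulAction.toModuleEnd ℤ V
  let K : Subring (End ℤ V) := Subring.closure (ρ '' Z)
  have : Finite (End ℤ V) := Finite.of_injective _ DFunLike.coe_injective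
  have h1 : ∀ y : End ℤ V, (∀ z ∈ Z, y * ρ z = ρ z * y) → ∀ x ∈ K, y * x = x * y := fun y hy x hx =>
    (Subring.closure_le (t := Subring.centralizer {y})).2 (by
      rintro _ ⟨z, hz, rfl⟩ _ rfl
      exact hy z hz) hx y rfl
  have hc : ∀ x ∈ K, ∀ y ∈ K, x * y = y * x := fun x hx => h1 x fun z hz =>
    (h1 _ (fun w hw => by rw [← map_mul, hab z hz w hw, map_mul]) x hx).symm
  have hi : ∀ a, ρ a⁻¹ * ρ a = 1 := fun a => by rw [← map_mul, inv_mul_cancel, map_one]
  have hi' : ∀ a, ρ a * ρ a⁻¹ = 1 := fun a => by rw [← map_mul, mul_inv_cancel, map_one]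
  let c : A → End ℤ V →+* End ℤ V := fun a =>
    { toFun x := ρ a * x * ρ a⁻¹
      map_one' := by rw [mul_one, hi']
      map_mul' x y := by
        calc _ = ρ a * x * (ρ a⁻¹ * ρ a) * y * ρ a⁻¹ := by rw [hi]; noncomm_ring
          _ = _ := by noncomm_ring
      map_zero' := by simp
      map_add' x y := by noncomm_ring }
  have h2 : ∀ a, ∀ x ∈ K, c a x ∈ K := fun a x hx =>
    (Subring.closure_le (t := K.comap (c a))).2 (by
      rintro _ ⟨z, hz, rfl⟩
      exact Subring.subset_closure ⟨_, hZ.conj_mem z hz a, by simp [c]⟩) hx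
  have h3 : ∀ a b x, c (a * b) x = c a (c b x) := fun a b x => by simp [c, mul_assoc]
  have h4 : ∀ x, c 1 x = x := fun x => by simp [c]
  have h5 : ∀ a (k : K) v, a • k.1 v = c a k (a • v) := fun a k v => by
    change _ = a • k.1 (a⁻¹ • a • v)
    rw [inv_smul_smul]
  have hinj := indep_of_ann K hc (fun a k => ⟨_, h2 a k k.2⟩) h5 hp
  have : NoZeroDivisors K := ⟨fun {a b} h => or_iff_not_imp_right.2 fun hb => by
    obtain ⟨v, hv⟩ := exists_ne (0 : V)
    exact hinj a _ (fun e => hb (hinj b v hv e)) (LinearMap.congr_fun (congrArg Subtype.val h) v)⟩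
  have : IsDomain K := NoZeroDivisors.to_isDomain K
  let := (Finite.isDomain_to_isField K).toField
  let σ : A →* RingAut K :=
    { toFun a :=
        { toFun k := ⟨_, h2 a k k.2⟩
          invFun k := ⟨_, h2 a⁻¹ k k.2⟩
          left_inv k := Subtype.ext (by simp only [← h3, inv_mul_cancel, h4])
          right_inv k := Subtype.ext (by simp only [← h3, mul_inv_cancel, h4])
          map_mul' x y := Subtype.ext ((c a).map_mul _ _)
          map_add' x y := Subtype.ext ((c a).map_add _ _) }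
      map_one' := RingEquiv.ext fun k => Subtype.ext (h4 _)
      map_mul' a b := RingEquiv.ext fun k => Subtype.ext (h3 _ _ _) }
  let j : Z →* K :=
    { toFun z := ⟨ρ z, Subring.subset_closure ⟨z, z.2, rfl⟩⟩
      map_one' := Subtype.ext ρ.map_one
      map_mul' a b := Subtype.ext (ρ.map_mul _ _) }
  refine ⟨K, inferInstance, inferInstance, inferInstance, j, σ, fun _ _ => rfl, h5, fun a =>
    ⟨fun e z hz => ?_, fun ha => RingEquiv.ext fun k => Subtype.ext ?_⟩⟩
  · refine (mul_inv_eq_one.1 (hf _ fun v => ?_))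
    have := h5 a (j ⟨z, hz⟩) ((a * z)⁻¹ • v)
    rw [show c a (j ⟨z, hz⟩) = ρ z from congrArg Subtype.val (RingEquiv.congr_fun e _)] at this
    change a • z • (a * z)⁻¹ • v = z • a • (a * z)⁻¹ • v at this
    rw [mul_smul, mul_smul, ← this, ← mul_smul, smul_inv_smul]
  · change ρ a * k * ρ a⁻¹ = k
    rw [h1 _ (fun z hz => by rw [← map_mul, ← ha z hz, map_mul]) _ k.2, mul_assoc, hi', mul_one]

/-- The numerical data of a primitive group. -/
theorem prim_data [Finite A] [Finite V] [Nontrivial V]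
    (hf : ∀ a : A, (∀ v : V, a • v = v) → a = 1)
    (hp : ∀ U : AddSubgroup V, Indep A U → U = ⊥ ∨ U = ⊤) {Z E : Subgroup A} (h : Str V Z E) :
    ∃ q m : ℕ, Nat.card V = q ^ m ∧ Nat.card Z ∣ q - 1 ∧ Z.relIndex E ≤ m ^ 2 ∧
      (∀ g ∈ centralizer (Z : Set A), ∀ x ∈ centralizer (Z : Set A), ⁅g, x⁆ ∈ Z → ⁅g, x⁆ ^ m = 1) ∧
      ∀ A₀ : Subgroup A, ∃ q₀, 2 ≤ q₀ ∧ q = q₀ ^ (centralizer (Z : Set A)).relIndex A₀ ∧
        ∀ z ∈ Z, (∀ a ∈ A₀, a * z = z * a) → z ^ (q₀ - 1) = 1 := by
  classical
  have := h.Zn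
  obtain ⟨K, _, _, _, j, σ, h1, h2, h3⟩ := exists_semilinear hf hp Z fun a ha b hb => h.ab ha hb
  have hj : Function.Injective j := (injective_iff_map_eq_one j).2 fun z hz =>
    Subtype.ext (hf _ fun v => by rw [← h1, hz, one_smul])
  set C := centralizer (Z : Set A)
  let ρ : C →* End K V :=
    { toFun g :=
        { toFun v := (g : A) • v
          map_add' := smul_add _
          map_smul' k v := by rw [h2, (h3 _).2 g.2]; rfl }
      map_one' := LinearMap.ext fun v => one_smul A v
      map_mul' a b := LinearMap.ext fun v => mul_smul (a : A) b v }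
  have hρ : ∀ (g : C) (hg : (g : A) ∈ Z), ρ g = j ⟨g, hg⟩ • 1 := fun g hg =>
    LinearMap.ext fun v => (h1 ⟨g, hg⟩ v).symm
  have hE : E ≤ C := fun x hx z hz => h.cen z hz x hx
  refine ⟨Nat.card K, finrank K V, Module.natCard_eq_pow_finrank, ?_, ?_, fun g hg x hx hz => ?_,
    fun A₀ => ?_⟩
  · rw [← Nat.card_units]
    exact card_dvd_of_injective j.toHomUnits fun a b e => hj (congrArg Units.val e)
  · let ρ' := ρ.comp (inclusion hE)
    let τ : E →* End K (End K V) :=
      { toFun := fun a => LinearMap.mulLeft K (ρ' a) * LinearMap.mulRight K (ρ' a⁻¹)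
        map_one' := by ext x; simp
        map_mul' := fun a b => by ext x; simp [mul_assoc] }
    have hτ : ∀ a y : E, τ a (ρ' y) = j ⟨_, h.comm a a.2 y y.2⟩ • ρ' y := fun a y => by
      change ρ' a * (ρ' y * ρ' a⁻¹) = _
      have e : ρ' ⁅a, y⁆ = j ⟨_, h.comm a a.2 y y.2⟩ • 1 := hρ _ _
      rw [← smul_one_mul, ← e, ← map_mul, ← map_mul, ← map_mul]
      congr 1
      rw [commutatorElement_def]; group
    have h0 : ∀ y : E, ρ' y ≠ 0 := fun y e => one_ne_zero (α := End K V) (by
      rw [← map_one ρ', ← mul_inv_cancel y, map_mul, e, zero_mul])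
    have := Fintype.ofFinite (E ⧸ Z.subgroupOf E)
    have hw := CL.Wag.card_le_of_weights τ (fun q : E ⧸ Z.subgroupOf E => ρ' q.out)
      (fun q => h0 _) (fun q a => ⟨_, hτ a _⟩) fun q q' hq => by
        rw [← q.out_eq, ← q'.out_eq]
        refine QuotientGroup.eq.2 (h.selfc _ fun y hy => ?_)
        have e1 := (hτ ⟨y, hy⟩ _).symm.trans (hq ⟨y, hy⟩ _ (hτ ⟨y, hy⟩ _))
        have e3 : ⁅y, (q'.out : A)⁆ = ⁅y, (q.out : A)⁆ :=
          congrArg Subtype.val (hj (smul_left_injective K (h0 _) e1))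
        refine commute_of_commutator_eq ?_
        rw [← commutatorElement_inv, ← e3, commutatorElement_inv]
    rwa [← Nat.card_eq_fintype_card, Module.finrank_linearMap, ← sq] at hw
  · let d := ((LinearMap.det : End K V →* K).comp ρ).toHomUnits
    have e1 : d ⁅(⟨g, hg⟩ : C), ⟨x, hx⟩⁆ = 1 := by
      rw [map_commutatorElement, commutatorElement_eq_one_iff_mul_comm, mul_comm]
    have e2 : LinearMap.det (ρ ⁅(⟨g, hg⟩ : C), ⟨x, hx⟩⁆) = 1 := congrArg Units.val e1
    rw [hρ _ hz, LinearMap.det_smul, map_one, mul_one, ← map_pow, ← j.map_one] at e2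
    exact congrArg Subtype.val (hj e2)
  · let Γ := (σ.comp A₀.subtype).range
    have : Finite Γ := Finite.of_surjective _ (σ.comp A₀.subtype).rangeRestrict_surjective
    have := Fintype.ofFinite Γ
    let F := FixedPoints.subfield Γ K
    have := Fintype.ofFinite F
    refine ⟨Nat.card F, Finite.one_lt_card, ?_, fun z hz hc => ?_⟩
    · rw [Module.natCard_eq_pow_finrank (K := F), FixedPoints.finrank_eq_card,
        ← Nat.card_eq_fintype_card, ← index_ker]
      congr 2
      exact Subgroup.ext fun a => h3 a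
    · have hm : j ⟨z, hz⟩ ∈ F := by
        rintro ⟨_, a, rfl⟩
        obtain ⟨v, hv⟩ := exists_ne (0 : V)
        refine smul_left_injective K (show (a : A) • v ≠ 0 by rwa [Ne, smul_eq_zero_iff_eq]) ?_
        change σ a _ • _ = _ • _
        rw [← h2, h1, h1, ← mul_smul, ← mul_smul, hc a a.2]
      have e := FiniteField.pow_card_sub_one_eq_one (⟨_, hm⟩ : F) fun e =>
        (j.toHomUnits ⟨z, hz⟩).ne_zero (congrArg Subtype.val e)
      rw [← Nat.card_eq_fintype_card] at e
      exact congrArg Subtype.val (hj (a₁ := ⟨z, hz⟩ ^ _) (a₂ := 1)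
        (by rw [map_pow, map_one]; exact congrArg Subtype.val e))

/-- Orbits of an imprimitive group. -/
theorem mul_nu_le [Finite A] [Finite V] {U : AddSubgroup V} (h : Indep A U) :
    letI := resAct (stabilizer A U) U (inv_stabilizer U)
    Nat.card (orbit A U) * nu (stabilizer A U) U ≤ nu A V := by
  classical
  let := resAct (stabilizer A U) U (inv_stabilizer U)
  obtain ⟨x, h0, h1, -⟩ := exists_nu (stabilizer A U) U
  have : Finite (orbit A U) := Finite.finite_mulAction_orbit U
  have := Fintype.ofFinite (orbit A U)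
  obtain ⟨g, hg⟩ := exists_reps (A := A) U
  have e := Finite.equivFin (orbit A U)
  let y := fun (p : Fin (Nat.card (orbit A U)) × _) (l : orbit A U) =>
    if e l ≤ p.1 then g l • (x p.2 : V) else 0
  have hm : ∀ p l, y p l ∈ l.1 := fun p l => by
    simp only [y]
    split_ifs
    · exact hg l ▸ AddSubgroup.smul_mem_pointwise_smul _ _ U (x _).2
    · exact zero_mem _
  have hy : ∀ p l, y p l ≠ 0 ↔ e l ≤ p.1 := fun p l => by
    simp only [y]
    split_ifs with c
    · exact iff_of_true (fun e => h0 _ (Subtype.ext ((smul_eq_zero_iff_eq _).1 e))) c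
    · exact iff_of_false (fun e => e rfl) c
  have key : ∀ p p' (a : A), a • ∑ l, y p l = ∑ l, y p' l → ∀ l, a • y p l = y p' (a • l) := by
    intro p p' a ha l
    have := h Finset.univ (fun m => a • y p (a⁻¹ • m) - y p' m)
      (fun m => sub_mem (by
        have := AddSubgroup.smul_mem_pointwise_smul _ a _ (hm p (a⁻¹ • m))
        rwa [show a • (a⁻¹ • m).1 = m.1 from congrArg Subtype.val (smul_inv_smul a m)] at this)
        (hm p' m)) (by
        rw [Finset.sum_sub_distrib, ← ha, Finset.smul_sum, sub_eq_zero]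
        exact Fintype.sum_equiv (MulAction.toPerm a⁻¹) _ _ fun m => rfl) (a • l) (Finset.mem_univ _)
    simpa only [inv_smul_smul, sub_eq_zero] using this
  have := le_nu (A := A) (fun p => ∑ l, y p l) (fun p hp => (hy p (e.symm p.1)).2
    (e.apply_symm_apply _).le
    (h Finset.univ _ (hm p) hp _ (Finset.mem_univ _))) fun p p' a ha => by
      have k := key p p' a ha
      have k1 : ∀ l, e l ≤ p.1 ↔ e (a • l) ≤ p'.1 := fun l => by
        rw [← hy, ← hy, ← k, Ne, Ne, smul_eq_zero_iff_eq]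
      have k2 : (Finset.Iic p.1).card = (Finset.Iic p'.1).card :=
        Finset.card_equiv (e.symm.trans ((MulAction.toPerm a).trans e)) fun i => by
          have := k1 (e.symm i)
          rw [e.apply_symm_apply] at this
          rw [Finset.mem_Iic, Finset.mem_Iic]; exact this
      rw [Fin.card_Iic, Fin.card_Iic] at k2
      refine Prod.ext (Fin.ext (by omega)) ?_
      have k3 := k (e.symm p.1)
      have c : e (e.symm p.1) ≤ p.1 := (e.apply_symm_apply _).le
      simp only [y, if_pos c, if_pos ((k1 _).1 c)] at k3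
      refine h1 _ _ ⟨(g (a • e.symm p.1))⁻¹ * a * g (e.symm p.1), ?_⟩ (Subtype.ext ?_)
      · rw [mem_stabilizer_iff, mul_smul, mul_smul, hg, inv_smul_eq_iff, hg]; rfl
      · change (_ * _ * _) • (x p.2 : V) = _
        rw [mul_smul, mul_smul, k3, inv_smul_smul]
  rwa [Nat.card_prod, Nat.card_eq_fintype_card (α := Fin _), Fintype.card_fin,
    Nat.card_coe_set_eq] at this

end CL.KLow
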