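import Mathlib
import Cfsg.Agent.ORD.KLow2

/-! Lower bounds for class numbers III: orders of small symplectic sections. -/

set_option autoImplicit false

namespace CL.KLow

open MulAction Subgroup Pointwise CL.SolvLin CL.Ord.PC
open scoped commutatorElement

universe u v

section blocks
variable {A V : Type*} [Group A] [AddCommGroup V] [DistribMulAction A V]

theorem eq_of_blocks [Finite A] (hirr : Irr A V) {U : AddSubgroup V} (hU : U ≠ ⊥) {a b : A}
    (h : ∀ l : orbit A U, ∀ w ∈ l.1, a • w = b • w) (v : V) : a • v = b • v := by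
  have : Finite (orbit A U) := Finite.finite_mulAction_orbit U
  have := Fintype.ofFinite (orbit A U)
  obtain ⟨g, hg⟩ := exists_reps (A := A) U
  obtain ⟨y, hy, rfl⟩ := exists_decomp hirr hU (inv_stabilizer U) g hg v
  rw [Finset.smul_sum, Finset.smul_sum]
  exact Finset.sum_congr rfl fun l _ => h l _ (hg l ▸ hy l)

theorem card_block (U : AddSubgroup V) (l : orbit A U) : Nat.card l.1 = Nat.card U := by
  obtain ⟨_, g, rfl⟩ := l
  exact Nat.card_congr (AddSubgroup.equivMapOfInjective U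
    (DistribMulAction.toAddMonoidEnd A V g) (MulAction.injective g)).toEquiv.symm

theorem inv_block (U : AddSubgroup V) (l : orbit A U) : Inv (toPermHom A (orbit A U)).ker l.1 :=
  fun a ha => inv_stabilizer l.1 a (congrArg Subtype.val (DFunLike.congr_fun ha l))

theorem relIndex_fixing_dvd [Finite V] {T : Subgroup A} {U : AddSubgroup V} (h : Inv T U) :
    (fixingSubgroup A (U : Set V)).relIndex T ∣ (Nat.card U - 1).factorial := by
  let X : SubMulAction T V := ⟨(U : Set V) \ {0}, fun t x hx =>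
    ⟨h t t.2 x hx.1, fun e => hx.2 ((smul_eq_zero_iff_eq _).1 e)⟩⟩
  have h1 : Nat.card X = Nat.card U - 1 := by
    change Nat.card ((U : Set V) \ {0} : Set V) = _
    rw [Nat.card_coe_set_eq, Set.ncard_diff_singleton_of_mem U.zero_mem]; rfl
  have h2 : (fixingSubgroup A (U : Set V)).subgroupOf T = (toPermHom T X).ker := by
    ext t
    refine (mem_fixingSubgroup_iff A).trans ⟨fun k => Equiv.ext fun x => Subtype.ext (k _ x.2.1),
      fun k w hw => ?_⟩
    by_cases e : w = 0
    · rw [e, smul_zero]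
    · exact congrArg Subtype.val (DFunLike.congr_fun k ⟨w, hw, e⟩)
  rw [relIndex, h2, index_ker, ← h1, ← Nat.card_perm]
  exact card_subgroup_dvd_card _

theorem card_le_of_indep [Finite A] [Finite V] (hf : ∀ a : A, (∀ v : V, a • v = v) → a = 1)
    (hirr : Irr A V) {U : AddSubgroup V} (hU : U ≠ ⊥) : Nat.card A ≤
      (Nat.card (orbit A U)).factorial * (Nat.card U - 1).factorial ^ Nat.card (orbit A U) := by
  have : Finite (orbit A U) := Finite.finite_mulAction_orbit U
  have := Fintype.ofFinite (orbit A U)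
  rw [← (toPermHom A (orbit A U)).ker.index_mul_card]
  refine Nat.mul_le_mul (index_ker_le_factorial _ _) ?_
  have h1 : ⨅ l : orbit A U, fixingSubgroup A (l.1 : Set V) = ⊥ :=
    (eq_bot_iff_forall _).2 fun a ha => hf a fun v => (eq_of_blocks hirr hU (b := 1) (fun l w hw =>
      ((mem_fixingSubgroup_iff A).1 (mem_iInf.1 ha l) w hw).trans (one_smul _ _).symm) v).trans
      (one_smul _ _)
  rw [← relIndex_bot_left, ← h1]
  rw [Nat.card_eq_fintype_card (α := orbit A U)]
  refine (relIndex_iInf_le _).trans (Finset.prod_le_pow_card _ _ _ fun l _ => ?_)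
  rw [← card_block U l]
  exact Nat.le_of_dvd (Nat.factorial_pos _) (relIndex_fixing_dvd (inv_block U l))

end blocks

section form
variable {S W : Type u} {L : Type*} [Field L] [Group S] [AddCommGroup W] [DistribMulAction S W]
  [Finite S] [Finite W] {B : W → W → L} (h : Form B)
  (hinv : ∀ (a : S) x y, B (a • x) (a • y) = B x y) (hf : ∀ a : S, (∀ v : W, a • v = v) → a = 1)

omit [Finite S] in
theorem ncard_ne_zero : ({w | w ≠ 0} : Set W).ncard = Nat.card W - 1 := by
  rw [← Set.ncard_univ, ← Set.ncard_diff_singleton_of_mem (Set.mem_univ (0 : W))]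
  congr 1
  ext; simp

theorem card_le_stab (v : W) (hv : v ≠ 0) : Nat.card S ≤ (Nat.card W - 1) *
    Nat.card (fixingSubgroup S (AddSubgroup.zmultiples v : Set W)) := by
  have a1 := card_le_mul_stab (⊤ : Subgroup S) v {w | w ≠ 0} fun t _ e =>
    hv ((smul_eq_zero_iff_eq _).1 e)
  rw [card_top, ncard_ne_zero] at a1
  exact a1.trans (Nat.mul_le_mul_left _ (card_le_of_le fun t ht => (mem_fixingSubgroup_iff S).2
    fun w hw => (AddSubgroup.zmultiples_le.2 (show v ∈ fix W t from ht.2) hw :)))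

include h hinv hf

theorem card_le_cube {e : ℕ} (he : 1 < e) (hW : Nat.card W = e ^ 2)
    (hc : ∀ (X : Type u) [AddCommGroup X] [Finite X], e ∣ Nat.card X → ∃ x : X, addOrderOf x = e) :
    Nat.card S ≤ (e ^ 2 - 1) * e := by
  obtain ⟨v, hv⟩ := hc W (hW ▸ dvd_pow_self e two_ne_zero)
  set U := AddSubgroup.zmultiples v
  have h1 : Nat.card U = e := by rw [Nat.card_zmultiples, hv]
  have h2 : Nat.card (h.perp U) = e := Nat.eq_of_mul_eq_mul_left (by omega : 0 < e) (by
    rw [← sq, ← hW, ← h.card_mul_perp U, h1])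
  have h3 : Nat.card (W ⧸ U) = e := Nat.eq_of_mul_eq_mul_right (by omega : 0 < e) (by
    rw [← sq, ← hW, AddSubgroup.card_eq_card_quotient_mul_card_addSubgroup U, h1])
  obtain ⟨w, hw⟩ := hc (W ⧸ U) h3.symm.dvd
  obtain ⟨w, rfl⟩ := QuotientAddGroup.mk_surjective w
  have h4 : U ⊔ AddSubgroup.zmultiples w = ⊤ := (AddSubgroup.eq_top_iff' _).2 fun x => by
    obtain ⟨n, hn⟩ : (x : W ⧸ U) ∈ AddSubgroup.zmultiples (w : W ⧸ U) := by
      rw [AddSubgroup.eq_top_of_card_eq (AddSubgroup.zmultiples (w : W ⧸ U))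
        (by rw [Nat.card_zmultiples, hw, h3])]; trivial
    have : -(n • w) + x ∈ U := QuotientAddGroup.eq.1 hn
    rw [← add_neg_cancel_left (n • w) x]
    exact add_mem (AddSubgroup.mem_sup_right ⟨n, rfl⟩) (AddSubgroup.mem_sup_left this)
  refine (card_le_stab v fun e => by rw [e, addOrderOf_zero] at hv; omega).trans ?_
  rw [hW]
  refine Nat.mul_le_mul_left _ ((h.card_le_mul_stab hinv _ U le_rfl w).trans ?_)
  rw [h2]
  refine (Nat.mul_le_mul_left _ (card_le_of_le (inf_stab_le_fixing U w))).trans ?_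
  rw [h4, fixing_top hf, mul_one]

theorem card_le_sixteen (hW : Nat.card W = 16) : Nat.card S ≤ 960 := by
  have : Nontrivial W := Finite.one_lt_card_iff_nontrivial.1 (by omega)
  obtain ⟨v, hv⟩ := exists_ne (0 : W)
  have a6 : 2 ≤ Nat.card (AddSubgroup.zmultiples v) :=
    (AddSubgroup.one_lt_card_iff_ne_bot _).2 (by simpa using hv)
  have := h.card_fixing_le hf hinv Nat.prime_two (k := 4) hW 3 (AddSubgroup.zmultiples v) (by omega)
  have h2 := card_le_stab (S := S) v hv
  simp only [Finset.prod_range_succ, Finset.prod_range_zero] at this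
  rw [hW] at h2
  omega

omit hf [Finite S] in
theorem compl_perp {U : AddSubgroup W} (hU : ∀ a : S, ∀ v ∈ U, a • v ∈ U)
    (hnd : ∀ x ∈ U, (∀ y ∈ U, B x y = 1) → x = 0) :
    (∀ a : S, ∀ v ∈ h.perp U, a • v ∈ h.perp U) ∧ U ⊓ h.perp U = ⊥ ∧ U ⊔ h.perp U = ⊤ := by
  have h8 : U ⊓ h.perp U = ⊥ := (AddSubgroup.eq_bot_iff_forall _).2 fun x hx =>
    hnd x hx.1 fun y hy => h.symm (hx.2 y hy)
  refine ⟨fun a v hv u hu => ?_, h8, AddSubgroup.eq_top_of_le_card _ ?_⟩
  · rw [← hinv a⁻¹, inv_smul_smul]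
    exact hv _ (hU _ _ hu)
  rw [← h.card_mul_perp U, ← Nat.card_prod]
  refine Nat.card_le_card_of_injective (fun p => ⟨p.1 + p.2, AddSubgroup.add_mem_sup p.1.2 p.2.2⟩)
    fun p p' e => ?_
  have e : (p.1 : W) + p.2 = p'.1 + p'.2 := congrArg Subtype.val e
  have h9 : (p.1 : W) - p'.1 ∈ U ⊓ h.perp U := AddSubgroup.mem_inf.2 ⟨sub_mem p.1.2 p'.1.2, by
    rw [show (p.1 : W) - p'.1 = p'.2 - p.2 by rw [sub_eq_sub_iff_add_eq_add, e, add_comm]]
    exact sub_mem p'.2.2 p.2.2⟩
  rw [h8, AddSubgroup.mem_bot, sub_eq_zero] at h9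
  rw [h9] at e
  exact Prod.ext (Subtype.ext h9) (Subtype.ext (add_left_cancel e))

theorem card_le_seventy_two [Group.IsSolvable S] (hW : Nat.card W = 16)
    (hnd : ∀ U : AddSubgroup W, (∀ a : S, ∀ v ∈ U, a • v ∈ U) →
      ∀ x ∈ U, (∀ y ∈ U, B x y = 1) → x = 0) : Nat.card S ≤ 72 := by
  by_cases hirr : Irr S W
  · by_cases hp : Prim S W
    · obtain ⟨v, hv⟩ := exists_prime_addOrderOf_dvd_card' (G := W) 2 (by rw [hW]; norm_num)
      have h2 := (hirr (nsmulAddMonoidHom (α := W) 2).ker fun a w hw => by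
        change 2 • a • w = 0
        rw [smul_comm, show 2 • w = 0 from hw, smul_zero]).resolve_left fun e => by
          have := (AddSubgroup.eq_bot_iff_forall _).1 e v (hv ▸ addOrderOf_nsmul_eq_zero v)
          rw [this, addOrderOf_zero] at hv
          omega
      exact ((h.card_le_of_prim hinv (fun w => (h2 ▸ trivial : w ∈ (nsmulAddMonoidHom 2).ker))
        hp).1 hW).trans (by norm_num)
    obtain ⟨U, h1, h3, h4⟩ := exists_indep hf hp
    have h5 := two_le_orbit hirr h1 h3
    have h6 := h4.pow_le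
    have h7 := U.card_addSubgroup_dvd_card
    have h8 : 2 ≤ Nat.card U := (AddSubgroup.one_lt_card_iff_ne_bot _).2 h1
    have h9 := card_le_of_indep hf hirr h1
    rw [hW] at h6 h7
    generalize Nat.card U = u at *
    generalize Nat.card (orbit S U) = t at *
    have : u ≤ 4 := by
      by_contra
      have : 5 ^ 2 ≤ u ^ t := (Nat.pow_le_pow_left (by omega) 2).trans
        (Nat.pow_le_pow_right (by omega) h5)
      omega
    have : t ≤ 4 := by
      by_contra
      have : 2 ^ 5 ≤ u ^ t := (Nat.pow_le_pow_left h8 5).trans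
        (Nat.pow_le_pow_right (by omega) (by omega))
      omega
    interval_cases u <;> interval_cases t <;> simp [Nat.factorial] at h6 h7 h9 <;> omega
  simp only [Irr, not_forall, not_or] at hirr
  obtain ⟨U, hU, h1, h2⟩ := hirr
  obtain ⟨k1, k2, k3⟩ := compl_perp h hinv hU (hnd U hU)
  obtain ⟨d, hd⟩ := (h.res (hnd U hU)).exists_sq
  have h3 := h.card_mul_perp U
  have h4 : 2 ≤ Nat.card U := (AddSubgroup.one_lt_card_iff_ne_bot _).2 h1
  have h5 : Nat.card U < Nat.card W := lt_of_le_of_ne U.card_le_card_addGroup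
    fun e => h2 (AddSubgroup.eq_top_of_card_eq U e)
  have h6 : Nat.card U = 4 ∧ Nat.card (h.perp U) = 4 := by
    have : d < 4 := by nlinarith
    rw [hd, hW] at h3
    interval_cases d <;> omega
  have h7 : fixingSubgroup S (U : Set W) ⊓ fixingSubgroup S (h.perp U : Set W) = ⊥ :=
    (eq_bot_iff_forall _).2 fun a ha => hf a fun w => by
      obtain ⟨u, hu, v, hv, rfl⟩ := AddSubgroup.mem_sup.1 (k3 ▸ trivial : w ∈ U ⊔ h.perp U)
      rw [smul_add, (mem_fixingSubgroup_iff S).1 ha.1 u hu, (mem_fixingSubgroup_iff S).1 ha.2 v hv]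
  have a1 := Nat.le_of_dvd (Nat.factorial_pos _) (relIndex_fixing_dvd (T := ⊤) fun a _ => hU a)
  have a2 := Nat.le_of_dvd (Nat.factorial_pos _) (relIndex_fixing_dvd (T := ⊤) fun a _ => k1 a)
  rw [h6.1] at a1
  rw [h6.2] at a2
  rw [← card_top, ← relIndex_bot_left, ← h7]
  exact relIndex_inf_le.trans ((Nat.mul_le_mul a1 a2).trans (by decide))

end form

theorem exists_order_six (X : Type u) [AddCommGroup X] [Finite X] (h : 6 ∣ Nat.card X) :
    ∃ x : X, addOrderOf x = 6 := by
  obtain ⟨x, hx⟩ := exists_prime_addOrderOf_dvd_card' (G := X) 2 (Dvd.dvd.trans (by norm_num) h)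
  obtain ⟨y, hy⟩ := exists_prime_addOrderOf_dvd_card' (G := X) 3 (Dvd.dvd.trans (by norm_num) h)
  exact ⟨x + y, by
    rw [(AddCommute.all x y).addOrderOf_add_eq_mul_addOrderOf_of_coprime (by rw [hx, hy]; norm_num),
      hx, hy]⟩

theorem str_bounds {A : Type u} {V : Type*} [Group A] [AddCommGroup V] [DistribMulAction A V]
    [Finite A] [Finite V] [Nontrivial V] [Group.IsSolvable A] {Z E : Subgroup A} (h : Str V Z E)
    {e d : ℕ} (he : Z.relIndex E = e ^ 2) (hd : E.relIndex (centralizer (Z : Set A)) = d) :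
    d ≤ e ^ 6 ∧ (e.Prime ∨ e = 6 → d ≤ (e ^ 2 - 1) * e) ∧ (e = 2 → d ∣ 6) ∧ (e = 4 → d ≤ 960) ∧
      (centralizer (Z : Set A) = ⊤ → (e = 4 → d ≤ 72) ∧ (2 ≤ e → 2 * d ≤ e ^ 6)) := by
  refine ⟨?_, ?_⟩
  · obtain ⟨W, _, _, Y, _, _, f, B, hf, hW, hfa, hcr, hH, -⟩ := h.section
    have := Finite.of_surjective f hf
    have := Group.isSolvable_of_surjective hf
    have := (hasBase_three hcr).card_le hfa
    rw [hW, he, Nat.card_eq_fintype_card (α := Fin 3), Fintype.card_fin, ← pow_mul] at this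
    rw [← hd, ← hH]
    exact (card_le_card_group _).trans this
  have := h.field.1
  obtain ⟨j, hj⟩ := exists_hom_complex Z
  obtain ⟨W, _, _, _, B, hW, hB, hnd, hker, hinv⟩ := str_section h j hj
  set C := centralizer (Z : Set A)
  have : Finite (Img C W) := Finite.of_surjective _ toImg_surj
  have := Group.isSolvable_of_surjective (toImg_surj (A := C) (V := W))
  have h1 : Nat.card (Img C W) = d := by
    rw [← index_ker, ← hd]
    congr 1
    exact Subgroup.ext fun g => ⟨fun k => (hker g g.2).1 fun w => LinearEquiv.congr_fun k w,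
      fun k => LinearEquiv.ext ((hker g g.2).2 k)⟩
  have h2 : ∀ (a : Img C W) x y, B (a • x) (a • y) = B x y := fun a => by
    obtain ⟨c, rfl⟩ := toImg_surj a
    exact hinv c c.2
  rw [he] at hW
  rw [← h1]
  refine ⟨?_, ?_, ?_, fun hC => ?_⟩
  · rintro (k | rfl)
    · have := Fact.mk k
      exact card_le_cube hB h2 img_faithful k.one_lt hW fun X _ _ =>
        exists_prime_addOrderOf_dvd_card' e
    · exact card_le_cube hB h2 img_faithful (by norm_num) hW exists_order_six
  · rintro rfl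
    have := relIndex_fixing_dvd (A := Img C W) (V := W) (T := ⊤) (U := ⊤) fun _ _ _ _ => trivial
    rwa [eq_bot_of_card_eq _ (fixing_top img_faithful), relIndex_bot_left, card_top,
      AddSubgroup.card_top, hW] at this
  · rintro rfl
    exact card_le_sixteen hB h2 img_faithful hW
  have h3 : ∀ U : AddSubgroup W, (∀ a : Img C W, ∀ v ∈ U, a • v ∈ U) →
      ∀ x ∈ U, (∀ y ∈ U, B x y = 1) → x = 0 := fun U hU =>
    hnd U fun a => hU (toImg W (⟨a, hC ▸ trivial⟩ : C))
  refine ⟨?_, fun k => ?_⟩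
  · rintro rfl
    exact card_le_seventy_two hB h2 img_faithful hW h3
  · have : Nontrivial W := Finite.one_lt_card_iff_nontrivial.1 (by nlinarith)
    have := hB.two_mul_card_le h2 img_faithful fun U hU => ⟨_, compl_perp hB h2 hU (h3 U hU)⟩
    rwa [hW, ← pow_mul] at this

end CL.KLow
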