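import Mathlib
import Cfsg.Agent.ORD.KLow3
import Cfsg.Agent.S1012

/-! Lower bounds for class numbers IV: classes plus orbits of a solvable linear group. -/

set_option autoImplicit false

namespace CL.KLow

open MulAction Subgroup Pointwise CL.SolvLin CL.Ord.PC
open scoped commutatorElement

universe u v

section central
variable {G : Type*} [Group G] [Finite G] {Z : Subgroup G} [Z.Normal] [IsCyclic Z]
  (hZ : ∀ z ∈ Z, ∀ g, g * z = z * g) {m : ℕ} (hm : 0 < m) (h : ∀ g x : G, ⁅g, x⁆ ∈ Z → ⁅g, x⁆ ^ m = 1)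
include hZ hm h

theorem mul_le_k' {ι : Type} [Fintype ι] (x : ι → G)
    (h1 : ∀ i j, IsConj (x i : G ⧸ Z) (x j) → i = j) (h2 : ∀ i (g : G), ⁅g, x i⁆ ∈ Z → ⁅g, x i⁆ = 1) :
    Nat.card Z * (Nat.card (ConjClasses (G ⧸ Z)) + (m - 1) * Fintype.card ι) ≤
      m * Nat.card (ConjClasses G) := by
  have := mul_le_k Z hZ hm h (Set.range fun i => ConjClasses.mk (x i : G ⧸ Z)) (by
    rintro _ ⟨i, rfl⟩
    exact ⟨x i, rfl, h2 i⟩)
  rwa [Set.ncard_range_of_injective fun i j e => h1 i j (ConjClasses.mk_eq_mk_iff_isConj.1 e),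
    Nat.card_eq_fintype_card (α := ι)] at this

theorem mul_le_k_one : Nat.card Z * (Nat.card (ConjClasses (G ⧸ Z)) + (m - 1)) ≤
    m * Nat.card (ConjClasses G) := by
  simpa using mul_le_k' hZ hm h (fun _ : Unit => 1) (fun _ _ _ => rfl) (by simp)

theorem mul_le_k_two {r : ℕ} (hr : r.Prime) (h1 : r ∣ Z.index) (h2 : r.Coprime m) :
    Nat.card Z * (Nat.card (ConjClasses (G ⧸ Z)) + (m - 1) * 2) ≤ m * Nat.card (ConjClasses G) := by
  have := Fact.mk hr
  obtain ⟨y, hy⟩ := exists_prime_orderOf_dvd_card' (G := G ⧸ Z) r h1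
  obtain ⟨x, rfl⟩ := QuotientGroup.mk_surjective y
  have h3 : x ∉ Z := fun e => hr.ne_one (by
    rw [← hy, (QuotientGroup.eq_one_iff _).2 e, orderOf_one])
  have h4 : x ^ r ∈ Z := (QuotientGroup.eq_one_iff _).1 (by
    rw [QuotientGroup.mk_pow, ← hy, pow_orderOf_eq_one])
  refine mul_le_k' hZ hm h ![1, x] (by
    simpa [Fin.forall_fin_two, h3] using fun e => h3 ((QuotientGroup.eq_one_iff _).1 e.symm)) ?_
  simp only [Fin.forall_fin_two, Matrix.cons_val_zero, Matrix.cons_val_one,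
    commutatorElement_one_right, implies_true, true_and]
  intro g hg
  have e1 : g * x * g⁻¹ = ⁅g, x⁆ * x := by rw [commutatorElement_def, inv_mul_cancel_right]
  have e2 : ⁅g, x⁆ ^ r * x ^ r = x ^ r := by
    rw [← Commute.mul_pow (hZ _ hg x).symm, ← e1, conj_pow, hZ _ h4, mul_inv_cancel_right]
  exact (pow_eq_one_iff_of_coprime h2).1 ⟨mul_eq_right.1 e2, h g x hg⟩

theorem mul_le_k_sym (φ : (G ⧸ Z) ≃* Equiv.Perm (Fin 4)) :
    Nat.card Z * (5 + (m - 1) * 3) ≤ m * Nat.card (ConjClasses G) := by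
  let s : Fin 5 → Equiv.Perm (Fin 4) := ![1, Equiv.swap 0 1 * Equiv.swap 1 2,
    Equiv.swap 0 1 * Equiv.swap 1 2 * Equiv.swap 2 3, Equiv.swap 0 1, Equiv.swap 0 1 * Equiv.swap 2 3]
  have h1 : ∀ i j, (∃ c, c * s i * c⁻¹ = s j) → i = j := by decide +kernel
  have h2 : ∀ i : Fin 3, s (i.castLE (by norm_num)) = 1 ∨ ∀ y, ⁅y, s (i.castLE (by norm_num))⁆ = 1 →
      ∃ n : Fin 4, s (i.castLE (by norm_num)) ^ n.1 = y := by decide +kernel
  choose x hx using fun i => QuotientGroup.mk_surjective (φ.symm (s i))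
  have h3 : ∀ i, φ (x i) = s i := fun i => by rw [hx, MulEquiv.apply_symm_apply]
  have h4 : ∀ i j, IsConj (x i : G ⧸ Z) (x j) → i = j := fun i j e =>
    h1 i j (isConj_iff.1 (by rw [← h3, ← h3]; exact φ.toMonoidHom.map_isConj e))
  have h5 : 5 ≤ Nat.card (ConjClasses (G ⧸ Z)) := by
    simpa using Nat.card_le_card_of_injective (fun i => ConjClasses.mk (x i : G ⧸ Z))
      fun i j e => h4 i j (ConjClasses.mk_eq_mk_iff_isConj.1 e)
  refine le_trans (Nat.mul_le_mul_left _ (Nat.add_le_add_right h5 _)) (mul_le_k' hZ hm h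
    (fun i : Fin 3 => x (i.castLE (by norm_num))) (fun i j e => Fin.castLE_injective _ (h4 _ _ e))
    fun i g hg => commutatorElement_eq_one_iff_mul_comm.2 ?_)
  rcases h2 i with e | e
  · exact hZ _ ((QuotientGroup.eq_one_iff _).1 (φ.injective (by rw [h3, e, map_one]))) g
  · obtain ⟨n, hn⟩ := e (φ g) (by
      rw [← h3, ← map_commutatorElement, ← φ.map_one]
      exact congrArg φ ((QuotientGroup.eq_one_iff _).2 hg))
    rw [← h3, ← map_pow, ← QuotientGroup.mk_pow] at hn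
    have := hZ _ (QuotientGroup.eq.1 (φ.injective hn)) (x (i.castLE (by norm_num)))
    generalize x (i.castLE (by norm_num)) = y at this ⊢
    calc g * y = y ^ n.1 * ((y ^ n.1)⁻¹ * g * y) := by group
      _ = y * g := by rw [← this]; group

end central

theorem orderOf_ne_six {G : Type*} [Group G] (N : Subgroup G) [N.Normal] (hN : Nat.card N = 4)
    (h : ∀ g, (∀ n ∈ N, g * n * g⁻¹ = n) → g ∈ N) (x : G) : orderOf x ≠ 6 := fun hx => by
  have : Finite N := Nat.finite_of_card_ne_zero (by omega)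
  let e := Finite.equivFinOfCardEq hN
  let F : G →* Equiv.Perm (Fin 4) :=
    e.permCongrHom.toMonoidHom.comp ((MulAut.toPerm N).comp MulAut.conjNormal)
  have h1 : ∀ g (n : N), F g (e n) = e (MulAut.conjNormal g n) := fun g n => by
    simp [F]
    rfl
  have h2 : ∀ g, F g = 1 → g ∈ N := fun g hg => h g fun n hn =>
    congrArg Subtype.val (e.injective (a₂ := ⟨n, hn⟩) ((h1 g ⟨n, hn⟩).symm.trans (by rw [hg]; rfl)))
  have h3 : ∀ (τ : Equiv.Perm (Fin 4)) a, τ a = a →
      τ ^ 2 = 1 ∨ (τ ^ 3 = 1 ∧ ∀ b, τ b = b → b = a) := by decide +kernel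
  rcases h3 (F x) (e 1) (by rw [h1, map_one]) with k | ⟨k, k'⟩ <;> rw [← map_pow] at k
  · have := orderOf_dvd_natCard (⟨_, h2 _ k⟩ : N)
    rw [hN, orderOf_mk, orderOf_pow' _ two_ne_zero, hx] at this
    exact absurd this (by norm_num)
  · have := e.injective (k' (e ⟨_, h2 _ k⟩) (by
      rw [h1]; exact congrArg e (Subtype.ext (by simp [pow_succ, mul_assoc]))))
    have := orderOf_dvd_of_pow_eq_one (congrArg Subtype.val this : x ^ 3 = 1)
    rw [hx] at this
    exact absurd this (by norm_num)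

/-! ### Numerical lemmas -/

theorem amgm {T k ν : ℕ} (h : T ^ 2 < 4 * (k * ν)) {J : ℕ} (hJ : 1 ≤ J) : J * T < k + J ^ 2 * ν := by
  refine lt_of_pow_lt_pow_left₀ 2 (Nat.zero_le _) ?_
  have h1 : J ^ 2 * T ^ 2 < J ^ 2 * (4 * (k * ν)) := Nat.mul_lt_mul_of_pos_left h (by positivity)
  zify at *
  nlinarith [sq_nonneg ((k : ℤ) - J ^ 2 * ν)]

theorem crit {p T N X a b : ℕ} (hT : 60 * T < 49 * p) (hN : 121 ≤ N) (hb : 0 < b)
    (h : b * N ≤ b + a * X) (h' : 2401 * p ^ 2 * a ≤ 14280 * b * N) : T ^ 2 < 4 * X := by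
  have h1 : (60 * T) ^ 2 < (49 * p) ^ 2 := Nat.pow_lt_pow_left hT two_ne_zero
  have h2 : 121 * b ≤ b * N := by rw [mul_comm]; exact Nat.mul_le_mul_left _ hN
  by_contra hc
  have h3 : a * (4 * X) ≤ a * T ^ 2 := Nat.mul_le_mul_left _ (by omega)
  rcases Nat.eq_zero_or_pos a with rfl | ha
  · omega
  have h4 : a * (60 * T) ^ 2 < a * (49 * p) ^ 2 := Nat.mul_lt_mul_of_pos_left h1 ha
  nlinarith

theorem tight_aux {p T : ℕ} (hp : 11 ≤ p + 1) (hT : 60 * T < 49 * (p + 1)) (n : ℕ) (hn : 1 ≤ n) :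
    24 * (n * T) < 96 * p + n ^ 2 * (p + 2) := by
  by_cases h : n ≤ 10
  · by_cases h' : p ≤ 18
    · have : 10 ≤ p := by omega
      interval_cases n <;> interval_cases p <;> omega
    · interval_cases n <;> omega
  · obtain ⟨n, rfl⟩ : ∃ n', n = n' + 11 := ⟨n - 11, by omega⟩
    have := Nat.mul_le_mul_left n hT.le
    nlinarith [Nat.zero_le (n * p), Nat.zero_le (n ^ 2 * p)]

theorem tight {p T z k ν : ℕ} (hp : 11 ≤ p) (hT : 60 * T < 49 * p) (hz : z ∣ p - 1) (hk : 4 * z ≤ k)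
    (hν : p ^ 2 ≤ 1 + ν * (z * 24)) {J : ℕ} (hJ : 1 ≤ J) : J * T < k + J ^ 2 * ν := by
  obtain ⟨j, hj⟩ := hz
  obtain ⟨p, rfl⟩ : ∃ p', p = p' + 1 := ⟨p - 1, by omega⟩
  rw [Nat.add_sub_cancel] at hj
  have hz : 0 < z := Nat.pos_of_ne_zero (by rintro rfl; omega)
  have hj0 : 0 < j := Nat.pos_of_ne_zero (by rintro rfl; omega)
  have h1 : j * (p + 2) ≤ 24 * ν := Nat.le_of_mul_le_mul_left (by nlinarith) hz
  have h3 := tight_aux hp hT (j * J) (Nat.mul_pos hj0 hJ)
  refine Nat.lt_of_mul_lt_mul_left (a := 24 * j) ?_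
  have h4 := Nat.mul_le_mul_left (j * J ^ 2) h1
  have h5 := Nat.mul_le_mul_left (24 * j) hk
  nlinarith

theorem pow_eight_le (e : ℕ) (he : 3 ≤ e) : e ^ 8 ≤ 121 ^ (e - 1) := by
  induction e, he using Nat.le_induction with
  | base => norm_num
  | succ n hn ih =>
    obtain ⟨m, rfl⟩ : ∃ m, n = m + 1 := ⟨n - 1, by omega⟩
    simp only [Nat.add_sub_cancel] at ih ⊢
    have h2 := Nat.pow_le_pow_left (show 3 * (m + 1 + 1) ≤ 4 * (m + 1) by omega) 8
    rw [mul_pow, mul_pow] at h2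
    rw [pow_succ 121 m]
    omega

theorem pow_eight_le' (e : ℕ) (he : 8 ≤ e) : 2401 * e ^ 8 ≤ 28560 * 11 ^ (e - 2) := by
  induction e, he using Nat.le_induction with
  | base => norm_num
  | succ n hn ih =>
    obtain ⟨m, rfl⟩ : ∃ m, n = m + 2 := ⟨n - 2, by omega⟩
    simp only [Nat.add_sub_cancel, show m + 2 + 1 - 2 = m + 1 by omega] at ih ⊢
    have h2 := Nat.pow_le_pow_left (show 8 * (m + 2 + 1) ≤ 9 * (m + 2) by omega) 8
    rw [mul_pow, mul_pow] at h2
    rw [pow_succ 11 m]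
    omega

theorem sq_le_pow (j : ℕ) : (j + 2) ^ 2 ≤ 4 * 11 ^ j := by
  induction j with
  | zero => norm_num
  | succ n ih => rw [pow_succ 11 n]; nlinarith [Nat.zero_le n]

/-! ### The main inequality -/

variable {A V : Type u} [Group A] [AddCommGroup V] [DistribMulAction A V] [Finite A] [Finite V]

theorem card_le_of_normal_abelian (Z : Subgroup A) (h : ∀ a ∈ Z, ∀ b ∈ Z, a * b = b * a) :
    Nat.card V ≤ 1 + (centralizer (Z : Set A)).index ^ 2 * Z.relIndex (centralizer (Z : Set A)) *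
      (Nat.card (ConjClasses A) * nu A V) := by
  have hle : Z ≤ centralizer (Z : Set A) := fun a ha b hb => h b hb a ha
  have h1 := card_le_k (Z.subgroupOf (centralizer (Z : Set A))) fun z hz g =>
    Subtype.ext (g.2 z hz).symm
  rw [Nat.card_congr (subgroupOfEquivOfLe hle).toEquiv] at h1
  have h2 := h1.trans (Cfsg.Agent.S4200.result _).1
  refine (card_le_nu (A := A)).trans (Nat.add_le_add_left ?_ _)
  rw [← Z.card_mul_index, ← relIndex_mul_index hle]
  exact (Nat.mul_le_mul_left _ (Nat.mul_le_mul_right _ h2)).trans_eq (by ring)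

theorem prim_of_indep (hf : ∀ a : A, (∀ v : V, a • v = v) → a = 1)
    (hp : ∀ U : AddSubgroup V, Indep A U → U = ⊥ ∨ U = ⊤) : Prim A V := by
  by_contra h
  obtain ⟨U, h1, h2, h3⟩ := exists_indep hf h
  exact (hp U h3).elim h1 h2

theorem phi_prim [Group.IsSolvable A] (hf : ∀ a : A, (∀ v : V, a • v = v) → a = 1)
    (hp : ∀ U : AddSubgroup V, Indep A U → U = ⊥ ∨ U = ⊤) {p a T : ℕ} (hpp : p.Prime) (h11 : 11 ≤ p)
    (hV : Nat.card V = p ^ a) (ha : 2 ≤ a) (hT : 60 * T < 49 * p) {J : ℕ} (hJ : 1 ≤ J) :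
    J * T < Nat.card (ConjClasses A) + J ^ 2 * nu A V := by
  have h121 : 121 ≤ Nat.card V := hV ▸ (Nat.pow_le_pow_left h11 2).trans
    (Nat.pow_le_pow_right hpp.pos ha)
  have : Nontrivial V := Finite.one_lt_card_iff_nontrivial.1 (by omega)
  obtain ⟨Z, E, h⟩ := exists_str (prim_of_indep hf hp)
  obtain ⟨q, m, h1, h2, h3, h4, h5⟩ := prim_data hf hp h
  obtain ⟨q₀, h6, h7, -⟩ := h5 ⊤
  obtain ⟨e, he⟩ := h.exists_sq
  obtain ⟨b1, b2, b3, b4, b5⟩ := str_bounds h he rfl
  have hEC : E ≤ centralizer (Z : Set A) := fun x hx z hz => h.cen z hz x hx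
  have hh := relIndex_mul_relIndex Z E _ h.le hEC
  have hc := card_le_of_normal_abelian (V := V) Z fun a ha b hb => h.ab ha hb
  rw [relIndex_top_right] at h7
  rw [he] at hh h3
  have hem : e ≤ m := (Nat.pow_le_pow_iff_left two_ne_zero).1 h3
  have he0 : 1 ≤ e := Nat.pos_of_ne_zero fun e0 =>
    (FiniteIndex.index_ne_zero : Z.relIndex E ≠ 0) (he.trans (by rw [e0]; rfl))
  have hj0 : 1 ≤ (centralizer (Z : Set A)).index := Nat.pos_of_ne_zero FiniteIndex.index_ne_zero
  have hd0 : 1 ≤ E.relIndex (centralizer (Z : Set A)) :=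
    Nat.pos_of_ne_zero FiniteIndex.index_ne_zero
  obtain ⟨i, -, rfl⟩ := (Nat.dvd_prime_pow hpp).1 (show q₀ ∣ p ^ a by
    rw [← hV, h1, h7, ← pow_mul]; exact dvd_pow_self _ (Nat.mul_ne_zero (by omega) (by omega)))
  have hi : 1 ≤ i := Nat.pos_of_ne_zero (by rintro rfl; simp at h6)
  rw [← hh] at hc
  generalize hd : E.relIndex (centralizer (Z : Set A)) = d at *
  by_cases hij : 2 ≤ i * (centralizer (Z : Set A)).index
  · refine amgm (crit (b := 1) hT h121 one_pos (by rwa [one_mul]) ?_) hJ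
    generalize (centralizer (Z : Set A)).index = j at *
    have k1 : e ^ 2 * d ≤ 121 ^ (m - 1) := by
      refine le_trans ?_ (Nat.pow_le_pow_right (by norm_num) (Nat.sub_le_sub_right hem 1))
      by_cases c : 3 ≤ e
      · exact le_trans ((Nat.mul_le_mul_left _ b1).trans_eq (by ring)) (pow_eight_le e c)
      · interval_cases e
        · simpa using b1
        · have := Nat.le_of_dvd (by norm_num) (b3 rfl)
          omega
    have k2 : p ^ (2 * m) * j ^ 2 ≤ 4 * Nat.card V := by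
      rw [h1, h7, ← pow_mul, ← pow_mul]
      by_cases c : j ≤ 2
      · rw [mul_comm]
        exact Nat.mul_le_mul (by nlinarith) (Nat.pow_le_pow_right hpp.pos (by nlinarith))
      · obtain ⟨j, rfl⟩ : ∃ j', j = j' + 2 := ⟨j - 2, by omega⟩
        calc _ ≤ p ^ (2 * m) * (4 * p ^ j) := Nat.mul_le_mul_left _ ((sq_le_pow j).trans
              (Nat.mul_le_mul_left _ (Nat.pow_le_pow_left h11 _)))
          _ = 4 * p ^ (2 * m + j) := by ring
          _ ≤ _ := Nat.mul_le_mul_left _ (Nat.pow_le_pow_right hpp.pos (by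
              have := Nat.mul_le_mul_left j (he0.trans hem)
              nlinarith [Nat.mul_le_mul_right ((j + 2) * m) hi]))
    obtain ⟨m, rfl⟩ : ∃ m', m = m' + 1 := ⟨m - 1, by omega⟩
    have k3 : 121 ^ m ≤ p ^ (2 * m) := by
      rw [pow_mul]; exact Nat.pow_le_pow_left (Nat.pow_le_pow_left h11 2) _
    have k4 := Nat.mul_le_mul_left (p ^ 2 * j ^ 2) (k1.trans k3)
    rw [show p ^ (2 * (m + 1)) * j ^ 2 = p ^ 2 * j ^ 2 * p ^ (2 * m) by ring] at k2
    nlinarith
  obtain ⟨rfl, hj⟩ : i = 1 ∧ (centralizer (Z : Set A)).index = 1 := by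
    constructor <;> nlinarith
  rw [hj, pow_one, pow_one] at h7
  subst h7
  obtain rfl : m = a := Nat.pow_right_injective hpp.two_le (h1.symm.trans hV)
  rw [hj, one_pow, one_mul] at hc
  have hC := index_eq_one.1 hj
  obtain ⟨b6, b7⟩ := b5 hC
  obtain ⟨n, rfl⟩ : ∃ n, m = n + 2 := ⟨m - 2, by omega⟩
  have c1 : ∀ X a b : ℕ, 0 < b → b * Nat.card V ≤ b + a * X → 2401 * a ≤ 14280 * b * q ^ n →
      T ^ 2 < 4 * X := fun X a b hb k k' => crit hT h121 hb k (by
    rw [h1, pow_add]; nlinarith [Nat.mul_le_mul_left (q ^ 2) k'])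
  by_cases c : 2401 * (e ^ 2 * d) ≤ 14280 * 1 * q ^ n
  · exact amgm (c1 _ _ 1 one_pos (by rwa [one_mul]) c) hJ
  have := h.Zn
  have := h.field.1
  have hZ : ∀ z ∈ Z, ∀ g, g * z = z * g := fun z hz g => ((hC ▸ trivial : g ∈ centralizer _) z hz).symm
  have h8 : ∀ g x : A, ⁅g, x⁆ ∈ Z → ⁅g, x⁆ ^ (n + 2) = 1 := fun g x =>
    h4 g (hC ▸ trivial) x (hC ▸ trivial)
  rw [hC, relIndex_top_right] at hh
  have c2 : ∀ b, 0 < b → Nat.card Z * b ≤ (n + 2) * Nat.card (ConjClasses A) →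
      2401 * ((n + 2) * (e ^ 2 * d)) ≤ 14280 * b * q ^ n →
      J * T < Nat.card (ConjClasses A) + J ^ 2 * nu A V := fun b hb k k' => by
    refine amgm (c1 _ _ b hb ?_ k') hJ
    have := Nat.mul_le_mul_left b (card_le_nu (A := A) (V := V))
    rw [← Z.card_mul_index, ← hh] at this
    nlinarith [Nat.mul_le_mul_left (nu A V * (e ^ 2 * d)) k]
  have m1 := mul_le_k_one hZ (by omega) h8
  obtain ⟨l1, l2, l3, l4⟩ := landau (A ⧸ Z)
  rw [← index_eq_card, ← hh] at l1 l2 l3 l4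
  have m2 : ∀ b, b ≤ Nat.card (ConjClasses (A ⧸ Z)) →
      Nat.card Z * (b + (n + 1)) ≤ (n + 2) * Nat.card (ConjClasses A) := fun b hb =>
    le_trans (Nat.mul_le_mul_left _ (Nat.add_le_add_right hb _)) m1
  have p1 : ∀ i ≤ n, 11 ^ i ≤ q ^ n := fun i hi =>
    (Nat.pow_le_pow_left h11 i).trans (Nat.pow_le_pow_right hpp.pos hi)
  by_cases e8 : 8 ≤ e
  · have := pow_eight_le' e e8
    have := p1 (e - 2) (by omega)
    have := Nat.mul_le_mul_left (e ^ 2) (b7 (by omega))
    rw [show e ^ 2 * e ^ 6 = e ^ 8 by ring] at this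
    exact absurd (by nlinarith) c
  have p2 := p1 (e - 2) (by omega)
  interval_cases e
  · omega
  · have hd6 := b3 rfl
    have := Nat.le_of_dvd (by norm_num) hd6
    obtain rfl : n = 0 := by
      by_contra k
      have := p1 1 (by omega)
      omega
    by_cases d6 : d = 6
    · subst d6
      have := h.En.map _ (QuotientGroup.mk'_surjective Z)
      obtain ⟨φ⟩ := Cfsg.Agent.S1012.result (G := A ⧸ Z) hh.symm
        (orderOf_ne_six (E.map (QuotientGroup.mk' Z)) (by
          rw [← relIndex_ker, QuotientGroup.ker_mk', he]; rfl) fun g hg => by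
          obtain ⟨g, rfl⟩ := QuotientGroup.mk'_surjective Z g
          refine ⟨g, h.mem_of_comm (hC ▸ trivial) fun y hy => (QuotientGroup.eq_one_iff _).1 ?_, rfl⟩
          exact mul_inv_eq_one.2 (hg _ ⟨y, hy, rfl⟩))
      have k1 := mul_le_k_sym hZ two_pos h8 φ
      have k2 := card_le_nu (A := A) (V := V)
      rw [h1, ← Z.card_mul_index, ← hh] at k2
      exact tight h11 hT h2 (by omega) k2 hJ
    · interval_cases d
      · omega
      · exact c2 3 (by norm_num) (m2 2 (by omega)) (by omega)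
      · exact c2 5 (by norm_num) (m2 4 (by omega)) (by omega)
      all_goals omega
  · have := b2 (Or.inl Nat.prime_three)
    obtain rfl : n = 1 := by
      by_contra k
      have := p1 2 (by omega)
      omega
    have := (h.prime_dvd Nat.prime_three (by rw [he]; norm_num)).trans h2
    have : 13 ≤ q ^ 1 := by rw [pow_one]; omega
    by_cases d20 : d ≤ 20
    · exact c2 7 (by norm_num) (m2 5 (by omega)) (by omega)
    · obtain ⟨r, r1, r2, r3⟩ : ∃ r : ℕ, r.Prime ∧ r ∣ d ∧ r.Coprime 3 := by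
        have : 21 ≤ d := by omega
        interval_cases d
        · exact ⟨7, by norm_num⟩
        · exact ⟨2, by norm_num⟩
        · exact ⟨23, by norm_num⟩
        · exact ⟨2, by norm_num⟩
      refine c2 9 (by norm_num) (le_trans (Nat.mul_le_mul_left _ ?_)
        (mul_le_k_two hZ (by omega) h8 r1 (hh ▸ r2.mul_left _) r3)) (by omega)
      omega
  · have := b6 rfl
    obtain rfl : n = 2 := by
      by_contra k
      have := p1 3 (by omega)
      omega
    exact c2 8 (by norm_num) (m2 5 (by omega)) (by omega)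
  · have := b2 (Or.inl (by norm_num)); omega
  · have := b2 (Or.inr rfl); omega
  · have := b2 (Or.inl (by norm_num)); omega

omit [Finite A] in
theorem comm_of_prime {H : Subgroup A} {U : AddSubgroup V} (h : Inv H U) (hU : (Nat.card U).Prime)
    {a b : A} (ha : a ∈ H) (hb : b ∈ H) (w : V) (hw : w ∈ U) : (a * b) • w = (b * a) • w := by
  by_cases h0 : w = 0
  · rw [h0, smul_zero, smul_zero]
  have hle := AddSubgroup.zmultiples_le.2 hw
  have e := AddSubgroup.eq_of_le_of_card_ge hle ((hU.eq_one_or_self_of_dvd _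
    (AddSubgroup.card_dvd_of_le hle)).resolve_left (by simpa using h0)).ge
  obtain ⟨n, hn⟩ : a • w ∈ AddSubgroup.zmultiples w := e ▸ h a ha w hw
  obtain ⟨m, hm⟩ : b • w ∈ AddSubgroup.zmultiples w := e ▸ h b hb w hw
  simp only at hn hm
  rw [mul_smul, mul_smul, ← hm, ← hn, smul_comm a, smul_comm b, ← hm, ← hn, smul_comm]

theorem nine_pow_le (t : ℕ) : 2401 * (3 ^ (t + 4)) ^ 2 ≤ 14280 * 11 ^ (t + 3) := by
  induction t with
  | zero => norm_num
  | succ n ih =>
    rw [show n + 1 + 4 = n + 4 + 1 by ring, show n + 1 + 3 = n + 3 + 1 by ring, pow_succ 3,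
      pow_succ 11, mul_pow]
    omega

theorem phi_step {p T : ℕ} (hpp : p.Prime) (h11 : 11 ≤ p) (hT : 60 * T < 49 * p)
    [Group.IsSolvable A] (hf : ∀ a : A, (∀ v : V, a • v = v) → a = 1) (hirr : Irr A V)
    (ih : ∀ n < Nat.card V, ∀ (A V : Type u) [Group A] [AddCommGroup V] [DistribMulAction A V]
      [Finite A] [Finite V] [Group.IsSolvable A], Irr A V → Nat.card V = n → ∀ a,
      Nat.card V = p ^ a → 2 ≤ a → ∀ J, 1 ≤ J → J * T < Nat.card (ConjClasses A) + J ^ 2 * nu A V)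
    {a : ℕ} (hV : Nat.card V = p ^ a) (ha : 2 ≤ a) {J : ℕ} (hJ : 1 ≤ J) :
    J * T < Nat.card (ConjClasses A) + J ^ 2 * nu A V := by
  by_cases hp : ∀ U : AddSubgroup V, Indep A U → U = ⊥ ∨ U = ⊤
  · exact phi_prim hf hp hpp h11 hV ha hT hJ
  simp only [not_forall, not_or] at hp
  obtain ⟨U, h3, h1, h2⟩ := hp
  obtain ⟨i, -, hi⟩ := (Nat.dvd_prime_pow hpp).1 (hV ▸ U.card_addSubgroup_dvd_card)
  have h4 := two_le_orbit hirr h1 h2
  have : Finite (orbit A U) := Finite.finite_mulAction_orbit U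
  by_cases hi2 : 2 ≤ i
  · let := resAct (stabilizer A U) U (inv_stabilizer U)
    have k1 := ih _ (lt_of_le_of_ne U.card_le_card_addGroup fun e =>
      h2 (AddSubgroup.eq_top_of_card_eq _ e)) (stabilizer A U) U (irr_res _ (h3.irr hirr)) rfl i hi
      hi2 (J * Nat.card (orbit A U)) (Nat.mul_pos hJ (by omega))
    have k2 := (Cfsg.Agent.S4200.result (stabilizer A U)).1
    have k3 := Nat.mul_le_mul_left (J ^ 2 * Nat.card (orbit A U)) (mul_nu_le h3)
    rw [index_stabilizer, ← Nat.card_coe_set_eq] at k2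
    refine Nat.lt_of_mul_lt_mul_left (a := Nat.card (orbit A U)) ?_
    nlinarith
  obtain rfl : i = 1 := by
    have h5 := (AddSubgroup.one_lt_card_iff_ne_bot _).2 h1
    rw [hi] at h5
    interval_cases i
    · simp at h5
    · rfl
  rw [pow_one] at hi
  have : Nonempty (orbit A U) := ⟨⟨U, mem_orbit_self U⟩⟩
  have k1 := card_le_of_abelian (V := V) (toPermHom A (orbit A U)).ker fun a ha b hb =>
    mul_inv_eq_one.1 (hf _ fun v => by
      rw [mul_smul, eq_of_blocks hirr h1 fun l => comm_of_prime (inv_block U l)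
        (by rwa [card_block, hi]) ha hb, smul_inv_smul])
  have k2 := index_ker_le A (orbit A U)
  have k3 := index_ker_le_factorial A (orbit A U)
  have k4 := h3.pow_le
  rw [hi] at k4
  refine amgm (crit (b := 1) hT (hV ▸ (Nat.pow_le_pow_left h11 2).trans
    (Nat.pow_le_pow_right hpp.pos ha)) one_pos (by rwa [one_mul, mul_comm]) ?_) hJ
  generalize Nat.card (orbit A U) = t at *
  generalize (toPermHom A (orbit A U)).ker.index = s at *
  obtain ⟨t, rfl⟩ : ∃ t', t = t' + 2 := ⟨t - 2, by omega⟩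
  have k5 : 2401 * s ^ 2 ≤ 14280 * 11 ^ t := by
    by_cases c : t ≤ 2
    · have := Nat.pow_le_pow_left k3 2
      interval_cases t <;> simp [Nat.factorial] at this ⊢ <;> omega
    · obtain ⟨t, rfl⟩ : ∃ t', t = t' + 3 := ⟨t - 3, by omega⟩
      exact (Nat.mul_le_mul_left _ (Nat.pow_le_pow_left k2 2)).trans (nine_pow_le t)
  rw [pow_add] at k4
  nlinarith [Nat.mul_le_mul_left (p ^ 2) (k5.trans
    (Nat.mul_le_mul_left _ (Nat.pow_le_pow_left h11 t)))]

theorem phi {p T : ℕ} (hpp : p.Prime) (h11 : 11 ≤ p) (hT : 60 * T < 49 * p) (n : ℕ) :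
    ∀ (A V : Type u) [Group A] [AddCommGroup V] [DistribMulAction A V] [Finite A] [Finite V]
      [Group.IsSolvable A], Irr A V → Nat.card V = n → ∀ a, Nat.card V = p ^ a → 2 ≤ a →
      ∀ J, 1 ≤ J → J * T < Nat.card (ConjClasses A) + J ^ 2 * nu A V := by
  induction n using Nat.strong_induction_on with
  | _ n ih =>
  rintro A V _ _ _ _ _ _ hirr rfl a hV ha J hJ
  have := Group.isSolvable_of_surjective (toImg_surj (A := A) (V := V))
  have : Finite (Img A V) := Finite.of_surjective _ toImg_surj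
  refine lt_of_lt_of_le ?_ (Nat.add_le_add_right (k_le_of_surjective _ (toImg_surj (V := V))) _)
  rw [← nu_img]
  exact phi_step hpp h11 hT img_faithful (fun U hU => hirr U fun a => hU (toImg V a)) ih hV ha hJ

end CL.KLow
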