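import Mathlib
import Cfsg.Agent.ORD.KLow4
import Cfsg.Agent.SOLV.Fitting

/-! Lower bounds for class numbers V: the theorem of Héthelyi and Külshammer. -/

set_option autoImplicit false

namespace CL.KLow

open MulAction Subgroup Pointwise CL.SolvLin CL.Ord.PC Cfsg
open scoped commutatorElement

universe u v

theorem irr_abMod {G : Type*} [Group G] {N : Subgroup G} [N.Normal]
    (h : ∀ a ∈ N, ∀ b ∈ N, a * b = b * a)
    (hm : ∀ L : Subgroup G, L.Normal → ⊥ ≤ L → L ≤ N → L = ⊥ ∨ L = N) : Irr G (AbMod N h) := by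
  intro U hU
  let U₁ : Subgroup G :=
    { carrier := AbMod.val '' (U : Set (AbMod N h))
      one_mem' := ⟨0, zero_mem U, rfl⟩
      mul_mem' := by rintro _ _ ⟨a, ha, rfl⟩ ⟨b, hb, rfl⟩; exact ⟨a + b, add_mem ha hb, rfl⟩
      inv_mem' := by rintro _ ⟨a, ha, rfl⟩; exact ⟨-a, neg_mem ha, rfl⟩ }
  refine (hm U₁ ⟨by rintro _ ⟨a, ha, rfl⟩ g; exact ⟨g • a, hU g a ha, rfl⟩⟩ bot_le
    (by rintro _ ⟨a, -, rfl⟩; exact a.val_mem)).imp (fun e => ?_) fun e => ?_
  · exact (AddSubgroup.eq_bot_iff_forall _).2 fun v hv =>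
      AbMod.val_inj ((eq_bot_iff_forall _).1 e _ ⟨v, hv, rfl⟩)
  · refine (AddSubgroup.eq_top_iff' _).2 fun v => ?_
    obtain ⟨w, hw, e'⟩ := e.ge v.val_mem
    exact AbMod.val_inj e' ▸ hw

theorem Irr.card_eq {A V : Type*} [Group A] [AddCommGroup V] [DistribMulAction A V] [Finite V]
    (h : Irr A V) {p : ℕ} [hp : Fact p.Prime] (hd : p ∣ Nat.card V) : ∃ a, Nat.card V = p ^ a := by
  obtain ⟨v, hv⟩ := exists_prime_addOrderOf_dvd_card' (G := V) p hd
  have h2 := (h (nsmulAddMonoidHom (α := V) p).ker fun a w hw => by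
    change p • a • w = 0
    rw [smul_comm, show p • w = 0 from hw, smul_zero]).resolve_left fun e => by
      have := (AddSubgroup.eq_bot_iff_forall _).1 e v (hv ▸ addOrderOf_nsmul_eq_zero v)
      rw [this, addOrderOf_zero] at hv
      exact hp.out.ne_one hv.symm
  exact (IsPGroup.iff_card (G := Multiplicative V)).1 fun g =>
    ⟨1, by rw [pow_one]; exact (h2 ▸ trivial : g.toAdd ∈ (nsmulAddMonoidHom p).ker)⟩

theorem lin_bound {A V : Type u} [Group A] [AddCommGroup V] [DistribMulAction A V] [Finite A]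
    [Finite V] [Group.IsSolvable A] (hirr : Irr A V) {p a : ℕ} (hp : p.Prime)
    (hV : Nat.card V = p ^ a) (ha : 2 ≤ a) :
    49 * p ≤ 60 * (Nat.card (ConjClasses A) + nu A V) := by
  by_contra hc
  by_cases h11 : 11 ≤ p
  · simpa using phi hp h11 (not_le.1 hc) _ A V hirr rfl a hV ha 1 le_rfl
  have h1 := (Nat.pow_le_pow_right hp.pos ha).trans (hV.ge.trans (card_le_nu (A := A)))
  obtain ⟨l1, l2, l3, l4⟩ := landau A
  have h2 := k_pos A
  have h3 := hp.two_le
  generalize Nat.card (ConjClasses A) = k at *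
  generalize nu A V = ν at *
  have h4 : p ≤ 7 := by
    by_contra
    interval_cases p <;> exact absurd hp (by norm_num)
  have : k ≤ 5 := by omega
  have : ν ≤ 5 := by omega
  interval_cases p <;> interval_cases k <;> interval_cases ν <;> omega

theorem comm_of_sq {G : Type*} [Group G] [Finite G] {p : ℕ} [hp : Fact p.Prime] {N P : Subgroup G}
    [N.Normal] [P.Normal] (hN : Nat.card N = p) (hP : N.relIndex P = p) (hle : N ≤ P)
    (hab : ∀ a ∈ P, ∀ b ∈ P, a * b = b * a) (hi : ¬ p ∣ P.index)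
    (hc : centralizer (P : Set G) ≤ P) (a b : G) : ⁅a, b⁆ ∈ P := by
  have key : ∀ {H : Type _} [Group H] [Finite H] (M : Subgroup H) [M.Normal], Nat.card M = p →
      ∀ a b : H, ∀ y ∈ M, ⁅a, b⁆ * y * ⁅a, b⁆⁻¹ = y := fun M _ hM a b y hy => by
    have := isCyclic_of_prime_card hM
    have h1 : MulAut.conjNormal (H := M) ⁅a, b⁆ = 1 := by
      rw [map_commutatorElement, commutatorElement_eq_one_iff_mul_comm]
      exact (IsCyclic.mulAutMulEquiv M).injective (by rw [map_mul, map_mul, mul_comm])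
    exact congrArg Subtype.val (MulEquiv.congr_fun h1 ⟨y, hy⟩)
  have := Subgroup.Normal.map inferInstance _ (QuotientGroup.mk'_surjective N) (H := P)
  have h1 := key N hN a b
  have h2 := key (P.map (QuotientGroup.mk' N)) (by
    rw [← relIndex_ker, QuotientGroup.ker_mk', hP]) a b
  have h3 : ∀ y ∈ P, ⁅a, b⁆ * y * ⁅a, b⁆⁻¹ * y⁻¹ ∈ N := fun y hy =>
    (QuotientGroup.eq_one_iff _).1 (mul_inv_eq_one.2 (h2 _ ⟨y, hy, rfl⟩))
  generalize ⁅a, b⁆ = x at h1 h3
  have h4 : x ^ p ∈ P := hc fun y hy => by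
    have h5 : ∀ n : ℕ, x ^ n * y * (x ^ n)⁻¹ = (x * y * x⁻¹ * y⁻¹) ^ n * y := fun n => by
      induction n with
      | zero => simp
      | succ n ih =>
        have := h1 _ (pow_mem (h3 y hy) n)
        rw [pow_succ' x, pow_succ (x * y * x⁻¹ * y⁻¹)]
        calc _ = x * (x ^ n * y * (x ^ n)⁻¹) * x⁻¹ := by group
          _ = x * (x * y * x⁻¹ * y⁻¹) ^ n * x⁻¹ * (x * y * x⁻¹) := by rw [ih]; group
          _ = _ := by rw [this]; group
    have h6 := h5 p
    rw [show (x * y * x⁻¹ * y⁻¹) ^ p = 1 from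
      congrArg Subtype.val (hN ▸ pow_card_eq_one' (x := (⟨_, h3 y hy⟩ : N))), one_mul] at h6
    exact (mul_inv_eq_iff_eq_mul.1 h6).symm
  exact (QuotientGroup.eq_one_iff x).1 ((pow_eq_one_iff_of_coprime
    (hp.out.coprime_iff_not_dvd.2 hi)).1 ⟨(QuotientGroup.eq_one_iff _).2 h4, pow_card_eq_one'⟩)

theorem ab_bound {p k ν : ℕ} (hp : 2 ≤ p) (h : p ^ 2 ≤ 1 + k * ν * 1 ^ 2) :
    49 * p ≤ 60 * (k + ν) := by
  refine (Nat.pow_le_pow_iff_left two_ne_zero).1 ?_
  zify at *
  nlinarith [sq_nonneg ((k : ℤ) - ν)]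

theorem hk_aux {p : ℕ} [hp : Fact p.Prime] (n : ℕ) : ∀ (G : Type u) [Group G] [Finite G]
    [Group.IsSolvable G], Nat.card G = n → p ^ 2 ∣ Nat.card G →
    49 * p ≤ 60 * Nat.card (ConjClasses G) := by
  induction n using Nat.strong_induction_on with
  | _ n ih =>
  rintro G _ _ _ rfl hG
  by_contra hc
  have h1 : ∀ N : Subgroup G, N.Normal → N ≠ ⊥ → ¬ p ^ 2 ∣ N.index := fun N _ hN h => hc
    ((ih _ (by
      rw [← N.card_mul_index]
      exact lt_mul_of_one_lt_left (Nat.pos_of_ne_zero FiniteIndex.index_ne_zero)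
        ((one_lt_card_iff_ne_bot _).2 hN)) (G ⧸ N) rfl h).trans (Nat.mul_le_mul_left _
      (k_le_of_surjective _ (QuotientGroup.mk'_surjective N))))
  have h2 : ∀ N : Subgroup G, N.Normal → N ≠ ⊥ → p ∣ Nat.card N := fun N hn hN => by
    by_contra h
    exact h1 N hn hN ((Nat.Coprime.pow_left 2 (hp.out.coprime_iff_not_dvd.2 h)).dvd_of_dvd_mul_left
      (N.card_mul_index ▸ hG))
  have : Nontrivial G := Finite.one_lt_card_iff_nontrivial.1
    ((Nat.one_lt_pow two_ne_zero hp.out.one_lt).trans_le (Nat.le_of_dvd Nat.card_pos hG))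
  obtain ⟨N, hN, h3, -, h4, h5⟩ := exists_step (A := G) (Z := ⊥) (D := ⊤) bot_lt_top
  have hab : ∀ a ∈ N, ∀ b ∈ N, a * b = b * a := fun a ha b hb =>
    commutatorElement_eq_one_iff_mul_comm.1 (mem_bot.1 (h4 a ha b hb))
  have key : ∀ (M : Subgroup G) [M.Normal] (h : ∀ a ∈ M, ∀ b ∈ M, a * b = b * a),
      ¬ 49 * p ≤ 60 * (Nat.card (ConjClasses (Img G (AbMod M h))) +
        nu (Img G (AbMod M h)) (AbMod M h)) := fun M _ h k =>
    hc (k.trans (Nat.mul_le_mul_left _ (by rw [nu_img]; exact k_add_nu_le M h)))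
  have hirr := irr_abMod hab h5
  have : Finite (AbMod N hab) := Finite.of_injective _ AbMod.val_inj
  obtain ⟨a, ha⟩ := Irr.card_eq hirr (h2 N hN h3.ne')
  by_cases ha2 : 2 ≤ a
  · have := Group.isSolvable_of_surjective (toImg_surj (A := G) (V := AbMod N hab))
    have : Finite (Img G (AbMod N hab)) := Finite.of_surjective _ toImg_surj
    exact key N hab (lin_bound (fun U hU => hirr U fun a => hU (toImg _ a)) hp.out ha ha2)
  have h6 : Nat.card N = p := by
    have := (one_lt_card_iff_ne_bot _).2 h3.ne'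
    rw [AbMod.card] at ha
    rw [ha] at this ⊢
    interval_cases a
    · simp at this
    · exact pow_one p
  obtain ⟨S⟩ : Nonempty (Sylow p G) := inferInstance
  have h7 : Nat.card S = p ^ 2 := by
    obtain ⟨i, hi⟩ := S.isPGroup'.exists_card_eq
    have k1 := (Nat.Coprime.pow_left 2 (hp.out.coprime_iff_not_dvd.2
      S.not_dvd_index)).dvd_of_dvd_mul_right ((S : Subgroup G).card_mul_index ▸ hG)
    have k2 := (S : Subgroup G).card_subgroup_dvd_card
    rw [hi] at k1 k2 ⊢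
    have k3 := (Nat.pow_dvd_pow_iff_le_right hp.out.one_lt).1 k1
    rw [← N.card_mul_index, h6] at k2
    congr 1
    by_contra k4
    refine h1 N hN h3.ne' (Nat.dvd_of_mul_dvd_mul_left hp.out.pos (Dvd.dvd.trans ?_ k2))
    rw [← pow_succ']
    exact pow_dvd_pow _ (by omega)
  have h8 : ∀ a ∈ (S : Subgroup G), ∀ b ∈ (S : Subgroup G), a * b = b * a := fun a ha b hb =>
    congrArg Subtype.val ((IsPGroup.isMulCommutative_of_card_eq_prime_sq h7).is_comm.comm
      ⟨a, ha⟩ ⟨b, hb⟩)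
  have h9 := CL.centralizer_pCore_le_of_isSolvable (G := G) (p := p) (by
    by_contra h
    exact CL.not_dvd_card_pPrimeCore p G (h2 _ inferInstance h))
  have h10 : pCore p G ≤ S := (CL.isPGroup_pCore p G).le_sylow_of_normal S
  have h11 : pCore p G = S := le_antisymm h10 fun x hx => h9 fun y hy => h8 y (h10 hy) x hx
  have h12 : N ≤ pCore p G := CL.le_pCore (IsPGroup.of_card (n := 1) (by rw [h6, pow_one]))
  rw [← h11] at h7 h8
  have h13 := comm_of_sq h6 (Nat.eq_of_mul_eq_mul_left hp.out.pos (by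
    rw [← sq, ← h7, ← relIndex_bot_left, ← relIndex_mul_relIndex ⊥ N _ bot_le h12,
      relIndex_bot_left, h6])) h12 h8 (h11 ▸ S.not_dvd_index) h9
  refine key _ h8 ?_
  have : Finite (AbMod _ h8) := Finite.of_injective _ AbMod.val_inj
  have : Finite (Img G (AbMod _ h8)) := Finite.of_surjective _ toImg_surj
  have h14 := card_le_of_abelian (V := AbMod _ h8) (⊤ : Subgroup (Img G (AbMod _ h8))) (by
    intro x _ y _
    obtain ⟨x, rfl⟩ := toImg_surj x
    obtain ⟨y, rfl⟩ := toImg_surj y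
    rw [← commutatorElement_eq_one_iff_mul_comm, ← map_commutatorElement]
    exact img_faithful _ fun v => AbMod.val_inj (by
      rw [toImg_smul, AbMod.val_smul, h8 _ (h13 x y) _ v.val_mem, mul_inv_cancel_right]))
  rw [AbMod.card, h7, index_top] at h14
  exact ab_bound hp.out.two_le h14

end CL.KLow
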