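import Mathlib
import Cfsg.Agent.ORD.KLow5

/-! Lower bounds for class numbers VI: a normal subgroup of large prime order. -/

set_option autoImplicit false

namespace CL.KLow

open MulAction Subgroup Pointwise CL.SolvLin CL.Ord.PC Cfsg
open scoped commutatorElement

universe u

/-- Many orbits, or an abelian subgroup of small index in the centraliser of `P`. -/
def Psi {A : Type*} (V : Type*) [Group A] [AddCommGroup V] [DistribMulAction A V]
    (P : Subgroup A) : Prop :=
  Nat.card P ≤ nu A V ∨ ∃ L ≤ centralizer (P : Set A),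
    (∀ a ∈ L, ∀ b ∈ L, ∀ v : V, (a * b) • v = (b * a) • v) ∧
    (3 * L.relIndex (centralizer (P : Set A))) ^ 6 * 4 ^ (centralizer (P : Set A)).index ≤
      Nat.card V ^ 3

theorem pow_eight_le'' (e : ℕ) (he : 5 ≤ e) : e ^ 8 ≤ 27 ^ (e - 1) := by
  induction e, he using Nat.le_induction with
  | base => norm_num
  | succ n hn ih =>
    obtain ⟨m, rfl⟩ : ∃ m, n = m + 1 := ⟨n - 1, by omega⟩
    simp only [Nat.add_sub_cancel] at ih ⊢
    have h2 := Nat.pow_le_pow_left (show 5 * (m + 1 + 1) ≤ 6 * (m + 1) by omega) 8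
    rw [mul_pow, mul_pow] at h2
    rw [pow_succ 27 m]
    omega

variable {A V : Type u} [Group A] [AddCommGroup V] [DistribMulAction A V] [Finite A] [Finite V]
  [Group.IsSolvable A] [Nontrivial V] {P : Subgroup A} [hPn : P.Normal]
  (hP : (Nat.card P).Prime) (h729 : 729 ≤ Nat.card P)
include hP h729

theorem psi_prim (hf : ∀ a : A, (∀ v : V, a • v = v) → a = 1)
    (hp : ∀ U : AddSubgroup V, Indep A U → U = ⊥ ∨ U = ⊤) : Psi V P := by
  obtain ⟨Z, E, h⟩ := exists_str (prim_of_indep hf hp)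
  obtain ⟨q, m, h1, -, h3, -, h5⟩ := prim_data hf hp h
  obtain ⟨e, he⟩ := h.exists_sq
  obtain ⟨b1, b2, -, b4, -⟩ := str_bounds h he rfl
  have := h.Zn
  have := Fact.mk hP
  have := isCyclic_of_prime_card (α := P) rfl
  have hPZ : P ≤ Z := by
    rcases (P ⊓ Z).subgroupOf P |>.eq_bot_or_eq_top_of_prime_card with k | k
    · have k1 : Disjoint P Z := by
        rwa [subgroupOf_eq_bot, disjoint_iff, inf_right_comm, inf_idem, ← disjoint_iff] at k
      refine le_sup_left.trans (h.maxab (P ⊔ Z) inferInstance (fun a ha b hb => ?_) le_sup_right)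
      obtain ⟨x, hx, z, hz, rfl⟩ := mem_sup_of_normal_right.1 ha
      obtain ⟨y, hy, w, hw, rfl⟩ := mem_sup_of_normal_right.1 hb
      have c := commute_of_normal_of_disjoint P Z hPn h.Zn k1
      have c1 : Commute x y := congrArg Subtype.val
        ((IsCyclic.isMulCommutative (α := P)).is_comm.comm ⟨x, hx⟩ ⟨y, hy⟩)
      exact (c1.mul_right (c x w hx hw)).mul_left ((c y z hy hz).symm.mul_right (h.ab hz hw))
    · exact (subgroupOf_eq_top.1 k).trans inf_le_right
  have hZC : Z ≤ centralizer (Z : Set A) := fun a ha b hb => h.ab hb ha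
  have hEC : E ≤ centralizer (Z : Set A) := fun x hx z hz => h.cen z hz x hx
  have hC : centralizer (Z : Set A) ≤ centralizer (P : Set A) := centralizer_le hPZ
  refine Or.inr ⟨Z, hZC.trans hC, fun a ha b hb v => by rw [h.ab ha hb], ?_⟩
  obtain ⟨q₁, k1, k2, -⟩ := h5 ⊤
  obtain ⟨q₀, k3, k4, k5⟩ := h5 (centralizer (P : Set A))
  obtain ⟨x, hx⟩ := exists_prime_orderOf_dvd_card' (G := P) _ dvd_rfl
  have k6 := orderOf_dvd_of_pow_eq_one (k5 x (hPZ x.2) fun a ha => (ha x x.2).symm)
  rw [orderOf_coe, hx] at k6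
  have k7 := h729.trans ((Nat.le_of_dvd (by omega) k6).trans (Nat.sub_le _ _))
  rw [relIndex_top_right, ← relIndex_mul_index hC, k4, mul_comm, pow_mul] at k2
  rw [← relIndex_mul_relIndex _ _ _ hZC hC, ← relIndex_mul_relIndex Z E _ h.le hEC, he, h1, k4]
  rw [he] at h3
  have hem : e ≤ m := (Nat.pow_le_pow_iff_left two_ne_zero).1 h3
  have he0 : 1 ≤ e := Nat.pos_of_ne_zero fun e0 =>
    (FiniteIndex.index_ne_zero : Z.relIndex E ≠ 0) (he.trans (by rw [e0]; rfl))
  have hj0 : (centralizer (Z : Set A)).relIndex (centralizer (P : Set A)) ≠ 0 :=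
    FiniteIndex.index_ne_zero
  have k8 := Nat.pow_left_injective hj0 k2
  generalize E.relIndex (centralizer (Z : Set A)) = d at *
  generalize (centralizer (Z : Set A)).relIndex (centralizer (P : Set A)) = j at *
  generalize (centralizer (P : Set A)).index = D at *
  obtain ⟨j, rfl⟩ := Nat.exists_eq_succ_of_ne_zero hj0
  obtain ⟨m, rfl⟩ : ∃ m', m = m' + 1 := ⟨m - 1, by omega⟩
  have a1 : e ^ 2 * d ≤ 27 ^ m := by
    refine le_trans ?_ (Nat.pow_le_pow_right (by norm_num) (Nat.sub_le_sub_right hem 1))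
    by_cases c : 5 ≤ e
    · exact le_trans ((Nat.mul_le_mul_left _ b1).trans_eq (by ring)) (pow_eight_le'' e c)
    · interval_cases e
      · simpa using b1
      · have := b2 (Or.inl Nat.prime_two); omega
      · have := b2 (Or.inl Nat.prime_three); omega
      · have := b4 rfl; omega
  have a2 : j + 1 ≤ 3 ^ j := Nat.lt_pow_self (by norm_num)
  have a3 : 4 ^ D ≤ q₀ ^ 2 := by
    rw [k8, ← pow_mul, mul_comm, pow_mul]
    exact Nat.pow_le_pow_left (Nat.pow_le_pow_left k1 2) D
  calc _ ≤ (3 * (27 ^ m * 3 ^ j)) ^ 6 * q₀ ^ 2 := by gcongr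
    _ = 729 ^ (3 * m + 1 + j) * q₀ ^ 2 := by
      rw [show 27 = 3 ^ 3 by rfl, show 729 = 3 ^ 6 by rfl, ← pow_mul, ← pow_mul, ← pow_add,
        ← pow_succ', ← pow_mul]
      congr 2
      ring
    _ ≤ q₀ ^ (3 * m + 1 + j) * q₀ ^ 2 := by gcongr
    _ ≤ _ := by
      rw [← pow_add, ← pow_mul, ← pow_mul]
      exact Nat.pow_le_pow_right (by omega) (by rw [Nat.succ_eq_add_one]; nlinarith)

theorem psi_step (hf : ∀ a : A, (∀ v : V, a • v = v) → a = 1) (hirr : Irr A V)
    (ih : ∀ n < Nat.card V, ∀ (A V : Type u) [Group A] [AddCommGroup V] [DistribMulAction A V]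
      [Finite A] [Finite V] [Group.IsSolvable A] [Nontrivial V] (P : Subgroup A) [P.Normal],
      (Nat.card P).Prime → 729 ≤ Nat.card P → Irr A V → Nat.card V = n →
      (∀ x ∈ P, (∀ v : V, x • v = v) → x = 1) → Psi V P) : Psi V P := by
  by_cases hp : ∀ U : AddSubgroup V, Indep A U → U = ⊥ ∨ U = ⊤
  · exact psi_prim hP h729 hf hp
  simp only [not_forall, not_or] at hp
  obtain ⟨U, h3, h1, h2⟩ := hp
  have := Fact.mk hP
  have h4 := two_le_orbit hirr h1 h2
  have : Finite (orbit A U) := Finite.finite_mulAction_orbit U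
  have := Fintype.ofFinite (orbit A U)
  have : Nonempty (orbit A U) := ⟨⟨U, mem_orbit_self U⟩⟩
  have : Nontrivial U := (AddSubgroup.nontrivial_iff_ne_bot U).2 h1
  let := resAct (stabilizer A U) U (inv_stabilizer U)
  have h5 := mul_nu_le h3
  set B := (toPermHom A (orbit A U)).ker with hB
  by_cases hPB : P ≤ B
  swap
  · obtain ⟨x, hx, hx'⟩ := SetLike.not_le_iff_exists.1 hPB
    obtain ⟨l, hl⟩ : ∃ l : orbit A U, x • l ≠ l := by
      by_contra k
      push Not at k
      exact hx' (Equiv.ext k)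
    have k1 := (stabilizer P l).index_mul_card
    rw [((stabilizer P l).eq_bot_or_eq_top_of_prime_card.resolve_right fun e =>
      hl (e ▸ trivial : (⟨x, hx⟩ : P) ∈ stabilizer P l) :), card_bot, mul_one] at k1
    refine Or.inl (le_trans ?_ ((Nat.le_mul_of_pos_right _ one_le_nu).trans h5))
    have k2 := index_stabilizer P l
    rw [((stabilizer P l).eq_bot_or_eq_top_of_prime_card.resolve_right fun e =>
      hl (e ▸ trivial : (⟨x, hx⟩ : P) ∈ stabilizer P l) :), index_bot] at k2
    rw [k2]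
    exact Set.ncard_le_card _
  have hBN : B ≤ stabilizer A U := fun a ha =>
    congrArg Subtype.val (Equiv.congr_fun ha (⟨U, mem_orbit_self U⟩ : orbit A U))
  have hc := Nat.card_congr (subgroupOfEquivOfLe (hPB.trans hBN)).toEquiv
  have k := ih _ (lt_of_le_of_ne U.card_le_card_addGroup fun e =>
    h2 (AddSubgroup.eq_top_of_card_eq _ e)) (stabilizer A U) U (P.subgroupOf _) (hc ▸ hP)
    (hc ▸ h729) (irr_res _ (h3.irr hirr)) rfl fun x hx hv => by
      by_contra hne
      have e1 : zpowers (⟨x, hx⟩ : P) = ⊤ := (Subgroup.eq_bot_or_eq_top_of_prime_card _).resolve_left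
        fun e => hne (Subtype.ext (congrArg (fun y : P => (y : A)) (zpowers_eq_bot.1 e)))
      rcases hirr (FixedPoints.addSubgroup P V) (fun a v hv' y => by
        have : (a⁻¹ * y * a⁻¹⁻¹) • v = v := hv' ⟨_, hPn.conj_mem _ y.2 _⟩
        rw [inv_inv, mul_smul, mul_smul, inv_smul_eq_iff] at this
        exact this) with e | e
      · refine h1 ((AddSubgroup.eq_bot_iff_forall _).2 fun u hu =>
          (AddSubgroup.eq_bot_iff_forall _).1 e u fun y => ?_)
        exact (zpowers_le (H := stabilizer P u)).2 (congrArg Subtype.val (hv ⟨u, hu⟩))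
          (e1 ▸ trivial : y ∈ zpowers (⟨x, hx⟩ : P))
      · exact hne (Subtype.ext (hf _ fun v => (e ▸ trivial : v ∈ FixedPoints.addSubgroup P V) ⟨x, hx⟩))
  set C := centralizer (P : Set A)
  have hC : centralizer (P.subgroupOf (stabilizer A U) : Set (stabilizer A U)) =
      C.subgroupOf _ := Subgroup.ext fun a => ⟨fun ha y hy => congrArg Subtype.val
        (ha ⟨y, hBN (hPB hy)⟩ hy), fun ha y hy => Subtype.ext (ha y hy)⟩
  rcases k with k | ⟨L, -, k1, k2⟩
  · exact Or.inl (hc.ge.trans (k.trans ((Nat.le_mul_of_pos_left _ (by omega)).trans h5)))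
  rw [hC] at k2
  obtain ⟨g, hg⟩ := exists_reps (A := A) U
  let M : orbit A U → Subgroup A := fun l =>
    (L.map (stabilizer A U).subtype).map (MulAut.conj (g l)).toMonoidHom
  refine Or.inr ⟨(⨅ l, M l) ⊓ (B ⊓ C), inf_le_right.trans inf_le_right, fun a ha b hb =>
    eq_of_blocks hirr h1 fun l w hw => ?_, ?_⟩
  · obtain ⟨_, ⟨a, ha', rfl⟩, rfl⟩ := mem_iInf.1 (mem_inf.1 ha).1 l
    obtain ⟨_, ⟨b, hb', rfl⟩, rfl⟩ := mem_iInf.1 (mem_inf.1 hb).1 l
    rw [← hg l] at hw
    obtain ⟨u, hu, rfl⟩ := hw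
    have : ((a : A) * b) • u = ((b : A) * a) • u := congrArg Subtype.val (k1 a ha' b hb' ⟨u, hu⟩)
    simp only [mul_smul] at this
    simp [mul_smul, this]
  have a1 : ∀ l, (M l).relIndex (B ⊓ C) ≤ L.relIndex (C.subgroupOf (stabilizer A U)) := fun l => by
    have e : (B ⊓ C).map (MulAut.conj (g l)).toMonoidHom = B ⊓ C :=
      Subgroup.Normal.conj_smul_eq_self (g l) (B ⊓ C)
    rw [← e, relIndex_map_map_of_injective _ _ (MulAut.conj (g l)).injective,
      ← relIndex_map_map_of_injective L _ (subtype_injective _), subgroupOf_map_subtype]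
    exact relIndex_le_of_le_right (le_inf inf_le_right (inf_le_left.trans hBN))
      FiniteIndex.index_ne_zero
  have a2 : ((⨅ l, M l) ⊓ (B ⊓ C)).relIndex C ≤ L.relIndex (C.subgroupOf (stabilizer A U)) ^
      Nat.card (orbit A U) * 3 ^ (Nat.card (orbit A U) - 1) := by
    rw [← relIndex_mul_relIndex _ (B ⊓ C) _ inf_le_right inf_le_right, inf_relIndex_right,
      inf_relIndex_right]
    refine Nat.mul_le_mul ?_ ((Nat.le_of_dvd (Nat.pos_of_ne_zero FiniteIndex.index_ne_zero)
      (relIndex_dvd_index_of_normal _ _)).trans (index_ker_le A _))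
    rw [Nat.card_eq_fintype_card (α := orbit A U)]
    exact (relIndex_iInf_le _).trans (Finset.prod_le_pow_card _ _ _ fun l _ => a1 l)
  have a3 : C.index ≤ (C.subgroupOf (stabilizer A U)).index * Nat.card (orbit A U) := by
    rw [Nat.card_coe_set_eq, ← index_stabilizer, ← relIndex, ← inf_relIndex_right,
      relIndex_mul_index inf_le_right]
    exact Nat.le_of_dvd (Nat.pos_of_ne_zero FiniteIndex.index_ne_zero) (index_dvd_of_le inf_le_left)
  have a4 := h3.pow_le
  generalize Nat.card (orbit A U) = t at *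
  obtain ⟨t, rfl⟩ : ∃ t', t = t' + 1 := ⟨t - 1, by omega⟩
  calc _ ≤ (3 * (L.relIndex (C.subgroupOf (stabilizer A U)) ^ (t + 1) * 3 ^ t)) ^ 6 *
        4 ^ ((C.subgroupOf (stabilizer A U)).index * (t + 1)) := by
        gcongr
        · exact a2
        · norm_num
    _ = ((3 * L.relIndex (C.subgroupOf (stabilizer A U))) ^ 6 *
        4 ^ (C.subgroupOf (stabilizer A U)).index) ^ (t + 1) := by
        rw [mul_comm _ (3 ^ t), ← mul_assoc, ← pow_succ', ← mul_pow, ← pow_mul, mul_comm _ 6,
          pow_mul, pow_mul, ← mul_pow]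
    _ ≤ (Nat.card U ^ 3) ^ (t + 1) := Nat.pow_le_pow_left k2 _
    _ ≤ _ := by
      rw [← pow_mul, mul_comm, pow_mul]
      exact Nat.pow_le_pow_left a4 3

omit hP h729 hPn in
theorem psi (n : ℕ) : ∀ (A V : Type u) [Group A] [AddCommGroup V] [DistribMulAction A V]
    [Finite A] [Finite V] [Group.IsSolvable A] [Nontrivial V] (P : Subgroup A) [P.Normal],
    (Nat.card P).Prime → 729 ≤ Nat.card P → Irr A V → Nat.card V = n →
    (∀ x ∈ P, (∀ v : V, x • v = v) → x = 1) → Psi V P := by
  induction n using Nat.strong_induction_on with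
  | _ n ih =>
  rintro A V _ _ _ _ _ _ _ P hn hP h729 hirr rfl hf
  have := Group.isSolvable_of_surjective (toImg_surj (A := A) (V := V))
  have : Finite (Img A V) := Finite.of_surjective _ toImg_surj
  have := hn.map _ (toImg_surj (V := V))
  have h1 : ∀ x ∈ P, toImg V x = 1 → x = 1 := fun x hx e => hf x hx fun v => by
    rw [← toImg_smul, e, one_smul]
  have hc : Nat.card (P.map (toImg V)) = Nat.card P := by
    rw [← relIndex_ker, ← inf_relIndex_right, (eq_bot_iff_forall ((toImg V).ker ⊓ P)).2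
      fun x hx => h1 x hx.2 hx.1, relIndex_bot_left]
  have hC : centralizer (P : Set A) =
      (centralizer (P.map (toImg V) : Set (Img A V))).comap (toImg V) := by
    refine Subgroup.ext fun a => ⟨?_, fun ha y hy => ?_⟩
    · rintro ha _ ⟨y, hy, rfl⟩
      rw [← map_mul, ha y hy, map_mul]
    · have := h1 _ (mul_mem (hn.conj_mem y hy a) (inv_mem hy)) (by
        rw [map_mul, map_mul, map_mul, ← ha _ ⟨y, hy, rfl⟩, map_inv, map_inv]; group)
      rw [mul_inv_eq_one, mul_inv_eq_iff_eq_mul] at this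
      exact this.symm
  rcases psi_step (hc ▸ hP) (hc ▸ h729) img_faithful
    (fun U hU => hirr U fun a => hU (toImg V a)) ih with k | ⟨L, k1, k2, k3⟩
  · exact Or.inl (by rwa [hc, nu_img] at k)
  · refine Or.inr ⟨L.comap (toImg V), hC ▸ comap_mono k1, fun a ha b hb v => ?_, ?_⟩
    · rw [← toImg_smul (a * b), ← toImg_smul (b * a), map_mul, map_mul, k2 _ ha _ hb]
    · rwa [hC, relIndex_comap, map_comap_eq_self_of_surjective toImg_surj,
        index_comap_of_surjective _ toImg_surj]

end CL.KLow
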