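import Mathlib
import Cfsg.Agent.ORD.FullRam
import Cfsg.Agent.CHAR.Prod
import Cfsg.Agent.CHAR.IndMap
import Cfsg.Agent.CHAR.Mackey
import Cfsg.Agent.CHAR.Gallagher
import Cfsg.Agent.CHAR.Constit
import Cfsg.Agent.SOLV.MinNormal

/-! Dade: every finite solvable group embeds in an M-group. -/

set_option autoImplicit false
open Cfsg CL.Char
open scoped ComplexConjugate commutatorElement

namespace CL.Ord

universe u

/-- every irreducible character is induced from a linear character -/
def IsMGrp (M : Type*) [Group M] [Fintype M] : Prop :=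
  ∀ χ : M → ℂ, IsIrrCharacter M χ →
    ∃ (H : Subgroup M) (lam : H →* ℂˣ), χ = indFun H (fun h => (lam h : ℂ))

theorem indFun_pi {ι : Type*} [Fintype ι] [DecidableEq ι] {M : Type*} [Group M] [Fintype M]
    (H : ι → Subgroup M) (θ : ∀ i, H i → ℂ) (y : ι → M) :
    indFun (Subgroup.pi Set.univ H)
      (fun x => ∏ i, θ i ⟨x.1 i, x.2 i (Set.mem_univ i)⟩) y = ∏ i, indFun (H i) (θ i) (y i) := by
  classical
  have h1 : ∀ z : ι → M, extendByZero (Subgroup.pi Set.univ H)
      (fun x => ∏ i, θ i ⟨x.1 i, x.2 i (Set.mem_univ i)⟩) z =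
      ∏ i, extendByZero (H i) (θ i) (z i) := by
    intro z
    by_cases hz : z ∈ Subgroup.pi Set.univ H
    · rw [extendByZero_of_mem _ _ hz]
      exact Finset.prod_congr rfl fun i _ =>
        (extendByZero_of_mem _ _ (hz i (Set.mem_univ i))).symm
    · rw [extendByZero_of_not_mem _ _ hz]
      have : ∃ i, z i ∉ H i := by
        by_contra hc
        push Not at hc
        exact hz fun i _ => hc i
      obtain ⟨i, hi⟩ := this
      exact (Finset.prod_eq_zero (Finset.mem_univ i)
        (extendByZero_of_not_mem (H i) (θ i) hi)).symm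
  have h2 : Nat.card (Subgroup.pi Set.univ H) = ∏ i, Nat.card (H i) := by
    rw [← Nat.card_pi]
    exact Nat.card_congr
      { toFun := fun x i => ⟨x.1 i, x.2 i (Set.mem_univ i)⟩
        invFun := fun x => ⟨fun i => x i, fun i _ => (x i).2⟩
        left_inv := fun _ => rfl
        right_inv := fun _ => rfl }
  simp only [indFun, h1, h2]
  rw [Finset.prod_mul_distrib, Finset.prod_univ_sum, Fintype.piFinset_univ]
  congr 1
  push_cast
  rw [Finset.prod_inv_distrib]

/-- the base group of the wreath product -/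
def wrBase (M Q : Type*) [Group M] [Group Q] : (Q → M) →* (M ≀ᵣ Q) where
  toFun x := ⟨x, 1⟩
  map_one' := rfl
  map_mul' x y := by ext <;> simp

theorem wrBase_injective (M Q : Type*) [Group M] [Group Q] : Function.Injective (wrBase M Q) :=
  fun _ _ h => congrArg RegularWreathProduct.left h

theorem mem_wrBase_range {M Q : Type*} [Group M] [Group Q] (w : M ≀ᵣ Q) :
    w ∈ (wrBase M Q).range ↔ w.right = 1 := by
  constructor
  · rintro ⟨x, rfl⟩; rfl
  · intro h
    exact ⟨w.left, by ext <;> simp [wrBase, h]⟩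

theorem wrBase_range_eq (M Q : Type*) [Group M] [Group Q] :
    (wrBase M Q).range = (RegularWreathProduct.rightHom : M ≀ᵣ Q →* Q).ker := by
  ext w
  rw [mem_wrBase_range, MonoidHom.mem_ker]
  rfl

instance wrBase_normal (M Q : Type*) [Group M] [Group Q] : (wrBase M Q).range.Normal := by
  rw [wrBase_range_eq]; infer_instance

theorem wrBase_index (M Q : Type*) [Group M] [Group Q] :
    (wrBase M Q).range.index = Nat.card Q := by
  rw [wrBase_range_eq, Subgroup.index_ker, MonoidHom.range_eq_top.mpr, Subgroup.card_top]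
  intro q
  exact ⟨RegularWreathProduct.inl q, rfl⟩

/-- the subgroup `H ≀ Q` of `M ≀ Q` -/
def wrSub {M : Type*} [Group M] (Q : Type*) [Group Q] (H : Subgroup M) : Subgroup (M ≀ᵣ Q) where
  carrier := {w | ∀ x, w.left x ∈ H}
  one_mem' := fun _ => H.one_mem
  mul_mem' := fun ha hb x => H.mul_mem (ha x) (hb _)
  inv_mem' := fun ha _ => H.inv_mem (ha _)

/-- the product character of `H ≀ Q` -/
noncomputable def wrLin {M : Type*} [Group M] (Q : Type*) [Group Q] [Fintype Q] {H : Subgroup M}
    (lam : H →* ℂˣ) : wrSub Q H →* ℂˣ where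
  toFun w := ∏ x : Q, lam ⟨w.1.left x, w.2 x⟩
  map_one' := Finset.prod_eq_one fun _ _ => map_one lam
  map_mul' a b := by
    have h1 : ∀ x : Q, lam ⟨(a * b).1.left x, (a * b).2 x⟩ =
        lam ⟨a.1.left x, a.2 x⟩ * lam ⟨b.1.left (a.1.right⁻¹ * x), b.2 _⟩ := by
      intro x
      rw [← map_mul]
      rfl
    simp only [h1]
    rw [Finset.prod_mul_distrib]
    congr 1
    exact Fintype.prod_equiv (Equiv.mulLeft a.1.right⁻¹) _ _ fun _ => rfl

theorem isMGrp_wreath {M Q : Type*} [Group M] [Fintype M] [Group Q] [Finite Q]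
    [Fintype (M ≀ᵣ Q)] (hQ : (Nat.card Q).Prime) (hM : IsMGrp M) : IsMGrp (M ≀ᵣ Q) := by
  classical
  have := Fintype.ofFinite Q
  intro χ hχ
  have := Fintype.ofFinite (wrBase M Q).range
  obtain ⟨θ, hθ, hne⟩ := hχ.exists_under_res (wrBase M Q).range
  have hθ' : IsIrrCharacter (Q → M)
      (fun x => θ (MonoidHom.ofInjective (wrBase_injective M Q) x)) := hθ.comp_mulEquiv _
  obtain ⟨φ, hφ, hθφ⟩ := hθ'.exists_pi
  choose H lam hH using fun i => hM (φ i) (hφ i)
  have hθv : ∀ x, θ (MonoidHom.ofInjective (wrBase_injective M Q) x) = ∏ i, φ i (x i) :=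
    fun x => congrFun hθφ x
  have hidx : (wrBase M Q).range.index.Prime := by rw [wrBase_index]; exact hQ
  have hle := le_inertia hθ.isClassFunction
  rcases (Nat.dvd_prime hidx).mp (Subgroup.index_dvd_of_le hle) with h1 | h1
  · -- invariant case
    have hT : inertia (wrBase M Q).range θ = ⊤ := Subgroup.index_eq_one.mp h1
    have hcyc : IsCyclic ((M ≀ᵣ Q) ⧸ (wrBase M Q).range) := by
      have := Fact.mk hidx
      exact isCyclic_of_prime_card (p := (wrBase M Q).range.index) rfl
    have hres := clifford_of_invariant hχ hθ hT hne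
    rw [inner_res_eq_one_of_isCyclic hcyc hχ hθ hne, one_smul] at hres
    -- all the factors agree
    have hinv : ∀ (q : Q) (x : Q → M), ∏ i, φ i (x (q⁻¹ * i)) = ∏ i, φ i (x i) := by
      intro q x
      rw [← hθv, ← hθv x, ← inertia_eq_top_iff.mp hT (RegularWreathProduct.inl q)
        (MonoidHom.ofInjective (wrBase_injective M Q) x)]
      congr 1
      apply Subtype.ext
      simp only [MonoidHom.ofInjective_apply]
      ext <;> simp [wrBase]
    have hall : ∀ q : Q, φ q = φ 1 := by
      intro q
      have key : ∀ m, φ q m * ∏ i ∈ Finset.univ.erase q, φ i 1 =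
          φ 1 m * ∏ i ∈ Finset.univ.erase 1, φ i 1 := by
        intro m
        have h := hinv q (Pi.mulSingle 1 m)
        rw [← Finset.mul_prod_erase _ _ (Finset.mem_univ q),
          ← Finset.mul_prod_erase _ _ (Finset.mem_univ (1 : Q))] at h
        rw [inv_mul_cancel, Pi.mulSingle_eq_same] at h
        convert h using 2
        · refine Finset.prod_congr rfl fun i hi => ?_
          rw [Pi.mulSingle_eq_of_ne]
          intro e
          exact (Finset.ne_of_mem_erase hi) (by rw [inv_mul_eq_one] at e; exact e.symm)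
        · refine Finset.prod_congr rfl fun i hi => ?_
          rw [Pi.mulSingle_eq_of_ne (Finset.ne_of_mem_erase hi)]
      have hc : ∏ i ∈ Finset.univ.erase q, φ i 1 ≠ 0 :=
        Finset.prod_ne_zero_iff.mpr fun i _ => (hφ i).one_ne_zero
      have hc' : ∏ i ∈ Finset.univ.erase (1 : Q), φ i 1 ≠ 0 :=
        Finset.prod_ne_zero_iff.mpr fun i _ => (hφ i).one_ne_zero
      have e : φ q = ((∏ i ∈ Finset.univ.erase (1 : Q), φ i 1) /
          ∏ i ∈ Finset.univ.erase q, φ i 1) • φ 1 := by
        funext m
        rw [Pi.smul_apply, smul_eq_mul, div_mul_eq_mul_div, eq_div_iff hc, key, mul_comm]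
      refine (eq_of_inner_smul_ne_zero (hφ 1) (hφ q)
        (c := (∏ i ∈ Finset.univ.erase (1 : Q), φ i 1) / ∏ i ∈ Finset.univ.erase q, φ i 1) ?_).symm
      rw [← e, (hφ q).inner_self]
      exact one_ne_zero
    have hsup : wrSub Q (H 1) ⊔ (wrBase M Q).range = ⊤ := by
      rw [eq_top_iff]
      intro w _
      have e : w = wrBase M Q w.left * RegularWreathProduct.inl w.right := by
        ext <;> simp [wrBase]
      rw [e]
      exact Subgroup.mul_mem _ (Subgroup.mem_sup_right ⟨_, rfl⟩)
        (Subgroup.mem_sup_left fun _ => (H 1).one_mem)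
    have hψc : IsCharacter (M ≀ᵣ Q) (indFun (wrSub Q (H 1)) (fun h => (wrLin Q (lam 1) h : ℂ))) :=
      (isIrrCharacter_hom (wrLin Q (lam 1))).isCharacter.ind
    have hψres : ∀ n : (wrBase M Q).range,
        indFun (wrSub Q (H 1)) (fun h => (wrLin Q (lam 1) h : ℂ)) n = θ n := by
      intro n
      obtain ⟨x, rfl⟩ := (MonoidHom.ofInjective (wrBase_injective M Q)).surjective n
      rw [indFun_coe_of_sup_eq_top _ _ hsup (isIrrCharacter_hom (wrLin Q (lam 1))).isClassFunction,
        hθv]
      refine Eq.trans (indFun_comap_of (MonoidHom.ofInjective (wrBase_injective M Q)).toMonoidHom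
        (MonoidHom.ofInjective (wrBase_injective M Q)).surjective
        (H := Subgroup.pi Set.univ (fun _ : Q => H 1))
        (θ := fun x => ∏ i, (fun h : H 1 => (lam 1 h : ℂ)) ⟨x.1 i, x.2 i (Set.mem_univ i)⟩)
        ?_ ?_ x).symm ?_
      rotate_left 2
      · rw [indFun_pi (fun _ : Q => H 1) (fun _ h => (lam 1 h : ℂ))]
        exact Finset.prod_congr rfl fun i _ => by rw [hall i, hH 1]
      · intro y
        exact ⟨fun h i _ => h i, fun h i => h i (Set.mem_univ i)⟩
      · intro y hy hy'
        simp only [wrLin, MonoidHom.coe_mk, OneHom.coe_mk, Units.coe_prod]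
        rfl
    obtain ⟨β, -, hβ⟩ := exists_hom_mul_of_res_eq (N := (wrBase M Q).range) hψc
      (by rw [funext hψres]; exact hθ) hχ.isCharacter
      (fun n => by rw [hψres]; exact congrFun hres n)
    refine ⟨wrSub Q (H 1), (β.comp (wrSub Q (H 1)).subtype) * wrLin Q (lam 1), ?_⟩
    have := indFun_res_mul (wrSub Q (H 1)) (fun h => (wrLin Q (lam 1) h : ℂ))
      (isIrrCharacter_hom β).isClassFunction
    rw [hβ]
    refine Eq.trans ?_ (this.symm.trans ?_)
    · rfl
    · congr 1
  · -- induced case
    have hT : inertia (wrBase M Q).range θ = (wrBase M Q).range := by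
      symm
      apply Subgroup.eq_of_le_of_card_ge hle
      have a1 := (wrBase M Q).range.card_mul_index
      have a2 := (inertia (wrBase M Q).range θ).card_mul_index
      rw [h1, ← a1] at a2
      exact (Nat.eq_of_mul_eq_mul_right hidx.pos a2).le
    have hind := (ind_irr_iff_inertia_eq hθ).mpr hT
    have e : χ = indFun (wrBase M Q).range θ := by
      apply hχ.eq_of_inner_ne_zero hind
      rw [classInner_indFun_right _ hχ.isClassFunction]
      exact hne
    let μ : Subgroup.pi Set.univ H →* ℂˣ :=
      { toFun := fun x => ∏ i, lam i ⟨x.1 i, x.2 i (Set.mem_univ i)⟩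
        map_one' := Finset.prod_eq_one fun i _ => map_one (lam i)
        map_mul' := fun a b => by
          rw [← Finset.prod_mul_distrib]
          exact Finset.prod_congr rfl fun i _ => by rw [← map_mul]; rfl }
    have hθμ : θ = fun y => indFun (Subgroup.pi Set.univ H) (fun h => (μ h : ℂ))
        ((MonoidHom.ofInjective (wrBase_injective M Q)).symm y) := by
      funext y
      obtain ⟨x, rfl⟩ := (MonoidHom.ofInjective (wrBase_injective M Q)).surjective y
      rw [MulEquiv.symm_apply_apply, hθv]
      have := indFun_pi H (fun i h => (lam i h : ℂ)) x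
      simp only [← hH] at this
      rw [← this]
      congr 1
      funext h
      simp only [μ, MonoidHom.coe_mk, OneHom.coe_mk, Units.coe_prod]
    refine ⟨(Subgroup.pi Set.univ H).map (wrBase M Q), μ.comp
      (((Subgroup.pi Set.univ H).equivMapOfInjective _ (wrBase_injective M Q)).symm : _ →* _), ?_⟩
    rw [e, hθμ, indFun_range_indFun]
    rfl

/-- Kaloujnine–Krasner embedding -/
theorem exists_embed_wreath {G M : Type*} [Group G] [Group M] (N : Subgroup G) [N.Normal]
    (f : N →* M) (hf : Function.Injective f) :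
    ∃ F : G →* (M ≀ᵣ (G ⧸ N)), Function.Injective F := by
  have hmem : ∀ (g : G) (q : G ⧸ N),
      (Quotient.out q)⁻¹ * g * Quotient.out ((g : G ⧸ N)⁻¹ * q) ∈ N := by
    intro g q
    rw [← QuotientGroup.eq_one_iff]
    simp
  refine ⟨{ toFun := fun g => ⟨fun q => f ⟨_, hmem g q⟩, (g : G ⧸ N)⟩
            map_one' := ?_
            map_mul' := ?_ }, ?_⟩
  · ext q
    · simp only [RegularWreathProduct.one_left, Pi.one_apply]
      rw [← map_one f]
      congr 1
      apply Subtype.ext
      simp
    · simp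
  · intro a b
    ext q
    · simp only [RegularWreathProduct.mul_left, Pi.mul_apply]
      rw [← map_mul]
      congr 1
      apply Subtype.ext
      simp [mul_assoc]
    · simp
  · rw [injective_iff_map_eq_one]
    intro g hg
    have h1 : (g : G ⧸ N) = 1 := congrArg RegularWreathProduct.right hg
    have h2 : f ⟨_, hmem g 1⟩ = 1 := congrFun (congrArg RegularWreathProduct.left hg) 1
    have h3 := congrArg Subtype.val ((injective_iff_map_eq_one f).mp hf _ h2)
    simp only [h1, inv_one, mul_one, Subgroup.coe_one] at h3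
    have : g = Quotient.out (1 : G ⧸ N) * ((Quotient.out (1 : G ⧸ N))⁻¹ * g *
      Quotient.out (1 : G ⧸ N)) * (Quotient.out (1 : G ⧸ N))⁻¹ := by group
    rw [this, h3]; group

theorem exists_isMGrp_embed (n : ℕ) : ∀ (G : Type u) [Group G] [Finite G], Nat.card G = n →
    Group.IsSolvable G → ∃ (M : Type u) (_ : Group M) (_ : Fintype M), IsMGrp M ∧
      ∃ f : G →* M, Function.Injective f := by
  induction n using Nat.strong_induction_on with
  | _ n ih =>
    intro G _ _ hn hs
    rcases subsingleton_or_nontrivial G with h | h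
    · have := Fintype.ofFinite G
      refine ⟨G, inferInstance, inferInstance, ?_, MonoidHom.id G, Function.injective_id⟩
      intro χ hχ
      have h1 : χ 1 = 1 := hχ.one_eq_one_of_comm (fun a b => Subsingleton.elim _ _)
      refine ⟨⊤, 1, ?_⟩
      funext g
      rw [indFun_top (isIrrCharacter_hom (1 : (⊤ : Subgroup G) →* ℂˣ)).isClassFunction,
        Subsingleton.elim g 1, h1]
      simp
    · obtain ⟨N, hN, hp⟩ := CL.exists_normal_index_prime G
      have hlt : Nat.card N < n := by
        rw [← hn, ← N.card_mul_index]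
        exact lt_mul_of_one_lt_right Nat.card_pos hp.one_lt
      obtain ⟨M, _, _, hM, f, hf⟩ := ih _ hlt N rfl inferInstance
      obtain ⟨F, hF⟩ := exists_embed_wreath N f hf
      have := Fintype.ofFinite (M ≀ᵣ (G ⧸ N))
      exact ⟨M ≀ᵣ (G ⧸ N), inferInstance, inferInstance, isMGrp_wreath hp hM, F, hF⟩

end CL.Ord
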