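import Mathlib

/-!
# The field `𝔽_p(ζ_q)` and invariant alternating maps on it
-/

set_option autoImplicit false

namespace CL.Ord.MS
open Polynomial

variable {K : Type*} [Field K] [Finite K] {p q : ℕ} [hp : Fact p.Prime] [hq : Fact q.Prime]
  [CharP K p]

omit [Finite K] in
theorem orderOf_pos' (hpq : p ≠ q) : 0 < orderOf (p : ZMod q) := by
  have h : (p : ZMod q) ≠ 0 := fun h =>
    hpq ((Nat.prime_dvd_prime_iff_eq hq.out hp.out).1 ((ZMod.natCast_eq_zero_iff p q).1 h)).symm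
  exact (isOfFinOrder_iff_pow_eq_one.2 ⟨q - 1, by have := hq.out.two_le; omega,
    ZMod.pow_card_sub_one_eq_one h⟩).orderOf_pos

omit [CharP K p] in
theorem exists_primitiveRoot (hpq : p ≠ q) (hK : Nat.card K = p ^ orderOf (p : ZMod q)) :
    ∃ ζ : K, IsPrimitiveRoot ζ q := by
  have h1 : q ∣ Nat.card Kˣ := by
    rw [Nat.card_units, hK, ← ZMod.natCast_eq_zero_iff,
      Nat.cast_sub (Nat.one_le_pow _ _ hp.out.pos)]
    simp [pow_orderOf_eq_one]
  obtain ⟨u, hu⟩ := exists_prime_orderOf_dvd_card' q h1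
  exact ⟨u, IsPrimitiveRoot.coe_units_iff.2 (hu ▸ IsPrimitiveRoot.orderOf u)⟩

theorem subring_eq_top (hK : Nat.card K = p ^ orderOf (p : ZMod q)) {ζ : K}
    (hζ : IsPrimitiveRoot ζ q) (S : Subring K) (hS : ζ ∈ S) : S = ⊤ := by
  let := (Finite.isField_of_domain S).toField
  let := Fintype.ofFinite S
  obtain ⟨b, -, hb⟩ := FiniteField.card S p
  have h1 : ζ ^ p ^ (b : ℕ) = ζ := by
    have := congrArg Subtype.val (FiniteField.pow_card (⟨ζ, hS⟩ : S))
    rwa [hb] at this
  have h2 : ζ ^ (p ^ (b : ℕ) - 1) = 1 := by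
    have h0 := hζ.ne_zero hq.out.ne_zero
    refine mul_right_cancel₀ h0 ?_
    rw [← pow_succ, Nat.sub_add_cancel (Nat.one_le_pow _ _ hp.out.pos), h1, one_mul]
  have h3 : (p : ZMod q) ^ (b : ℕ) = 1 := by
    have := (ZMod.natCast_eq_zero_iff _ _).2 (hζ.dvd_of_pow_eq_one _ h2)
    rw [Nat.cast_sub (Nat.one_le_pow _ _ hp.out.pos), sub_eq_zero] at this
    simpa using this
  have h4 : Nat.card K ≤ Nat.card S := by
    rw [hK, Nat.card_eq_fintype_card, hb]
    exact Nat.pow_le_pow_right hp.out.pos (Nat.le_of_dvd b.pos (orderOf_dvd_of_pow_eq_one h3))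
  exact Subring.toAddSubgroup_injective
    (AddSubgroup.eq_top_of_le_card S.toAddSubgroup h4)

theorem addSubgroup_eq_top (hK : Nat.card K = p ^ orderOf (p : ZMod q)) {ζ : K}
    (hζ : IsPrimitiveRoot ζ q) (A : AddSubgroup K) (hA : ∀ x ∈ A, ζ * x ∈ A) {x : K} (hx : x ∈ A)
    (h0 : x ≠ 0) (y : K) : y ∈ A := by
  let S : Subring K :=
    { carrier := {c | ∀ x ∈ A, c * x ∈ A}
      mul_mem' := fun ha hb x hx => by rw [mul_assoc]; exact ha _ (hb x hx)
      one_mem' := fun x hx => by rwa [one_mul]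
      add_mem' := fun ha hb x hx => by rw [add_mul]; exact A.add_mem (ha x hx) (hb x hx)
      zero_mem' := fun x _ => by rw [zero_mul]; exact A.zero_mem
      neg_mem' := fun ha x hx => by rw [neg_mul]; exact A.neg_mem (ha x hx) }
  have h1 : y / x ∈ S := subring_eq_top hK hζ S hA ▸ Subring.mem_top _
  exact div_mul_cancel₀ y h0 ▸ h1 x hx

/-- The data of an involution inverting `ζ`, for even degree. -/
theorem exists_conj (hK : Nat.card K = p ^ orderOf (p : ZMod q)) {ζ : K}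
    (hζ : IsPrimitiveRoot ζ q) {m : ℕ} (hm : orderOf (p : ZMod q) = 2 * m) (hm0 : 0 < m) :
    ∃ σ : K →+* K, σ ζ * ζ = 1 ∧ (∀ v, σ (σ v) = v) ∧
      ∀ (ε : K) (A : AddSubgroup K), (∀ v ∈ A, σ v = ε * v) → Nat.card A ≤ p ^ m := by
  let := Fintype.ofFinite K
  refine ⟨iterateFrobenius K p m, ?_, fun v => ?_, fun ε A hA => ?_⟩
  · rw [iterateFrobenius_def, ← pow_succ, hζ.pow_eq_one_iff_dvd, ← ZMod.natCast_eq_zero_iff]
    have h1 : (p : ZMod q) ^ m * (p : ZMod q) ^ m = 1 := by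
      rw [← pow_add, ← two_mul, ← hm, pow_orderOf_eq_one]
    rcases mul_self_eq_one_iff.1 h1 with h | h
    · exact absurd h (pow_ne_one_of_lt_orderOf hm0.ne' (by omega))
    · simp [h]
  · rw [iterateFrobenius_def, iterateFrobenius_def, ← pow_mul, ← pow_add, ← two_mul, ← hm, ← hK,
      Nat.card_eq_fintype_card, FiniteField.pow_card]
  · classical
    have h1 : 1 < p ^ m := Nat.one_lt_pow hm0.ne' hp.out.one_lt
    have h2 : (X ^ p ^ m - C ε * X : K[X]).natDegree = p ^ m := by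
      rw [natDegree_sub_eq_left_of_natDegree_lt] <;> rw [natDegree_X_pow]
      exact (natDegree_C_mul_le _ _).trans_lt (by rwa [natDegree_X])
    have h3 : (X ^ p ^ m - C ε * X : K[X]) ≠ 0 := fun h => by rw [h, natDegree_zero] at h2; omega
    have h4 := card_le_degree_of_subset_roots (p := (X ^ p ^ m - C ε * X : K[X]))
      (Z := (A : Set K).toFinset) fun v hv => by
        have := hA v (by simpa using hv)
        rw [iterateFrobenius_def] at this
        simp [mem_roots h3, this]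
    rw [h2, ← Set.ncard_eq_toFinset_card'] at h4
    exact h4

section Alt
variable {M : Type*} [AddCommGroup M]

theorem alt_eq (hK : Nat.card K = p ^ orderOf (p : ZMod q)) {ζ : K} (hζ : IsPrimitiveRoot ζ q)
    (c : K →+ K →+ M) (hc : ∀ u v, c (ζ * u) (ζ * v) = c u v) (σ : K →+* K) (hσ : σ ζ * ζ = 1)
    (u v : K) : c u v = c 1 (σ u * v) := by
  let A : AddSubgroup K :=
    { carrier := {u | ∀ v, c u v = c 1 (σ u * v)}
      add_mem' := fun ha hb v => by
        rw [map_add, AddMonoidHom.add_apply, ha, hb, map_add, add_mul, map_add]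
      zero_mem' := fun v => by simp
      neg_mem' := fun ha v => by rw [map_neg, AddMonoidHom.neg_apply, ha, map_neg, neg_mul, map_neg] }
  refine addSubgroup_eq_top hK hζ A (fun x hx v => ?_) (x := 1) (fun v => by simp) one_ne_zero u v
  have e : ζ * (σ ζ * v) = v := by rw [← mul_assoc, mul_comm ζ, hσ, one_mul]
  rw [map_mul σ, mul_comm (σ ζ), mul_assoc, ← hx, ← hc x, e]

theorem alt_mem (hK : Nat.card K = p ^ orderOf (p : ZMod q)) {ζ : K} (hζ : IsPrimitiveRoot ζ q)
    (c : K →+ K →+ M) (hc : ∀ u v, c (ζ * u) (ζ * v) = c u v) (u v : K) : c u v ∈ (c 1).range := by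
  let A : AddSubgroup K :=
    { carrier := {u | ∀ v, c u v ∈ (c 1).range}
      add_mem' := fun ha hb v => by
        rw [map_add, AddMonoidHom.add_apply]; exact add_mem (ha v) (hb v)
      zero_mem' := fun v => by simp
      neg_mem' := fun ha v => by rw [map_neg, AddMonoidHom.neg_apply]; exact neg_mem (ha v) }
  refine addSubgroup_eq_top hK hζ A (fun x hx v => ?_) (x := 1) (fun v => ⟨v, rfl⟩) one_ne_zero u v
  rw [← mul_inv_cancel_left₀ (hζ.ne_zero hq.out.ne_zero) v, hc]
  exact hx _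

theorem alt_odd (hK : Nat.card K = p ^ orderOf (p : ZMod q)) {ζ : K} (hζ : IsPrimitiveRoot ζ q)
    (c : K →+ K →+ M) (hc : ∀ u v, c (ζ * u) (ζ * v) = c u v) (ha : ∀ u v, c u v + c v u = 0)
    (hodd : Odd (orderOf (p : ZMod q))) : c 1 = 0 := by
  let := ZMod.algebra K p
  have h0 := hζ.ne_zero hq.out.ne_zero
  have h1 : ∀ (n : ℕ) (v : K), c (ζ ^ n) v = c 1 (ζ⁻¹ ^ n * v) := by
    intro n
    induction n with
    | zero => simp
    | succ n ih =>
      intro v
      rw [← mul_inv_cancel_left₀ h0 v, pow_succ', hc, ih, mul_inv_cancel_left₀ h0, pow_succ,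
        mul_assoc]
  have h2 : ∀ (g : (ZMod p)[X]) (v : K), c (aeval ζ g) v = c 1 (aeval ζ⁻¹ g * v) := by
    intro g v
    induction g using Polynomial.induction_on' with
    | add f g hf hg => rw [map_add, map_add, AddMonoidHom.add_apply, hf, hg, map_add, add_mul, map_add]
    | monomial n r =>
      obtain ⟨k, rfl⟩ := ZMod.natCast_zmod_surjective r
      rw [aeval_monomial, aeval_monomial, map_natCast, mul_assoc, ← nsmul_eq_mul, ← nsmul_eq_mul,
        map_nsmul, map_nsmul, AddMonoidHom.nsmul_apply, h1]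
  by_cases h3 : aeval ζ⁻¹ (minpoly (ZMod p) ζ) = 0
  swap
  · ext v
    rw [← mul_inv_cancel_left₀ h3 v, ← h2, minpoly.aeval]
    simp
  obtain ⟨σ, hσ⟩ := minpoly.exists_algEquiv_of_root' (Algebra.IsAlgebraic.isAlgebraic ζ) h3
  have h4 : σ ^ 2 = 1 := by
    have := subring_eq_top hK hζ (((σ ^ 2 : K ≃ₐ[ZMod p] K) : K →+* K).eqLocus (RingHom.id K))
      (by
        change (σ ^ 2) ζ = ζ
        rw [pow_two, AlgEquiv.mul_apply, hσ, map_inv₀, hσ, inv_inv])
    ext v
    exact (this ▸ Subring.mem_top v :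
      v ∈ ((σ ^ 2 : K ≃ₐ[ZMod p] K) : K →+* K).eqLocus (RingHom.id K))
  have h5 : Nat.card (K ≃ₐ[ZMod p] K) = orderOf (p : ZMod q) := by
    rw [IsGalois.card_aut_eq_finrank]
    exact Nat.pow_right_injective hp.out.two_le
      ((FiniteField.pow_finrank_eq_natCard p K).trans hK)
  have h6 : σ = 1 := orderOf_eq_one_iff.1 (Nat.eq_one_of_dvd_coprimes
    (Nat.coprime_two_left.2 hodd) (orderOf_dvd_of_pow_eq_one h4) (h5 ▸ orderOf_dvd_natCard σ))
  rw [h6, AlgEquiv.one_apply] at hσ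
  have h7 : ζ * ζ = 1 := by nth_rw 1 [hσ]; exact inv_mul_cancel₀ h0
  have h8 : (2 : K) ≠ 0 := fun h => hζ.ne_one hq.out.one_lt (by
    rcases mul_self_eq_one_iff.1 h7 with h' | h'
    · exact h'
    · linear_combination h' - h)
  ext v
  have h9 := ha 1 (v / 2)
  rw [alt_eq hK hζ c hc (RingHom.id K) h7 (v / 2) 1, ← map_add] at h9
  rwa [RingHom.id_apply, mul_one, ← add_div, ← mul_two, mul_div_cancel_right₀ _ h8] at h9

theorem alt_card (hpq : p ≠ q) (hK : Nat.card K = p ^ orderOf (p : ZMod q)) {ζ : K}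
    (hζ : IsPrimitiveRoot ζ q) (c : K →+ K →+ M) (hc : ∀ u v, c (ζ * u) (ζ * v) = c u v)
    (ha : ∀ u v, c u v + c v u = 0) {a₀ : ℕ}
    (ha₀ : a₀ = if orderOf (p : ZMod q) % 2 = 1 then orderOf (p : ZMod q)
      else 3 * orderOf (p : ZMod q) / 2) :
    Nat.card K * Nat.card (c 1).range ≤ p ^ a₀ := by
  rcases Nat.even_or_odd' (orderOf (p : ZMod q)) with ⟨m, hm | hm⟩
  · have hm0 : 0 < m := by have := orderOf_pos' hpq; omega
    obtain ⟨σ, h1, -, h3⟩ := exists_conj hK hζ hm hm0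
    let T : K →+ K := σ.toAddMonoidHom + AddMonoidHom.id K
    have h4 : Nat.card T.ker ≤ p ^ m := h3 (-1) _ fun v hv => by
      have : σ v + v = 0 := hv
      linear_combination this
    have h5 : T.range ≤ (c 1).ker := by
      rintro _ ⟨v, rfl⟩
      change c 1 (σ v + v) = 0
      rw [map_add, ← ha v 1, alt_eq hK hζ c hc σ h1 v 1, mul_one]
    have h6 := AddSubgroup.card_le_of_le h5
    have h7 := T.ker.card_mul_index
    have h8 := (c 1).ker.card_mul_index
    rw [AddSubgroup.index_ker] at h7 h8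
    have h9 : Nat.card (c 1).range ≤ p ^ m := by
      have hpos : 0 < Nat.card T.range := Nat.card_pos
      refine Nat.le_of_mul_le_mul_left ?_ hpos
      calc _ ≤ Nat.card (c 1).ker * Nat.card (c 1).range := Nat.mul_le_mul_right _ h6
        _ = Nat.card T.ker * Nat.card T.range := h8.trans h7.symm
        _ ≤ _ := by rw [mul_comm]; exact Nat.mul_le_mul_left _ h4
    rw [ha₀, hK, hm, if_neg (by omega), show 3 * (2 * m) / 2 = 2 * m + m by omega, pow_add]
    exact Nat.mul_le_mul_left _ h9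
  · rw [alt_odd hK hζ c hc ha ⟨m, hm⟩, ha₀, if_pos (by omega), hK]
    simp

end Alt

end CL.Ord.MS
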