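import Mathlib
import Cfsg.Agent.ORD.SchmidtField
import Cfsg.Agent.PLOC.PFrattini

/-!
# Central extensions of `𝔽_p(ζ_q)` with an operator of order `q`
-/

set_option autoImplicit false

namespace CL.Ord.MS
open Subgroup
open scoped commutatorElement IsMulCommutative

variable {K : Type*} [Field K]

/-- `P` is a central extension of the additive group of `K`; the operator `α` induces
multiplication by `ζ` and fixes the kernel. -/
structure Tri (ζ : K) (q : ℕ) {P : Type*} [Group P] (α : P →* P) (π : P →* Multiplicative K) :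
    Prop where
  surj : Function.Surjective π
  equiv : ∀ g, (π (α g)).toAdd = ζ * (π g).toAdd
  cent : ∀ g, π g = 1 → g ∈ center P
  fix : ∀ g, π g = 1 → α g = g
  pow : ∀ g, α^[q] g = g

variable {P : Type*} [Group P] {α : P →* P} {π : P →* Multiplicative K} {ζ : K} {p q : ℕ}

theorem Tri.equiv_iterate (h : Tri ζ q α π) (k : ℕ) (g : P) :
    (π (α^[k] g)).toAdd = ζ ^ k * (π g).toAdd := by
  induction k with
  | zero => simp
  | succ k ih => rw [Function.iterate_succ_apply', h.equiv, ih, pow_succ', mul_assoc]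

theorem Tri.iterate (h : Tri ζ q α π) (k : ℕ) {β : P →* P} (hβ : ∀ g, β g = α^[k] g) :
    Tri (ζ ^ k) q β π where
  surj := h.surj
  equiv g := by rw [hβ, h.equiv_iterate]
  cent := h.cent
  fix g hg := by rw [hβ, Function.iterate_fixed (h.fix g hg)]
  pow g := by
    rw [show (β : P → P) = α^[k] from funext hβ, ← Function.iterate_mul, mul_comm,
      Function.iterate_mul, show α^[q] = id from funext h.pow, Function.iterate_id, id]

theorem Tri.comm_mem (h : Tri ζ q α π) (g k : P) : ⁅g, k⁆ ∈ center P :=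
  h.cent _ (by rw [map_commutatorElement, commutatorElement_eq_one_iff_mul_comm, mul_comm])

theorem Tri.comm_mul_left (h : Tri ζ q α π) (g g' k : P) : ⁅g * g', k⁆ = ⁅g, k⁆ * ⁅g', k⁆ := by
  rw [show ⁅g * g', k⁆ = g * ⁅g', k⁆ * g⁻¹ * ⁅g, k⁆ by simp only [commutatorElement_def]; group,
    mem_center_iff.1 (h.comm_mem g' k) g, mul_inv_cancel_right, mem_center_iff.1 (h.comm_mem g k)]

theorem Tri.comm_left (h : Tri ζ q α π) {g g' : P} (e : π g = π g') (k : P) : ⁅g, k⁆ = ⁅g', k⁆ := by
  have h1 := h.cent (g'⁻¹ * g) (by rw [map_mul, map_inv, e, inv_mul_cancel])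
  rw [← mul_inv_cancel_left g' g, h.comm_mul_left,
    commutatorElement_eq_one_iff_mul_comm.2 (mem_center_iff.1 h1 k).symm, mul_one]

theorem Tri.comm_congr (h : Tri ζ q α π) {g g' k k' : P} (e : π g = π g') (e' : π k = π k') :
    ⁅g, k⁆ = ⁅g', k'⁆ := by
  rw [h.comm_left e, ← commutatorElement_inv, h.comm_left e', commutatorElement_inv]

theorem Tri.comm_mul_right (h : Tri ζ q α π) (g k k' : P) : ⁅g, k * k'⁆ = ⁅g, k⁆ * ⁅g, k'⁆ := by
  rw [← commutatorElement_inv, h.comm_mul_left, mul_inv_rev, commutatorElement_inv,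
    commutatorElement_inv, mem_center_iff.1 (h.comm_mem g k)]

theorem Tri.card_commutator [Finite K] [Finite P] [Fact p.Prime] [Fact q.Prime] [CharP K p]
    (hpq : p ≠ q) (hK : Nat.card K = p ^ orderOf (p : ZMod q)) (hζ : IsPrimitiveRoot ζ q)
    (h : Tri ζ q α π) {a₀ : ℕ}
    (ha₀ : a₀ = if orderOf (p : ZMod q) % 2 = 1 then orderOf (p : ZMod q)
      else 3 * orderOf (p : ZMod q) / 2) :
    Nat.card K * Nat.card (commutator P) ≤ p ^ a₀ := by
  choose s hs using fun u : K => h.surj (Multiplicative.ofAdd u)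
  have hs2 : ∀ u v, π (s (u + v)) = π (s u * s v) := fun u v => by rw [map_mul, hs, hs, hs, ofAdd_add]
  let c : K →+ K →+ Additive (center P) := AddMonoidHom.mk' (fun u => AddMonoidHom.mk'
    (fun v => Additive.ofMul ⟨⁅s u, s v⁆, h.comm_mem _ _⟩) fun v w => by
      rw [← ofMul_mul]
      exact congrArg _ (Subtype.ext ((h.comm_congr rfl (hs2 v w)).trans (h.comm_mul_right ..))))
    fun u w => AddMonoidHom.ext fun v => by
      simp only [AddMonoidHom.add_apply, AddMonoidHom.mk'_apply]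
      rw [← ofMul_mul]
      exact congrArg _ (Subtype.ext ((h.comm_congr (hs2 u w) rfl).trans (h.comm_mul_left ..)))
  have hc : ∀ u v, ((c u v).toMul : P) = ⁅s u, s v⁆ := fun u v => rfl
  have h1 : ∀ u v, c (ζ * u) (ζ * v) = c u v := fun u v => by
    refine Additive.toMul.injective (Subtype.ext ?_)
    have e : ∀ u, π (s (ζ * u)) = π (α (s u)) := fun u =>
      Multiplicative.toAdd.injective (by rw [h.equiv, hs, hs]; rfl)
    rw [hc, hc, h.comm_congr (e u) (e v), ← map_commutatorElement, h.fix]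
    rw [map_commutatorElement, commutatorElement_eq_one_iff_mul_comm, mul_comm]
  have h2 : ∀ u v, c u v + c v u = 0 := fun u v => by
    refine Additive.toMul.injective (Subtype.ext ?_)
    change ⁅s u, s v⁆ * ⁅s v, s u⁆ = 1
    rw [← commutatorElement_inv, inv_mul_cancel]
  refine le_trans (Nat.mul_le_mul_left _ ?_) (alt_card hpq hK hζ c h1 h2 ha₀)
  have h3 : commutator P ≤ (AddSubgroup.toSubgroup' (c 1).range).map (center P).subtype := by
    rw [commutator_def, commutator_le]
    intro g _ k _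
    refine ⟨(c (π g).toAdd (π k).toAdd).toMul, alt_mem hK hζ c h1 _ _, ?_⟩
    exact h.comm_congr (hs _) (hs _)
  refine (card_le_of_le h3).trans ?_
  rw [card_map_of_injective (center P).subtype_injective]
  rfl

theorem Tri.exists_core [Fact p.Prime] [Fact q.Prime] (hpq : p ≠ q) (hζ : ζ ≠ 1)
    (hP : IsPGroup p P) (h : Tri ζ q α π) :
    ∃ C : Subgroup P, C.Normal ∧ (∀ g ∈ C, α g ∈ C) ∧ (∀ u, ∃ g ∈ C, π g = u) ∧
      ∀ z ∈ C, π z = 1 → z ∈ commutator P := by
  let N : P →* Abelianization P := MonoidHom.mk'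
    (fun g => ∏ i ∈ Finset.range q, Abelianization.of (α^[i] g)) fun a b => by
      simp only [iterate_map_mul, map_mul, Finset.prod_mul_distrib]
  have hN : ∀ g, N (α g) = N g := fun g => by
    have h1 := Finset.prod_range_succ (fun i => Abelianization.of (α^[i] g)) q
    rw [Finset.prod_range_succ', h.pow] at h1
    exact mul_right_cancel h1
  refine ⟨N.ker, inferInstance, fun g hg => by rwa [MonoidHom.mem_ker, hN], fun u => ?_,
    fun z hz h1 => ?_⟩
  · obtain ⟨g, hg⟩ := h.surj (Multiplicative.ofAdd (u.toAdd / (ζ - 1)))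
    refine ⟨g⁻¹ * α g, by rw [MonoidHom.mem_ker, map_mul, map_inv, hN, inv_mul_cancel],
      Multiplicative.toAdd.injective ?_⟩
    rw [map_mul, map_inv, toAdd_mul, toAdd_inv, h.equiv, hg, toAdd_ofAdd]
    field_simp [sub_ne_zero.2 hζ]
    ring
  · have h2 : Abelianization.of z ^ q = 1 := by
      have : N z = 1 := hz
      simpa [N, Function.iterate_fixed (h.fix z h1)] using this
    obtain ⟨k, hk⟩ := hP z
    have h3 : Abelianization.of z ^ p ^ k = 1 := by rw [← map_pow, hk, map_one]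
    rw [← Abelianization.ker_of, MonoidHom.mem_ker, ← orderOf_eq_one_iff]
    exact Nat.eq_one_of_dvd_coprimes (Nat.Coprime.pow_left k
      ((Nat.coprime_primes Fact.out Fact.out).2 hpq)) (orderOf_dvd_of_pow_eq_one h3)
      (orderOf_dvd_of_pow_eq_one h2)

theorem eq_top_of_reduced [Finite P] [Fact p.Prime] (hP : IsPGroup p P)
    (hr : ∀ z, π z = 1 → z ∈ commutator P) {H : Subgroup P} (hH : ∀ g, ∃ k ∈ H, π k = π g) :
    H = ⊤ := by
  refine PG.eq_top_of_sup_commutator hP (eq_top_iff.2 fun g _ => ?_)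
  obtain ⟨k, hk, e⟩ := hH g
  rw [← mul_inv_cancel_left k g]
  exact mul_mem_sup hk (hr _ (by rw [map_mul, map_inv, e, inv_mul_cancel]))

/-- A reduced extension of the largest order maps onto every reduced extension. -/
theorem Tri.universal [Finite K] [Finite P] [Fact p.Prime] [hq : Fact q.Prime] [CharP K p]
    (hpq : p ≠ q) (hK : Nat.card K = p ^ orderOf (p : ZMod q)) (hζ : IsPrimitiveRoot ζ q)
    {a₀ : ℕ} (ha₀ : a₀ = if orderOf (p : ZMod q) % 2 = 1 then orderOf (p : ZMod q)
      else 3 * orderOf (p : ZMod q) / 2)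
    {P₀ : Type*} [Group P₀] [Finite P₀] {α₀ : P₀ →* P₀} {π₀ : P₀ →* Multiplicative K}
    (h₀ : Tri ζ q α₀ π₀) (hr₀ : ∀ z, π₀ z = 1 → z ∈ commutator P₀) (hc : Nat.card P₀ = p ^ a₀)
    (h : Tri ζ q α π) (hr : ∀ z, π z = 1 → z ∈ commutator P) (hP : IsPGroup p P) :
    ∃ ψ : P₀ →* P, Function.Surjective ψ ∧ (∀ g, ψ (α₀ g) = α (ψ g)) ∧ ∀ g, π (ψ g) = π₀ g := by
  have hP₀ : IsPGroup p P₀ := IsPGroup.of_card hc
  let F : Subgroup (P₀ × P) := (π₀.comp (MonoidHom.fst _ _)).eqLocus (π.comp (MonoidHom.snd _ _))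
  have hF : ∀ g : F, π₀ g.1.1 = π g.1.2 := fun g => g.2
  let β : F →* F := ((α₀.prodMap α).comp F.subtype).codRestrict F fun g =>
    Multiplicative.toAdd.injective (by
      change (π₀ (α₀ g.1.1)).toAdd = (π (α g.1.2)).toAdd
      rw [h₀.equiv, h.equiv, hF])
  let f₁ : F →* P₀ := (MonoidHom.fst _ _).comp F.subtype
  let f₂ : F →* P := (MonoidHom.snd _ _).comp F.subtype
  have hT : Tri ζ q β (π₀.comp f₁) :=
    { surj := fun u => by
        obtain ⟨g, hg⟩ := h₀.surj u
        obtain ⟨k, hk⟩ := h.surj u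
        exact ⟨⟨(g, k), hg.trans hk.symm⟩, hg⟩
      equiv := fun g => h₀.equiv _
      cent := fun g hg => mem_center_iff.2 fun k => Subtype.ext (Prod.ext
        (mem_center_iff.1 (h₀.cent _ hg) _) (mem_center_iff.1 (h.cent _ ((hF g).symm.trans hg)) _))
      fix := fun g hg => Subtype.ext (Prod.ext (h₀.fix _ hg) (h.fix _ ((hF g).symm.trans hg)))
      pow := fun g => Subtype.ext (Prod.ext
        (((show Function.Semiconj f₁ β α₀ from fun _ => rfl).iterate_right q g).trans (h₀.pow _))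
        (((show Function.Semiconj f₂ β α from fun _ => rfl).iterate_right q g).trans (h.pow _))) }
  have hPF : IsPGroup p F := fun g => by
    obtain ⟨a, ha⟩ := hP₀ g.1.1
    obtain ⟨b, hb⟩ := hP g.1.2
    refine ⟨a + b, Subtype.ext (Prod.ext ?_ ?_)⟩
    · change g.1.1 ^ p ^ (a + b) = 1
      rw [pow_add, pow_mul, ha, one_pow]
    · change g.1.2 ^ p ^ (a + b) = 1
      rw [pow_add, mul_comm, pow_mul, hb, one_pow]
  obtain ⟨C, -, c1, c2, c3⟩ := hT.exists_core hpq (hζ.ne_one hq.out.one_lt) hPF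
  have s1 : Function.Surjective (f₁.comp C.subtype) := MonoidHom.range_eq_top.1
    (eq_top_of_reduced hP₀ hr₀ fun g => by
      obtain ⟨k, hk, e⟩ := c2 (π₀ g)
      exact ⟨_, ⟨⟨k, hk⟩, rfl⟩, e⟩)
  have s2 : Function.Surjective (f₂.comp C.subtype) := MonoidHom.range_eq_top.1
    (eq_top_of_reduced hP hr fun g => by
      obtain ⟨k, hk, e⟩ := c2 (π g)
      exact ⟨_, ⟨⟨k, hk⟩, rfl⟩, (hF k).symm.trans e⟩)
  have hcard : Nat.card C ≤ Nat.card P₀ := by
    rw [hc]
    refine le_trans ?_ (hT.card_commutator hpq hK hζ ha₀)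
    rw [← ((π₀.comp f₁).comp C.subtype).ker.index_mul_card, index_ker]
    refine Nat.mul_le_mul (card_le_card_group _) ?_
    exact Nat.card_le_card_of_injective (fun z => (⟨z.1.1, c3 _ z.1.2 z.2⟩ : commutator F))
      fun z w e => Subtype.ext (Subtype.ext (congrArg (fun y : commutator F => (y : F)) e))
  let e := MulEquiv.ofBijective _ (s1.bijective_of_nat_card_le hcard)
  refine ⟨(f₂.comp C.subtype).comp e.symm.toMonoidHom, s2.comp e.symm.surjective, fun g => ?_,
    fun g => ?_⟩ <;> obtain ⟨k, rfl⟩ := e.surjective g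
  · have : α₀ (e k) = e ⟨β k, c1 _ k.2⟩ := rfl
    rw [this]
    simp only [MonoidHom.comp_apply, MulEquiv.coe_toMonoidHom, MulEquiv.symm_apply_apply]
    rfl
  · simp only [MonoidHom.comp_apply, MulEquiv.coe_toMonoidHom, MulEquiv.symm_apply_apply]
    exact (hF k).symm

end CL.Ord.MS
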