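import Mathlib
import Cfsg.Agent.ORD.MaxSchmidt
import Cfsg.Agent.SOLV.Schmidt
import Cfsg.Agent.PLOC.Ito
import Cfsg.Agent.PLOC.NPC

/-!
# The largest Schmidt group of a given type
-/

set_option autoImplicit false

namespace CL.Ord.MS
open Subgroup Cfsg
open scoped commutatorElement

universe u

variable {K : Type u} [Field K] {p q : ℕ}

/-- The group `K × W` twisted by a biadditive map. -/
@[ext] structure Heis {W : Type u} [AddCommGroup W] (β : K →+ K →+ W) : Type u where
  u : K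
  w : W

namespace Heis
variable {W : Type u} [AddCommGroup W] {β : K →+ K →+ W}

instance : Mul (Heis β) := ⟨fun a b => ⟨a.u + b.u, a.w + b.w + β a.u b.u⟩⟩
instance : One (Heis β) := ⟨⟨0, 0⟩⟩
instance : Inv (Heis β) := ⟨fun a => ⟨-a.u, -a.w + β a.u a.u⟩⟩

@[simp] theorem mul_u (a b : Heis β) : (a * b).u = a.u + b.u := rfl
@[simp] theorem mul_w (a b : Heis β) : (a * b).w = a.w + b.w + β a.u b.u := rfl
@[simp] theorem one_u : (1 : Heis β).u = 0 := rfl
@[simp] theorem one_w : (1 : Heis β).w = 0 := rfl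
@[simp] theorem inv_u (a : Heis β) : a⁻¹.u = -a.u := rfl
@[simp] theorem inv_w (a : Heis β) : a⁻¹.w = -a.w + β a.u a.u := rfl

instance : Group (Heis β) := Group.ofLeftAxioms
  (fun a b c => by ext <;> simp <;> abel) (fun a => by ext <;> simp) fun a => by ext <;> simp

theorem card : Nat.card (Heis β) = Nat.card K * Nat.card W := by
  rw [← Nat.card_prod]
  exact Nat.card_congr ⟨fun a => (a.u, a.w), fun a => ⟨a.1, a.2⟩, fun _ => rfl, fun _ => rfl⟩

theorem exists_tri {ζ : K} (hζ : ζ ^ q = 1) (h1 : ∀ u v, β (ζ * u) (ζ * v) = β u v)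
    (h2 : ∀ w, ∃ u v, β u v - β v u = w) :
    ∃ (α : Heis β →* Heis β) (π : Heis β →* Multiplicative K), Tri ζ q α π ∧
      ∀ z, π z = 1 → z ∈ commutator (Heis β) := by
  let α : Heis β →* Heis β := MonoidHom.mk' (fun a => ⟨ζ * a.u, a.w⟩) fun a b => by
    ext <;> simp [mul_add, h1]
  have hα : ∀ (k : ℕ) (a : Heis β), α^[k] a = ⟨ζ ^ k * a.u, a.w⟩ := by
    intro k a
    induction k with
    | zero => simp
    | succ k ih => rw [Function.iterate_succ_apply', ih, pow_succ', mul_assoc]; rfl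
  refine ⟨α, MonoidHom.mk' (fun a => Multiplicative.ofAdd a.u) fun a b => rfl,
    ⟨fun u => ⟨⟨u.toAdd, 0⟩, rfl⟩, fun g => rfl, fun g hg => mem_center_iff.2 fun k => ?_,
      fun g hg => ?_, fun g => by rw [hα, hζ, one_mul]⟩, fun g hg => ?_⟩ <;>
    have h0 : g.u = 0 := hg
  · ext <;> simp [h0, add_comm]
  · ext
    · change ζ * g.u = g.u
      rw [h0, mul_zero]
    · rfl
  · obtain ⟨u, v, e⟩ := h2 g.w
    have : g = ⁅(⟨u, 0⟩ : Heis β), (⟨v, 0⟩ : Heis β)⁆ := by
      rw [commutatorElement_def]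
      ext <;> simp [h0, ← e]
      abel
    exact this ▸ commutator_mem_commutator (mem_top _) (mem_top _)

end Heis

theorem exists_max [Finite K] [hp : Fact p.Prime] [hq : Fact q.Prime] [CharP K p]
    (hpq : p ≠ q) (hK : Nat.card K = p ^ orderOf (p : ZMod q)) {ζ : K} (hζ : IsPrimitiveRoot ζ q)
    {a₀ : ℕ} (ha₀ : a₀ = if orderOf (p : ZMod q) % 2 = 1 then orderOf (p : ZMod q)
      else 3 * orderOf (p : ZMod q) / 2) :
    ∃ (P : Type u) (_ : Group P) (α : P →* P) (π : P →* Multiplicative K), Tri ζ q α π ∧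
      (∀ z, π z = 1 → z ∈ commutator P) ∧ Nat.card P = p ^ a₀ := by
  rcases Nat.even_or_odd' (orderOf (p : ZMod q)) with ⟨m, hm | hm⟩
  · have hm0 : 0 < m := by have := orderOf_pos' hpq; omega
    obtain ⟨σ, h1, h2, h3⟩ := exists_conj hK hζ hm hm0
    let T : K →+ K := AddMonoidHom.id K - σ.toAddMonoidHom
    have hT : ∀ v, T v = v - σ v := fun v => rfl
    have hlt : p ^ m < Nat.card K := by
      rw [hK, hm]; exact Nat.pow_lt_pow_right hp.out.one_lt (by omega)
    obtain ⟨δ, hδ⟩ : ∃ δ : K, δ + σ δ = 1 := by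
      obtain ⟨d, hd⟩ : ∃ d : K, d + σ d ≠ 0 := by
        by_contra h
        push Not at h
        have := h3 (-1) ⊤ fun v _ => by linear_combination h v
        rw [AddSubgroup.card_top] at this
        omega
      refine ⟨d / (d + σ d), ?_⟩
      rw [map_div₀, map_add, h2, add_comm (σ d), ← add_div, div_self hd]
    let β : K →+ K →+ T.range := AddMonoidHom.mk' (fun u => AddMonoidHom.mk'
      (fun v => T.rangeRestrict (δ * σ u * v)) fun v w => by rw [mul_add, map_add])
      fun u w => AddMonoidHom.ext fun v => by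
        simp only [AddMonoidHom.add_apply, AddMonoidHom.mk'_apply]
        rw [map_add, mul_add, add_mul, map_add]
    obtain ⟨α, π, t1, t2⟩ := Heis.exists_tri (β := β) hζ.pow_eq_one (fun u v => by
      change T.rangeRestrict _ = T.rangeRestrict _
      congr 1
      rw [map_mul]
      linear_combination (δ * σ u * v) * h1) (by
      rintro ⟨_, v, rfl⟩
      refine ⟨1, v, Subtype.ext ?_⟩
      change T _ - T _ = T v
      simp only [hT, map_mul, h2, map_one]
      linear_combination (v - σ v) * hδ)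
    refine ⟨_, _, α, π, t1, t2, ?_⟩
    have h4 : Nat.card T.ker ≤ p ^ m := h3 1 _ fun v hv => by
      have : v - σ v = 0 := hv
      linear_combination -this
    have h5 : Nat.card T.range ≤ p ^ m := h3 (-1) _ (by
      rintro _ ⟨v, rfl⟩
      rw [hT, map_sub, h2]
      ring)
    have h7 := T.ker.card_mul_index
    rw [AddSubgroup.index_ker, hK, hm, two_mul, pow_add] at h7
    have h8 : p ^ m ≤ Nat.card T.range := Nat.le_of_mul_le_mul_left
      (h7.ge.trans (Nat.mul_le_mul_right _ h4)) (pow_pos hp.out.pos m)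
    rw [Heis.card, ha₀, hK, hm, if_neg (by omega), show 3 * (2 * m) / 2 = 2 * m + m by omega,
      pow_add, le_antisymm h5 h8]
  · obtain ⟨α, π, t1, t2⟩ := Heis.exists_tri (β := (0 : K →+ K →+ PUnit.{u + 1})) hζ.pow_eq_one
      (fun u v => rfl) fun w => ⟨0, 0, rfl⟩
    refine ⟨_, _, α, π, t1, t2, ?_⟩
    rw [Heis.card, ha₀, if_pos (by omega), hK]
    simp

theorem exists_eigen [hq : Fact q.Prime] {ζ : K} (hζ : IsPrimitiveRoot ζ q) {M : Type*}
    [AddCommGroup M] [Module K M] [Module.Finite K M] [Nontrivial M] (T : Module.End K M) (hT : T ^ q = 1) :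
    ∃ (μ : K) (v : M), μ ^ q = 1 ∧ v ≠ 0 ∧ T v = μ • v := by
  have h1 : Polynomial.aeval T (Polynomial.X ^ q - Polynomial.C 1 : Polynomial K) = 0 := by
    simp [hT]
  have h2 := Polynomial.X_pow_sub_C_ne_zero hq.out.pos (1 : K)
  have h3 : IsIntegral K T := ⟨_, Polynomial.monic_X_pow_sub_C 1 hq.out.ne_zero, h1⟩
  have h4 := minpoly.dvd K T h1
  obtain ⟨μ, hμ⟩ := ((Polynomial.X_pow_sub_one_splits hζ).of_dvd h2 h4).exists_eval_eq_zero
    (minpoly.degree_pos h3).ne'
  obtain ⟨v, hv⟩ := (Module.End.hasEigenvalue_of_isRoot hμ).exists_hasEigenvector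
  refine ⟨μ, v, ?_, hv.2, hv.apply_eq_smul⟩
  have := Polynomial.eval_eq_zero_of_dvd_of_eval_eq_zero h4 hμ
  simpa [sub_eq_zero] using this

theorem exists_hom_ne_one [hp : Fact p.Prime] [CharP K p] {P : Type*} [Group P] [Finite P]
    [Nontrivial P] (hP : IsPGroup p P) : ∃ f : Additive P →+ K, f ≠ 0 := by
  obtain ⟨M, hM, -⟩ := (eq_top_or_exists_le_coatom (⊥ : Subgroup P)).resolve_left bot_ne_top
  have := PG.coatom_normal hP hM
  have hc : Nat.card (P ⧸ M) = Nat.card (Multiplicative (ZMod p)) := by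
    rw [Nat.card_congr Multiplicative.toAdd, Nat.card_zmod]; exact PG.coatom_index hP hM
  let e : P ⧸ M ≃* Multiplicative (ZMod p) :=
    mulEquivOfPrimeCardEq (p := p) (PG.coatom_index hP hM) (by simp)
  let f : P →* Multiplicative K := ((AddMonoidHom.toMultiplicative
    (ZMod.castHom (dvd_refl p) K).toAddMonoidHom).comp e.toMonoidHom).comp (QuotientGroup.mk' M)
  refine ⟨MonoidHom.toAdditiveLeft f, fun h => ?_⟩
  obtain ⟨g, hg⟩ := QuotientGroup.mk'_surjective M (e.symm (Multiplicative.ofAdd 1))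
  have h1 : (f g).toAdd = 0 := DFunLike.congr_fun h (Additive.ofMul g)
  simp only [f, MonoidHom.comp_apply, hg] at h1
  simp at h1

theorem exists_tri_of_schmidt [Finite K] [hp : Fact p.Prime] [hq : Fact q.Prime] [CharP K p]
    (hK : Nat.card K = p ^ orderOf (p : ZMod q)) {ζ : K} (hζ : IsPrimitiveRoot ζ q)
    {X : Type*} [Group X] [Finite X] {x : X} {P : Sylow p X} (h : SchmidtData X q p x P) :
    ∃ (k : ℕ) (α : (P : Subgroup X) →* (P : Subgroup X))
      (π : (P : Subgroup X) →* Multiplicative K), k.Coprime q ∧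
      (∀ g, (α g : X) = x ^ k * g * (x ^ k)⁻¹) ∧ Tri ζ q α π ∧
      ∀ z, π z = 1 → z ∈ commutator (P : Subgroup X) := by
  have := h.normal
  have hP : IsPGroup p (P : Subgroup X) := P.2
  have : Nontrivial (P : Subgroup X) := (nontrivial_iff_ne_bot _).2 h.ne_bot
  let A : ℕ → ((P : Subgroup X) →* (P : Subgroup X)) := fun k =>
    (MulAut.conjNormal (H := P) (x ^ k)).toMonoidHom
  have hA : ∀ k g, (A k g : X) = x ^ k * g * (x ^ k)⁻¹ := fun k g => rfl
  have hA1 : ∀ k g, A k g = (A 1)^[k] g := by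
    intro k g
    induction k with
    | zero => exact Subtype.ext (by simp [hA])
    | succ k ih =>
      rw [Function.iterate_succ_apply', ← ih]
      exact Subtype.ext (by simp only [hA]; group)
  have hAq : ∀ g, (A 1)^[q] g = g := fun g => by
    rw [← hA1]
    exact Subtype.ext (by rw [hA, ← mem_center_iff.1 h.pow_mem_center, mul_inv_cancel_right])
  have key : ∀ C : Subgroup (P : Subgroup X), C.Normal → (∀ g ∈ C, A 1 g ∈ C) → C ≠ ⊤ →
      ∀ g ∈ C, (g : X) ∈ center X := by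
    intro C hC h1 h2 g hg
    have hn : (C.map (P : Subgroup X).subtype).Normal := by
      rw [← normalizer_eq_top_iff, eq_top_iff, ← h.sup_eq_top, sup_le_iff, zpowers_le]
      refine ⟨fun y hy => mem_normalizer_fintype ?_, mem_normalizer_fintype ?_⟩
      · rintro _ ⟨c, hc, rfl⟩
        exact ⟨_, hC.conj_mem c hc ⟨y, hy⟩, rfl⟩
      · rintro _ ⟨c, hc, rfl⟩
        exact ⟨_, h1 c hc, by rw [coe_subtype, hA, pow_one]⟩
    refine h.le_center_of_lt (D := C.map (P : Subgroup X).subtype)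
      (lt_of_le_of_ne (map_subtype_le _) fun e => h2 ?_) ⟨g, hg, rfl⟩
    exact map_injective (P : Subgroup X).subtype_injective
      (by rw [e, ← MonoidHom.range_eq_map, range_subtype])
  obtain ⟨f₀, hf₀⟩ := exists_hom_ne_one (K := K) hP
  have : Nontrivial (Additive (P : Subgroup X) →+ K) := ⟨f₀, 0, hf₀⟩
  have : Finite (Additive (P : Subgroup X) →+ K) := DFunLike.finite _
  let T : Module.End K (Additive (P : Subgroup X) →+ K) :=
    { toFun := fun f => f.comp (MonoidHom.toAdditive (A 1))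
      map_add' := fun _ _ => rfl
      map_smul' := fun _ _ => rfl }
  have hT : ∀ (k : ℕ) f g, (T ^ k) f (Additive.ofMul g) = f (Additive.ofMul ((A 1)^[k] g)) := by
    intro k
    induction k with
    | zero => intro f g; rfl
    | succ k ih => intro f g; rw [pow_succ, Module.End.mul_apply, ih, Function.iterate_succ_apply']; rfl
  obtain ⟨μ, f, h1, h2, h3⟩ := exists_eigen hζ T (LinearMap.ext fun f => AddMonoidHom.ext fun g => by
    rw [← ofMul_toMul g, hT, hAq]; rfl)
  let π : (P : Subgroup X) →* Multiplicative K := AddMonoidHom.toMultiplicativeRight f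
  have hπ : ∀ g, (π (A 1 g)).toAdd = μ * (π g).toAdd := fun g =>
    DFunLike.congr_fun h3 (Additive.ofMul g)
  obtain ⟨g₀, hg₀⟩ : ∃ g, (π g).toAdd ≠ 0 := by
    by_contra hcon
    push Not at hcon
    exact h2 (AddMonoidHom.ext fun g => hcon g.toMul)
  have hker : ∀ g, π g = 1 → (g : X) ∈ center X := key π.ker inferInstance
    (fun g hg => Multiplicative.toAdd.injective (by rw [hπ, MonoidHom.mem_ker.1 hg]; simp))
    fun e => hg₀ (by rw [MonoidHom.mem_ker.1 (e ▸ mem_top g₀ : g₀ ∈ π.ker)]; rfl)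
  have hfix : ∀ g : (P : Subgroup X), (g : X) ∈ center X → A 1 g = g := fun g hg =>
    Subtype.ext (by rw [hA, mem_center_iff.1 hg, mul_inv_cancel_right])
  have hμ1 : μ ≠ 1 := by
    rintro rfl
    have h4 : ⁅(P : Subgroup X), zpowers x⁆ ≤ π.ker.map (P : Subgroup X).subtype := by
      rw [commutator_le]
      intro g hg w hw
      obtain ⟨k, rfl⟩ := mem_powers_iff_mem_zpowers.2 hw
      refine ⟨⟨g, hg⟩ * (A k ⟨g, hg⟩)⁻¹, ?_, by simp [hA, commutatorElement_def, mul_assoc]⟩
      have : ∀ (k : ℕ) g, π ((A 1)^[k] g) = π g := by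
        intro k g
        induction k with
        | zero => rfl
        | succ k ih =>
          rw [Function.iterate_succ_apply', ← ih]
          exact Multiplicative.toAdd.injective (by rw [hπ, one_mul])
      rw [SetLike.mem_coe, MonoidHom.mem_ker, map_mul, map_inv, hA1, this, mul_inv_cancel]
    rw [h.commutator_eq] at h4
    obtain ⟨g, hg, e⟩ := h4 g₀.2
    exact hg₀ (by rw [← Subtype.ext e, MonoidHom.mem_ker.1 hg]; rfl)
  have hμ : IsPrimitiveRoot μ q := (orderOf_eq_prime h1 hμ1) ▸ IsPrimitiveRoot.orderOf μ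
  have hT1 : Tri μ q (A 1) π :=
    { surj := fun u => by
        obtain ⟨g, hg⟩ := addSubgroup_eq_top hK hμ f.range (by
          rintro _ ⟨g, rfl⟩
          exact ⟨Additive.ofMul (A 1 g.toMul), hπ g.toMul⟩) ⟨Additive.ofMul g₀, rfl⟩ hg₀ u.toAdd
        exact ⟨g.toMul, Multiplicative.toAdd.injective hg⟩
      equiv := hπ
      cent := fun g hg => mem_center_iff.2 fun k => Subtype.ext (mem_center_iff.1 (hker g hg) k)
      fix := fun g hg => hfix g (hker g hg)
      pow := hAq }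
  have : NeZero q := ⟨hq.out.ne_zero⟩
  obtain ⟨k, -, rfl⟩ := hμ.eq_pow_of_pow_eq_one hζ.pow_eq_one
  refine ⟨k, A k, π, (hμ.pow_iff_coprime hq.out.pos k).1 hζ, hA k, hT1.iterate k (hA1 k), ?_⟩
  obtain ⟨C, c0, c1, c2, c3⟩ := hT1.exists_core h.ne.symm hμ1 hP
  by_cases hC : C = ⊤
  · exact fun z => c3 z (hC ▸ mem_top z)
  · obtain ⟨g, hg, e⟩ := c2 (π g₀)
    have h5 := hπ g
    rw [hfix g (key C c0 c1 hC g hg), e] at h5
    exact absurd (mul_right_cancel₀ hg₀ (h5.symm.trans (one_mul _).symm)) hμ1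

section Semi
variable {P : Type*} [Group P] {α : P →* P} {π : P →* Multiplicative K} {ζ : K} {C : Type*}
  [Group C] [Finite C] {c : C} {φ : C →* MulAut P}
open SemidirectProduct

theorem exists_iterate (hc : ∀ y, y ∈ zpowers c) (hφ : ∀ g, φ c g = α g) (b : C) :
    ∃ k : ℕ, b = c ^ k ∧ ∀ g, φ b g = α^[k] g := by
  obtain ⟨k, rfl⟩ := mem_powers_iff_mem_zpowers.2 (hc b)
  refine ⟨k, rfl, fun g => ?_⟩
  induction k with
  | zero => simp
  | succ k ih =>
    simp only at ih ⊢
    rw [pow_succ', map_mul, MulAut.mul_apply, ih, hφ, Function.iterate_succ_apply']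

theorem Tri.inl_mem_center (h : Tri ζ q α π) (hc : ∀ y, y ∈ zpowers c) (hφ : ∀ g, φ c g = α g)
    {z : P} (hz : π z = 1) : (inl z : P ⋊[φ] C) ∈ center (P ⋊[φ] C) := by
  refine mem_center_iff.2 fun g => SemidirectProduct.ext ?_ (by simp)
  obtain ⟨k, -, hk⟩ := exists_iterate hc hφ g.right
  simp [hk, Function.iterate_fixed (h.fix z hz), mem_center_iff.1 (h.cent z hz)]

theorem Tri.not_npc [Finite P] [Fact p.Prime] (h : Tri ζ q α π) (hζ : ζ ≠ 1) (hP : IsPGroup p P)
    (ho : (orderOf c).Coprime p) (hφ : ∀ g, φ c g = α g) :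
    ¬ HasNormalPComplement p (P ⋊[φ] C) := fun hn => by
  have : Finite (P ⋊[φ] C) := Finite.of_equiv _ equivProd.symm
  have : (inl : P →* P ⋊[φ] C).range.Normal := by rw [range_inl_eq_ker_rightHom]; infer_instance
  have h1 := mem_centralizer_of_hasNPC hn (Q := (inl : P →* P ⋊[φ] C).range)
    (hP.of_surjective _ (MonoidHom.rangeRestrict_surjective _)) (g := inr c)
    (le_normalizer_of_normal (mem_top _)) (by rwa [orderOf_injective _ inr_injective])
  obtain ⟨g, hg⟩ := h.surj (Multiplicative.ofAdd 1)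
  have h2 := congrArg SemidirectProduct.left (h1 (inl g) ⟨g, rfl⟩)
  have h3 := h.equiv g
  simp only [mul_left, left_inl, right_inl, left_inr, map_one, mul_one, right_inr, one_mul,
    hφ] at h2
  rw [← h2, hg] at h3
  exact hζ (by simpa using h3.symm)

theorem Tri.nilpotent [Finite K] [Finite P] [hp : Fact p.Prime] [hq : Fact q.Prime] [CharP K p]
    (hK : Nat.card K = p ^ orderOf (p : ZMod q)) (hζ : IsPrimitiveRoot ζ q)
    (h : Tri ζ q α π) (hr : ∀ z, π z = 1 → z ∈ commutator P) (hP : IsPGroup p P)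
    (hc : ∀ y, y ∈ zpowers c) {r : ℕ} (ho : orderOf c = q ^ r) (hφ : ∀ g, φ c g = α g)
    (H : Subgroup (P ⋊[φ] C)) (hH : H ≠ ⊤) : Group.IsNilpotent H := by
  have := hP.isNilpotent
  by_cases h1 : ∀ x ∈ H, φ x.right = 1
  · refine Subgroup.isNilpotent_of_ker_le_center (MonoidHom.mk' (fun x : H => x.1.left) fun a b => by
      simp [h1 a.1 a.2]) fun x hx => mem_center_iff.2 fun y => Subtype.ext ?_
    have h2 : x.1.left = 1 := hx
    obtain ⟨k, e1, -⟩ := exists_iterate hc hφ x.1.right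
    obtain ⟨l, e2, -⟩ := exists_iterate hc hφ y.1.right
    refine SemidirectProduct.ext (by simp [h1 x.1 x.2, h2]) ?_
    simp only [coe_mul, mul_right, e1, e2, pow_mul_comm]
  push Not at h1
  obtain ⟨x, hx, h1⟩ := h1
  obtain ⟨k, e1, e2⟩ := exists_iterate hc hφ x.right
  have hk : k.Coprime q := ((Nat.Prime.coprime_iff_not_dvd hq.out).2 (by
    rintro ⟨l, rfl⟩
    refine h1 (MulEquiv.ext fun g => ?_)
    rw [e2, Function.iterate_mul, show α^[q] = id from funext h.pow, Function.iterate_id]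
    rfl)).symm
  by_cases h2 : ∀ g, inl g ∈ H → π g = 1
  · let : CommGroup C := (isCyclic_iff_exists_zpowers_eq_top.2 ⟨c, eq_top_iff.2 fun y _ => hc y⟩ :
      IsCyclic C).commGroup
    refine Subgroup.isNilpotent_of_ker_le_center (rightHom.comp H.subtype)
      fun y hy => mem_center_iff.2 fun w => Subtype.ext ?_
    obtain ⟨g, hg⟩ : y.1 ∈ (inl : P →* P ⋊[φ] C).range := by rwa [range_inl_eq_ker_rightHom]
    have := h.inl_mem_center hc hφ (h2 g (hg ▸ y.2))
    rw [hg] at this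
    exact mem_center_iff.1 this w
  push Not at h2
  obtain ⟨g₀, hg₀, h2⟩ := h2
  have h3 : H.comap inl = ⊤ := eq_top_of_reduced hP hr fun g => by
    refine addSubgroup_eq_top hK (hζ.pow_of_coprime k hk)
      (toAddSubgroup' ((H.comap inl).map π)) ?_ (x := (π g₀).toAdd) ⟨g₀, hg₀, rfl⟩
      (fun e => h2 (Multiplicative.toAdd.injective e)) (π g).toAdd
    rintro _ ⟨w, hw, rfl⟩
    refine ⟨x.left * φ x.right w * x.left⁻¹, ?_, ?_⟩
    · have : inl (x.left * φ x.right w * x.left⁻¹) = x * inl w * x⁻¹ := by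
        ext <;> simp
      exact (this ▸ H.mul_mem (H.mul_mem hx hw) (H.inv_mem hx) :)
    · rw [map_mul, map_mul, map_inv, mul_inv_cancel_comm, e2]
      exact h.equiv_iterate k w
  have h4 : ∀ g, inl g ∈ H := fun g => (h3 ▸ mem_top g : g ∈ H.comap inl)
  have h5 : x.right ∈ H.comap inr := by
    have := H.mul_mem (H.inv_mem (h4 x.left)) hx
    rwa [inv_mul_eq_iff_eq_mul.2 (inl_left_mul_inr_right x).symm] at this
  have h6 : c ∈ H.comap inr := by
    rw [e1] at h5
    exact zpowers_le.2 h5 (mem_zpowers_pow_iff.2 (ho ▸ Nat.Coprime.pow_right r hk))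
  refine absurd (eq_top_iff.2 fun y _ => ?_) hH
  rw [← inl_left_mul_inr_right y]
  exact H.mul_mem (h4 _) (zpowers_le.2 h6 (hc y.right))

theorem Tri.exists_onto [Finite K] [Finite P] [hp : Fact p.Prime] [hq : Fact q.Prime] [CharP K p]
    (hpq : p ≠ q) (hK : Nat.card K = p ^ orderOf (p : ZMod q)) (hζ : IsPrimitiveRoot ζ q)
    {a₀ : ℕ} (ha₀ : a₀ = if orderOf (p : ZMod q) % 2 = 1 then orderOf (p : ZMod q)
      else 3 * orderOf (p : ZMod q) / 2)
    (h : Tri ζ q α π) (hr : ∀ z, π z = 1 → z ∈ commutator P) (hP : Nat.card P = p ^ a₀)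
    (hc : ∀ y, y ∈ zpowers c) {r : ℕ} (hr1 : 1 ≤ r) (ho : orderOf c = q ^ r)
    (hφ : ∀ g, φ c g = α g) {X : Type*} [Group X] [Finite X] (h1 : ¬ HasNormalPComplement p X)
    (h2 : ∀ K : Subgroup X, K ≠ ⊤ → HasNormalPComplement p K) {t : ℕ}
    (ht : Nat.card X = p ^ t * q ^ r) :
    ∃ f : P ⋊[φ] C →* X, Function.Surjective f ∧ f.ker ≤ center _ := by
  obtain ⟨S⟩ : Nonempty (Sylow p X) := inferInstance
  obtain ⟨hn, q', k, x, s1, s2, s3, s4, -, -⟩ := Tr.exists_structure_of_minimal_not_hasNPC h1 h2 S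
  have hS : SchmidtData X q' p x S :=
    ⟨⟨fun _ => h1 hasNPC_of_isNilpotent, Tr.isNilpotent_of_minimal_not_hasNPC h1 h2⟩, s1, hp.out, s2,
      IsPGroup.of_card ((Nat.card_zpowers x).trans s3), hn, s4⟩
  obtain rfl : q = q' := (hS.eq_or_eq_of_prime_dvd hq.out
    (ht ▸ (dvd_pow_self q (by omega)).mul_left _)).resolve_right hpq.symm
  have hx : orderOf x = q ^ r := by
    obtain ⟨s, hs⟩ := IsPGroup.iff_card.1 S.2
    have e := hS.card_eq
    rw [ht, Nat.card_zpowers, hs, s3] at e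
    have hco := (Nat.coprime_primes hq.out hp.out).2 s2
    rw [s3]
    exact Nat.dvd_antisymm ((hco.pow _ t).dvd_of_dvd_mul_left ⟨_, e⟩)
      ((hco.pow _ s).dvd_of_dvd_mul_right (Dvd.intro_left _ e))
  obtain ⟨l, β, ρ, t1, t2, t3, t4⟩ := exists_tri_of_schmidt hK hζ hS
  obtain ⟨ψ, u1, u2, u3⟩ := Tri.universal hpq hK hζ ha₀ h hr hP t3 t4 S.2
  have hy : orderOf (x ^ l) = orderOf c := by
    rw [ho, ← hx]; exact Nat.Coprime.orderOf_pow (hx ▸ (Nat.Coprime.pow_left r t1.symm))
  let χ : C →* X := monoidHomOfForallMemZpowers hc hy.dvd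
  have hχ : χ c = x ^ l := monoidHomOfForallMemZpowers_apply_gen ..
  let f : P ⋊[φ] C →* X := lift ((S : Subgroup X).subtype.comp ψ) χ fun b => by
    obtain ⟨n, rfl, e⟩ := exists_iterate hc hφ b
    ext g
    simp only [MonoidHom.comp_apply, MulEquiv.coe_toMonoidHom, e, MulAut.conj_apply, coe_subtype,
      map_pow χ, hχ]
    clear e
    induction n with
    | zero => simp
    | succ n ih => rw [Function.iterate_succ_apply', u2, t2, ih]; group
  refine ⟨f, MonoidHom.range_eq_top.1 (eq_top_iff.2 ?_), fun y hy => ?_⟩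
  · rw [← s4, sup_le_iff, zpowers_le]
    refine ⟨fun y hy => ?_, ?_⟩
    · obtain ⟨g, hg⟩ := u1 ⟨y, hy⟩
      exact ⟨inl g, by simp [f, hg]⟩
    · exact zpowers_le.2 (⟨inr c, by simp [f, hχ]⟩ : x ^ l ∈ f.range)
        (mem_zpowers_pow_iff.2 (hx ▸ Nat.Coprime.pow_right r t1))
  · have e : (ψ y.left : X) * χ y.right = 1 := hy
    obtain ⟨n, e1, -⟩ := exists_iterate hc hφ y.right
    have e2 : χ y.right = 1 := by
      have := (disjoint_of_coprime_natCard hS.coprime).le_bot (show χ y.right ∈ zpowers x ⊓ S from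
        ⟨by rw [e1, map_pow, hχ]; exact pow_mem (pow_mem (mem_zpowers x) _) _,
          by rw [eq_inv_of_mul_eq_one_right e]; exact (S : Subgroup X).inv_mem (ψ y.left).2⟩)
      exact this
    have e3 : y.right = 1 := by
      rw [e1, map_pow, hχ, ← orderOf_dvd_iff_pow_eq_one, ‹orderOf (x ^ l) = _›,
        orderOf_dvd_iff_pow_eq_one] at e2
      exact e1.trans e2
    rw [e2, mul_one] at e
    rw [← inl_left_mul_inr_right y, e3, map_one, mul_one]
    exact h.inl_mem_center hc hφ (by rw [← u3, show ψ y.left = 1 from Subtype.ext e, map_one])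

end Semi

end CL.Ord.MS
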