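import Mathlib
import Cfsg.Agent.ORD.Deg3
import Cfsg.Agent.CHAR.Galois
import Cfsg.Agent.PLOC.PFrattini
import Cfsg.Agent.PLOC.PNormal

/-!
# `p`-groups whose nonlinear characters of equal degree have equal kernels
(Dolfi–Navarro–Tiep)
-/

set_option autoImplicit false
set_option linter.unusedSectionVars false
open Cfsg CL.Char
open scoped ComplexConjugate commutatorElement

namespace CL.Ord

universe u
variable {G : Type*} [Group G]

/-- nonlinear irreducible characters of equal degree have equal kernels -/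
def SameKer (G : Type*) [Group G] : Prop :=
  ∀ χ ψ : G → ℂ, IsIrrCharacter G χ → IsIrrCharacter G ψ → charDegree χ ≠ 1 →
    charDegree χ = charDegree ψ → charKer χ = charKer ψ

theorem SameKer.quot [Finite G] (h : SameKer G) (N : Subgroup G) [N.Normal] :
    SameKer (G ⧸ N) := by
  intro χ ψ hχ hψ h1 h2
  have := h _ _ (hχ.infl N) (hψ.infl N) h1 h2
  have e1 := hχ.isCharacter.charKer_comp (QuotientGroup.mk' N)
  have e2 := hψ.isCharacter.charKer_comp (QuotientGroup.mk' N)
  exact Subgroup.comap_injective (QuotientGroup.mk'_surjective N) (e1.symm.trans (this.trans e2))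

theorem SameKer.ker_le [Finite G] (h : SameKer G) {χ : G → ℂ} (hχ : IsIrrCharacter G χ)
    (h1 : charDegree χ ≠ 1) : charKer χ ≤ commutator G := by
  intro g hg
  rw [mem_commutator_iff_hom]
  intro lam
  have e := h _ _ hχ (hχ.hom_mul lam) h1 (charDegree_congr (by simp))
  have h2 := apply_eq_of_mem_charKer (e ▸ hg)
  simp only [apply_eq_of_mem_charKer hg, map_one, Units.val_one, one_mul] at h2
  exact Units.ext (mul_right_cancel₀ hχ.one_ne_zero (by rw [h2]; simp))

theorem hom_total {H : Type*} [Group H] {p : ℕ} [hp : Fact p.Prime] (hH : IsPGroup p H)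
    (f : H →* ℂˣ) (a b : H) : (∃ i : ℕ, f b = f a ^ i) ∨ ∃ i : ℕ, f a = f b ^ i := by
  have key : ∀ a b : H, orderOf (f b) ∣ orderOf (f a) → ∃ i : ℕ, f b = f a ^ i := by
    intro a b h
    obtain ⟨k, hk⟩ := hH a
    have h0 : orderOf (f a) ≠ 0 :=
      (isOfFinOrder_iff_pow_eq_one.mpr ⟨p ^ k, pow_pos hp.out.pos _, by
        rw [← map_pow, hk, map_one]⟩).orderOf_pos.ne'
    have : NeZero (orderOf (f a)) := ⟨h0⟩
    have hpr : IsPrimitiveRoot (f a : ℂ) (orderOf (f a)) := by
      rw [← orderOf_units]; exact IsPrimitiveRoot.orderOf _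
    obtain ⟨i, -, hi⟩ := hpr.eq_pow_of_pow_eq_one (ξ := (f b : ℂ)) (by
      rw [← Units.val_pow_eq_pow_val, orderOf_dvd_iff_pow_eq_one.mp h, Units.val_one])
    exact ⟨i, Units.ext (by simpa using hi.symm)⟩
  obtain ⟨k, hk⟩ := hH a
  obtain ⟨l, hl⟩ := hH b
  obtain ⟨i, -, hi⟩ := (Nat.dvd_prime_pow hp.out).mp
    (orderOf_dvd_of_pow_eq_one (show f a ^ p ^ k = 1 by rw [← map_pow, hk, map_one]))
  obtain ⟨j, -, hj⟩ := (Nat.dvd_prime_pow hp.out).mp
    (orderOf_dvd_of_pow_eq_one (show f b ^ p ^ l = 1 by rw [← map_pow, hl, map_one]))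
  rcases le_total i j with h | h
  · exact Or.inr (key b a (by rw [hi, hj]; exact pow_dvd_pow p h))
  · exact Or.inl (key a b (by rw [hi, hj]; exact pow_dvd_pow p h))

theorem charCenter_total {p : ℕ} [hp : Fact p.Prime] (hG : IsPGroup p G) {χ : G → ℂ}
    (h1 : χ 1 ≠ 0) {a b : G} (ha : a ∈ charCenter χ) (hb : b ∈ charCenter χ) :
    (∃ i : ℕ, b⁻¹ * a ^ i ∈ charKer χ) ∨ ∃ i : ℕ, a⁻¹ * b ^ i ∈ charKer χ := by
  have key : ∀ (a b : charCenter χ) (i : ℕ), charCenterHom χ h1 b = charCenterHom χ h1 a ^ i →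
      (b : G)⁻¹ * (a : G) ^ i ∈ charKer χ := by
    intro a b i h
    have : b⁻¹ * a ^ i ∈ (charCenterHom χ h1).ker := by
      rw [MonoidHom.mem_ker, map_mul, map_inv, map_pow, h, inv_mul_cancel]
    rw [ker_charCenterHom] at this
    exact this
  rcases hom_total (hG.to_subgroup _) (charCenterHom χ h1) ⟨a, ha⟩ ⟨b, hb⟩ with ⟨i, h⟩ | ⟨i, h⟩
  · exact Or.inl ⟨i, key _ _ i h⟩
  · exact Or.inr ⟨i, key _ _ i h⟩

theorem comm_pow_left_of_commute {x y : G} (h : Commute ⁅x, y⁆ x) (n : ℕ) :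
    ⁅x ^ n, y⁆ = ⁅x, y⁆ ^ n := by
  induction n with
  | zero => simp
  | succ n ih =>
    rw [pow_succ', commutatorElement_mul_left_eq_conj_mul, ih, ← (h.pow_left n).eq, pow_succ]
    group

theorem eq_of_le_of_card_sq [Finite G] {p : ℕ} [hp : Fact p.Prime] {M K D : Subgroup G}
    (hM : Nat.card M = p) (hD : Nat.card D = p ^ 2) (h1 : M ≤ K) (h2 : K ≤ D) (h3 : K ≠ D) :
    K = M := by
  obtain ⟨j, hj, hj'⟩ := (Nat.dvd_prime_pow hp.out).mp (hD ▸ Subgroup.card_dvd_of_le h2)
  have hdv := Subgroup.card_dvd_of_le h1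
  rw [hM, hj'] at hdv
  interval_cases j
  · exact absurd (Nat.dvd_one.mp (by simpa using hdv)) hp.out.ne_one
  · exact (Subgroup.eq_of_le_of_card_ge h1 (by rw [hj', hM, pow_one])).symm
  · exact absurd (Subgroup.eq_of_le_of_card_ge h2 (by rw [hj', hD])) h3

section
variable [Finite G] {p : ℕ} [hp : Fact p.Prime]

theorem SameKer.exists_char (h : SameKer G) (hG : IsPGroup p G)
    (hD : Nat.card (commutator G) = p ^ 2) {M : Subgroup G} [M.Normal] (hM : Nat.card M = p)
    (hMD : M ≤ commutator G) : ∃ χ, IsIrrCharacter G χ ∧ charDegree χ ≠ 1 ∧ charKer χ = M ∧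
      commutator G ≤ charCenter χ := by
  have hlt : M < commutator G := lt_of_le_of_ne hMD fun e => by
    rw [e, hD] at hM
    have := hp.out.one_lt
    nlinarith
  obtain ⟨x, hx, hxM⟩ := SetLike.exists_of_lt hlt
  obtain ⟨χ, hχ, hk, hne⟩ := exists_irr_ker_of_not_mem M hxM
  have hd : charDegree χ ≠ 1 := fun e => by
    have e1 := hχ.isCharacter.charDegree_eq_one_iff.mp e
    exact hne (hχ.one_eq_one_iff_commutator.mp e1 x hx)
  have hker : charKer χ = M := eq_of_le_of_card_sq hM hD (hχ.isCharacter.le_charKer_iff.mpr hk)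
    (h.ker_le hχ hd) fun e => hne (apply_eq_of_mem_charKer (e ▸ hx))
  refine ⟨χ, hχ, hd, hker, fun d hd => ?_⟩
  obtain ⟨K, -, -, hK, hc, hKM⟩ := CL.PN.exists_normal_between hG M _ hlt
  have : K = commutator G := Subgroup.eq_of_le_of_card_ge hK (by rw [hc, hM, hD, pow_two])
  rw [hχ.mem_charCenter_iff_commutator, hker]
  exact fun g => hKM (Subgroup.commutator_mem_commutator (this ▸ hd) trivial)

theorem relIndex_frattini_dvd (hG : IsPGroup p G) {χ : G → ℂ} (h1 : χ 1 ≠ 0)
    (hk : charKer χ ≤ frattini G) : (frattini G).relIndex (charCenter χ) ∣ p := by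
  have e : (frattini G).relIndex (charCenter χ) =
      Nat.card ((charCenter χ).map (QuotientGroup.mk' (frattini G))) := by
    rw [← Subgroup.relIndex_ker, QuotientGroup.ker_mk']
  rw [e]
  have hpow : ∀ a : G ⧸ frattini G, a ^ p = 1 := by
    intro a
    obtain ⟨a, rfl⟩ := QuotientGroup.mk_surjective a
    rw [← QuotientGroup.mk_pow, QuotientGroup.eq_one_iff]
    exact CL.PG.pow_mem_frattini hG a
  by_cases hb : (charCenter χ).map (QuotientGroup.mk' (frattini G)) = ⊥
  · rw [hb]; simp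
  obtain ⟨a, ha, ha1⟩ := (Subgroup.bot_or_exists_ne_one _).resolve_left hb
  have hoa := orderOf_eq_prime (hpow a) ha1
  have hle : (charCenter χ).map (QuotientGroup.mk' (frattini G)) ≤ Subgroup.zpowers a := by
    obtain ⟨a, ha, rfl⟩ := ha
    rintro _ ⟨b, hb, rfl⟩
    rcases charCenter_total hG h1 ha hb with ⟨i, hi⟩ | ⟨i, hi⟩
    · have : QuotientGroup.mk' (frattini G) b = QuotientGroup.mk' (frattini G) a ^ i := by
        rw [← map_pow]; exact QuotientGroup.eq.mpr (hk hi)
      rw [this]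
      exact Subgroup.npow_mem_zpowers _ _
    · have e : QuotientGroup.mk' (frattini G) a = QuotientGroup.mk' (frattini G) b ^ i := by
        rw [← map_pow]; exact QuotientGroup.eq.mpr (hk hi)
      have hb1 : QuotientGroup.mk' (frattini G) b ≠ 1 := fun h => ha1 (by rw [e, h, one_pow])
      have hob := orderOf_eq_prime (hpow _) hb1
      have : Subgroup.zpowers (QuotientGroup.mk' (frattini G) a) =
          Subgroup.zpowers (QuotientGroup.mk' (frattini G) b) :=
        Subgroup.eq_of_le_of_card_ge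
          (Subgroup.zpowers_le.mpr (e ▸ Subgroup.npow_mem_zpowers _ _))
          (by rw [Nat.card_zpowers, Nat.card_zpowers, hoa, hob])
      rw [this]
      exact Subgroup.mem_zpowers _
  have := Subgroup.card_dvd_of_le hle
  rwa [Nat.card_zpowers, hoa] at this

theorem SameKer.not_central (h : SameKer G) (hG : IsPGroup p G)
    (hD : Nat.card (commutator G) = p ^ 2) : ¬ commutator G ≤ Subgroup.center G := by
  intro hc
  have hcm : ∀ x y : G, ⁅x, y⁆ ∈ commutator G := fun x y =>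
    Subgroup.commutator_mem_commutator trivial trivial
  have hcom : ∀ x y z : G, Commute ⁅x, y⁆ z := fun x y z =>
    (Subgroup.mem_center_iff.mp (hc (hcm x y)) z).symm
  have hnorm : ∀ M : Subgroup G, M ≤ commutator G → M.Normal := fun M hM =>
    ⟨fun x hx g => by rw [Subgroup.mem_center_iff.mp (hc (hM hx)) g]; simpa using hx⟩
  -- general facts for a subgroup of order `p`
  have hpowY : ∀ (M : Subgroup G), Nat.card M = p → M ≤ commutator G → ∀ χ, IsIrrCharacter G χ →
      charKer χ = M → ∀ g, g ^ p ∈ charCenter χ := by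
    intro M hM hMD χ hχ hk g
    have := hnorm M hMD
    rw [hχ.mem_charCenter_iff_commutator, hk]
    intro y
    rw [comm_pow_left_of_commute (hcom _ _ _)]
    have hr : M.relIndex (commutator G) = p := by
      have := CL.PN.card_mul_relIndex hMD
      rw [hM, hD, pow_two] at this
      exact Nat.eq_of_mul_eq_mul_left hp.out.pos this
    rw [← hr]
    exact M.pow_relIndex_mem (hcm g y)
  have hexp : ∀ x y : G, ⁅x, y⁆ ^ p = 1 := by
    obtain ⟨M, hMn, hMD, hM⟩ := CL.PN.exists_normal_le_card_eq hG (commutator G) 1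
      (by rw [hD]; exact Nat.pow_le_pow_right hp.out.pos (by norm_num))
    rw [pow_one] at hM
    obtain ⟨χ, hχ, -, hk, -⟩ := h.exists_char hG hD hM hMD
    have key : ∀ (x y : G) (i : ℕ), (x ^ p)⁻¹ * (y ^ p) ^ i ∈ charKer χ → ⁅x, y⁆ ^ p = 1 := by
      intro x y i hi
      rw [← comm_pow_left_of_commute (hcom _ _ _), commutatorElement_eq_one_iff_commute]
      have hz := hc (hMD (hk ▸ hi))
      have e : x ^ p = (y ^ p) ^ i * ((x ^ p)⁻¹ * (y ^ p) ^ i)⁻¹ := by group
      rw [e]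
      exact (((Commute.refl y).pow_left p).pow_left i).mul_left
        (Commute.inv_left (Subgroup.mem_center_iff.mp hz y).symm)
    intro x y
    rcases charCenter_total hG hχ.one_ne_zero (hpowY M hM hMD χ hχ hk x)
      (hpowY M hM hMD χ hχ hk y) with ⟨i, hi⟩ | ⟨i, hi⟩
    · rw [← commutatorElement_inv, inv_pow, key _ _ _ hi, inv_one]
    · exact key _ _ _ hi
  have hexpD : ∀ d ∈ commutator G, d ^ p = 1 := by
    intro d hd
    rw [commutator_eq_closure] at hd
    have : d ∈ commutator G ∧ d ^ p = 1 := by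
      induction hd using Subgroup.closure_induction with
      | mem x hx =>
        obtain ⟨a, b, rfl⟩ := hx
        exact ⟨hcm a b, hexp a b⟩
      | one => exact ⟨one_mem _, one_pow _⟩
      | mul x y _ _ hx hy =>
        refine ⟨mul_mem hx.1 hy.1, ?_⟩
        rw [Commute.mul_pow (Subgroup.mem_center_iff.mp (hc hy.1) x), hx.2, hy.2, one_mul]
      | inv x _ hx => exact ⟨inv_mem hx.1, by rw [inv_pow, hx.2, inv_one]⟩
    exact this.2
  have hdeg : ∀ a ∈ commutator G, a ≠ 1 → ∃ χ, IsIrrCharacter G χ ∧ charDegree χ ≠ 1 ∧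
      charKer χ = Subgroup.zpowers a ∧ ∃ r k, r ≤ 1 ∧ charDegree χ = p ^ k ∧
        (frattini G).index = p ^ (r + 2 * k) := by
    intro a ha ha1
    have hM : Nat.card (Subgroup.zpowers a) = p := by
      rw [Nat.card_zpowers, orderOf_eq_prime (hexpD a ha) ha1]
    have hMD := Subgroup.zpowers_le.mpr ha
    have := hnorm _ hMD
    obtain ⟨χ, hχ, hd, hk, hY⟩ := h.exists_char hG hD hM hMD
    refine ⟨χ, hχ, hd, hk, ?_⟩
    have hΦ : frattini G ≤ charCenter χ :=
      CL.PG.frattini_le_of_commutator_le_of_pow_mem hY (hpowY _ hM hMD χ hχ hk)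
    have h1 := relIndex_frattini_dvd hG hχ.one_ne_zero
      (hk ▸ hMD.trans (CL.PG.commutator_le_frattini hG))
    obtain ⟨r, hr, hr'⟩ := (Nat.dvd_prime_pow hp.out).mp (show _ ∣ p ^ 1 by simpa using h1)
    obtain ⟨n, hn⟩ := hG.exists_card_eq
    obtain ⟨k, -, hk'⟩ := (Nat.dvd_prime_pow hp.out).mp (hn ▸ hχ.charDegree_dvd_card)
    refine ⟨r, k, hr, hk', ?_⟩
    rw [← Subgroup.relIndex_mul_index hΦ, hr', ← (hχ.charDegree_sq_eq_index_iff le_rfl).mpr
      fun g hg => eq_zero_of_commutator_le_charCenter hχ hY hg, hk']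
    ring
  have hne : commutator G ≠ ⊥ := fun e => by
    rw [e, Subgroup.card_bot] at hD
    have := hp.out.one_lt
    nlinarith
  obtain ⟨a, ha, ha1⟩ := (Subgroup.bot_or_exists_ne_one _).resolve_left hne
  have hlt : Subgroup.zpowers a < commutator G :=
    lt_of_le_of_ne (Subgroup.zpowers_le.mpr ha) fun e => by
      rw [← e, Nat.card_zpowers, orderOf_eq_prime (hexpD a ha) ha1] at hD
      have := hp.out.one_lt
      nlinarith
  obtain ⟨b, hb, hba⟩ := SetLike.exists_of_lt hlt
  obtain ⟨χ, hχ, hd, hk, r, k, hr, hk1, hi⟩ := hdeg a ha ha1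
  obtain ⟨ψ, hψ, -, hk', s, l, hs, hl1, hi'⟩ := hdeg b hb fun e => hba (e ▸ one_mem _)
  have e := Nat.pow_right_injective hp.out.two_le (hi.symm.trans hi')
  have e2 : k = l := by omega
  have := h χ ψ hχ hψ hd (by rw [hk1, hl1, e2])
  rw [hk, hk'] at this
  exact hba (this ▸ Subgroup.mem_zpowers b)

theorem SameKer.card_commutator_ne (h : SameKer G) (hG : IsPGroup p G) :
    Nat.card (commutator G) ≠ p ^ 2 := by
  intro hD
  have hcm : ∀ x y : G, ⁅x, y⁆ ∈ commutator G := fun x y =>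
    Subgroup.commutator_mem_commutator trivial trivial
  obtain ⟨c, hc, hcZ⟩ := SetLike.not_le_iff_exists.mp (h.not_central hG hD)
  obtain ⟨M, hMn, hMD, hM⟩ := CL.PN.exists_normal_le_card_eq hG (commutator G) 1
    (by rw [hD]; exact Nat.pow_le_pow_right hp.out.pos (by norm_num))
  rw [pow_one] at hM
  have hMZ := CL.PN.le_center_of_card_eq_prime hG M hM
  obtain ⟨χ, hχ, hd, hk, hY⟩ := h.exists_char hG hD hM hMD
  have hmem : ∀ {y : G}, y ∈ charCenter χ ↔ ∀ g, ⁅y, g⁆ ∈ M := by
    intro y; rw [hχ.mem_charCenter_iff_commutator, hk]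
  have htot : ∀ {a b : G}, a ∈ charCenter χ → b ∈ charCenter χ →
      (∃ i : ℕ, b⁻¹ * a ^ i ∈ M) ∨ ∃ i : ℕ, a⁻¹ * b ^ i ∈ M := fun ha hb =>
    hk ▸ charCenter_total hG hχ.one_ne_zero ha hb
  have hZM : Subgroup.center G ≤ M := by
    have h1 : Subgroup.center G ≤ commutator G := by
      intro z hz
      rcases htot (hχ.center_le_charCenter hz) (hY hc) with ⟨i, hi⟩ | ⟨i, hi⟩
      · exact absurd (by
          simpa using mul_mem (pow_mem hz i) (inv_mem (hMZ hi))) hcZ
      · simpa using mul_mem (pow_mem hc i) (inv_mem (hMD hi))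
    exact (eq_of_le_of_card_sq hM hD hMZ h1 fun e => hcZ (e ▸ hc)).le
  have hMp : ∀ m ∈ M, m ^ p = 1 := fun m hm => by
    have := pow_card_eq_one' (x := (⟨m, hm⟩ : M))
    rw [hM] at this
    exact congrArg Subtype.val this
  have hYD : charCenter χ ≤ commutator G := by
    intro y hy
    have hyp : y ^ p ∈ M := hZM (Subgroup.mem_center_iff.mpr fun g => by
      have h1 := hmem.mp hy g
      have := comm_pow_left_of_commute (Subgroup.mem_center_iff.mp (hMZ h1) y).symm p
      rw [hMp _ h1, commutatorElement_eq_one_iff_mul_comm] at this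
      exact this.symm)
    rcases htot hy (hY hc) with ⟨i, hi⟩ | ⟨i, hi⟩
    · have hyi : y ^ i ∈ commutator G := by simpa using mul_mem hc (hMD hi)
      by_cases hpi : p ∣ i
      · obtain ⟨j, rfl⟩ := hpi
        rw [pow_mul] at hi
        exact absurd (hMZ (by simpa using mul_mem (pow_mem hyp j) (inv_mem hi))) hcZ
      · obtain ⟨k, hk⟩ := hG y
        obtain ⟨j, -, hj⟩ := (Nat.dvd_prime_pow hp.out).mp (orderOf_dvd_of_pow_eq_one hk)
        have : y ∈ Subgroup.zpowers (y ^ i) := mem_zpowers_pow_iff.mpr (by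
          rw [hj]
          exact ((Nat.Prime.coprime_iff_not_dvd hp.out).mpr hpi).symm.pow_right j)
        exact Subgroup.zpowers_le.mpr hyi this
    · simpa using mul_mem (pow_mem hc i) (inv_mem (hMD hi))
  -- the centraliser of `c`
  let φ : G →* G := MonoidHom.mk' (fun g => ⁅c, g⁆) fun a b => by
    rw [commutatorElement_mul_right_eq_mul_conj, mul_assoc ⁅c, a⁆, mul_assoc ⁅c, a⁆,
      Subgroup.mem_center_iff.mp (hMZ (hmem.mp (hY hc) b)) a, mul_inv_cancel_right]
  obtain ⟨C, hC⟩ : ∃ C, C = φ.ker := ⟨_, rfl⟩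
  have hCn : C.Normal := hC ▸ φ.normal_ker
  have hCmem : ∀ {g}, g ∈ C ↔ c * g = g * c := by
    intro g
    rw [hC, MonoidHom.mem_ker]
    exact commutatorElement_eq_one_iff_mul_comm
  have hCi : C.index ∣ p := by
    rw [hC, Subgroup.index_ker, ← hM]
    apply Subgroup.card_dvd_of_le
    rintro _ ⟨g, rfl⟩
    exact hmem.mp (hY hc) g
  obtain ⟨g, hg⟩ : ∃ g, g ∉ C := by
    by_contra h'
    push Not at h'
    exact hcZ (Subgroup.mem_center_iff.mpr fun g => (hCmem.mp (h' g)).symm)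
  have hCi' : C.index = p := ((Nat.dvd_prime hp.out).mp hCi).resolve_left fun e =>
    hg (by rw [Subgroup.index_eq_one.mp e]; trivial)
  have hgen : ∀ K : Subgroup G, C ≤ K → g ∈ K → K = ⊤ := fun K h1 h2 =>
    (CL.PG.isCoatom_of_index_eq_prime hp.out hCi').2 K
      (lt_of_le_of_ne h1 fun e => hg (e ▸ h2))
  have hDc : commutator G = Subgroup.zpowers c ⊔ M := by
    by_contra hne
    have := eq_of_le_of_card_sq hM hD (le_sup_right (a := Subgroup.zpowers c))
      (sup_le (Subgroup.zpowers_le.mpr hc) hMD) (Ne.symm hne)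
    exact hcZ (hMZ (this ▸ Subgroup.mem_sup_left (Subgroup.mem_zpowers c)))
  have hCD : ∀ x ∈ C, ∀ d ∈ commutator G, d * x = x * d := by
    intro x hx
    have : commutator G ≤ Subgroup.centralizer {x} := by
      rw [hDc]
      refine sup_le (Subgroup.zpowers_le.mpr ?_) fun m hm => ?_
      · exact Subgroup.mem_centralizer_singleton_iff.mpr (hCmem.mp hx)
      · exact Subgroup.mem_centralizer_singleton_iff.mpr
          (Subgroup.mem_center_iff.mp (hMZ hm) x).symm
    exact fun d hd => Subgroup.mem_centralizer_singleton_iff.mp (this hd)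
  have hDC : commutator G ≤ C := CL.PG.commutator_le_coatom hG (CL.PG.isCoatom_of_index_eq_prime hp.out hCi')
  have hCC : ∀ x ∈ C, ∀ y ∈ C, ⁅x, y⁆ ∈ M := by
    intro x hx y hy
    apply hZM
    have : Subgroup.centralizer {⁅x, y⁆} = ⊤ := by
      refine hgen _ (fun w hw => ?_) ?_
      · exact Subgroup.mem_centralizer_singleton_iff.mpr (hCD w hw _ (hcm x y)).symm
      · rw [Subgroup.mem_centralizer_singleton_iff, ← mul_inv_eq_iff_eq_mul]
        have e1 : g * x * g⁻¹ = ⁅g, x⁆ * x := by group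
        have e2 : g * y * g⁻¹ = ⁅g, y⁆ * y := by group
        have e3 : g * ⁅x, y⁆ * g⁻¹ = ⁅g * x * g⁻¹, g * y * g⁻¹⁆ := by group
        rw [e3, e1, e2]
        obtain ⟨a, ha, hae⟩ : ∃ a ∈ commutator G, a = ⁅g, x⁆ := ⟨_, hcm _ _, rfl⟩
        obtain ⟨b, hb, hbe⟩ : ∃ b ∈ commutator G, b = ⁅g, y⁆ := ⟨_, hcm _ _, rfl⟩
        rw [← hae, ← hbe]
        have h1 : Commute a (b * y) := hCD _ (mul_mem (hDC hb) hy) a ha
        have h2 : Commute b x := hCD _ hx b hb
        rw [commutatorElement_mul_left_eq_conj_mul, h1.commutator_eq, mul_one,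
          commutatorElement_mul_right_eq_mul_conj, h2.symm.commutator_eq, one_mul,
          ← hCD b (hDC hb) _ (hcm x y), mul_inv_cancel_right,
          ← hCD a (hDC ha) _ (hcm x y), mul_inv_cancel_right]
    rw [Subgroup.mem_center_iff]
    intro w
    exact Subgroup.mem_centralizer_singleton_iff.mp (this ▸ Subgroup.mem_top w)
  have hxY : ∀ x ∈ C, ⁅x, g⁆ ∈ M → x ∈ commutator G := by
    intro x hx hxg
    apply hYD
    rw [hmem]
    have key : ∀ w, ⁅x, w⁆ ∈ M ↔ w ∈ (Subgroup.centralizer {(x : G ⧸ M)}).comap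
        (QuotientGroup.mk' M) := by
      intro w
      rw [Subgroup.mem_comap, Subgroup.mem_centralizer_singleton_iff, ← QuotientGroup.eq_one_iff,
        eq_comm (a := QuotientGroup.mk' M w * _), ← commutatorElement_eq_one_iff_mul_comm]
      rfl
    have := hgen _ (fun w hw => (key w).mp (hCC x hx w hw)) ((key g).mp hxg)
    intro w
    rw [key, this]
    trivial
  let ψ : C →* G := MonoidHom.mk' (fun x => ⁅(x : G), g⁆) fun a b => by
    simp only [Subgroup.coe_mul]
    rw [commutatorElement_mul_left_eq_conj_mul, ← hCD a a.2 _ (hcm _ _), mul_inv_cancel_right,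
      hCD _ (hDC (hcm _ _)) _ (hcm _ _)]
  have hab : ∀ x ∈ C, ∀ y ∈ C, x * y = y * x := by
    have key : ∀ x ∈ C, ∀ y ∈ C, ∀ i : ℕ, ⁅y, g⁆⁻¹ * ⁅x, g⁆ ^ i ∈ M → x * y = y * x := by
      intro x hx y hy i hi
      have e : ψ ((⟨y, hy⟩ : C)⁻¹ * ⟨x, hx⟩ ^ i) = ⁅y, g⁆⁻¹ * ⁅x, g⁆ ^ i := by
        rw [map_mul, map_inv, map_pow]; rfl
      have h1 : y⁻¹ * x ^ i ∈ commutator G :=
        hxY _ (mul_mem (inv_mem hy) (pow_mem hx i)) (by rw [← e] at hi; exact hi)
      have h2 : Commute (y⁻¹ * x ^ i) x := hCD x hx _ h1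
      have h3 : y = x ^ i * (y⁻¹ * x ^ i)⁻¹ := by group
      rw [h3]
      exact (((Commute.refl x).pow_right i).mul_right h2.symm.inv_right).eq
    intro x hx y hy
    rcases htot (hY (hcm x g)) (hY (hcm y g)) with ⟨i, hi⟩ | ⟨i, hi⟩
    · exact key x hx y hy i hi
    · exact (key y hy x hx i hi).symm
  have hdeg : ∀ η, IsIrrCharacter G η → charDegree η ≠ 1 → charDegree η = p := by
    intro η hη h1
    have := hη.charDegree_dvd_index_of_abelian C hab
    rw [hCi'] at this
    exact ((Nat.dvd_prime hp.out).mp this).resolve_left h1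
  have hMb : M ≠ ⊥ := fun e => by
    rw [e, Subgroup.card_bot] at hM
    exact hp.out.ne_one hM.symm
  obtain ⟨m, hm, hm1⟩ := (Subgroup.bot_or_exists_ne_one _).resolve_left hMb
  obtain ⟨η, hη, hmη⟩ := exists_irr_not_mem_charKer hm1
  have hη1 : charDegree η ≠ 1 := fun e =>
    hmη (hη.commutator_le_charKer_iff.mpr (hη.isCharacter.charDegree_eq_one_iff.mp e) (hMD hm))
  have := h χ η hχ hη hd (by rw [hdeg χ hχ hd, hdeg η hη hη1])
  exact hmη (this ▸ hk ▸ hm)

theorem SameKer.card_commutator (h : SameKer G) (hG : IsPGroup p G)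
    (hne : commutator G ≠ ⊥) : Nat.card (commutator G) = p := by
  obtain ⟨k, hk⟩ := (hG.to_subgroup (commutator G)).exists_card_eq
  by_contra hcon
  have hk2 : 2 ≤ k := by
    rcases k with _ | _ | k
    · exact absurd (Subgroup.card_eq_one.mp (by simpa using hk)) hne
    · exact absurd (by simpa using hk) hcon
    · omega
  obtain ⟨N, hN, hND, hNc⟩ := CL.PN.exists_normal_le_card_eq hG (commutator G) (k - 2)
    (by rw [hk]; exact Nat.pow_le_pow_right hp.out.pos (by omega))
  apply (h.quot N).card_commutator_ne (hG.to_quotient N)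
  have := CL.PN.card_eq_mul_card_map_mk' N _ hND
  rw [map_commutator_eq _ (QuotientGroup.mk'_surjective N), hk, hNc] at this
  apply Nat.eq_of_mul_eq_mul_left (pow_pos hp.out.pos (k - 2))
  rw [← this, ← pow_add]
  congr 1
  omega

theorem SameKer.isCyclic_center (h : SameKer G) (hG : IsPGroup p G)
    (hne : commutator G ≠ ⊥) : IsCyclic (Subgroup.center G) := by
  have hc := h.card_commutator hG hne
  obtain ⟨m, hm, hm1⟩ := (Subgroup.bot_or_exists_ne_one _).resolve_left hne
  obtain ⟨η, hη, hmη⟩ := exists_irr_not_mem_charKer hm1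
  have hη1 : charDegree η ≠ 1 := fun e =>
    hmη (hη.commutator_le_charKer_iff.mpr (hη.isCharacter.charDegree_eq_one_iff.mp e) hm)
  apply hη.isCyclic_center
  have hle := h.ker_le hη hη1
  have := Subgroup.card_dvd_of_le hle
  rw [hc] at this
  rcases (Nat.dvd_prime hp.out).mp this with e | e
  · exact Subgroup.card_eq_one.mp e
  · exact absurd ((Subgroup.eq_of_le_of_card_ge hle (by rw [e, hc])) ▸ hm) hmη

theorem galConj_of_card_commutator (hG : IsPGroup p G) [hZ : IsCyclic (Subgroup.center G)]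
    (hc : Nat.card (commutator G) = p) {χ ψ : G → ℂ} (hχ : IsIrrCharacter G χ)
    (hψ : IsIrrCharacter G ψ) (h1 : charDegree χ ≠ 1) (h2 : charDegree χ = charDegree ψ) :
    ∃ k : ℕ, k.Coprime (Nat.card G) ∧ ∀ g, ψ g = χ (g ^ k) := by
  have hDZ := CL.PN.le_center_of_card_eq_prime hG _ hc
  have hker : ∀ η, IsIrrCharacter G η → charDegree η ≠ 1 → charKer η = ⊥ := by
    intro η hη h1
    by_contra hk
    have := hη.charKer_normal
    obtain ⟨z, hz, hzc, hzo⟩ := CL.PN.exists_mem_center_orderOf_eq hG _ hk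
    refine h1 (hη.isCharacter.charDegree_eq_one_iff.mpr (hη.commutator_le_charKer_iff.mp ?_))
    intro d hd
    refine Subgroup.zpowers_le.mpr hz (mem_zpowers_of_isCyclic_subgroup hzc (hDZ hd) ?_)
    have := pow_card_eq_one' (x := (⟨d, hd⟩ : commutator G))
    rw [hc] at this
    rw [hzo]
    exact congrArg Subtype.val this
  have hvan : ∀ η, IsIrrCharacter G η → charDegree η ≠ 1 → ∀ g ∉ Subgroup.center G, η g = 0 := by
    intro η hη h1 g hg
    have e := hη.charCenter_eq_center (hker η hη h1)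
    exact eq_zero_of_commutator_le_charCenter hη (e ▸ hDZ) (e ▸ hg)
  obtain ⟨z, hz⟩ := IsCyclic.exists_monoid_generator (α := Subgroup.center G)
  have hpow : ∀ η, IsIrrCharacter G η → ∀ (i : ℕ) (w : G), w ∈ Subgroup.center G →
      η (w ^ i) = (η w / η 1) ^ i * η 1 := by
    intro η hη i w hw
    induction i with
    | zero => simp
    | succ i ih =>
      have := hη.apply_center_mul hw (w ^ i)
      have h0 := hη.one_ne_zero
      rw [pow_succ', pow_succ']
      apply mul_left_cancel₀ h0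
      rw [this, ih]
      field_simp
  have hprim : ∀ η, IsIrrCharacter G η → charDegree η ≠ 1 →
      IsPrimitiveRoot (η z / η 1) (orderOf (z : G)) := by
    intro η hη h1
    have h0 := hη.one_ne_zero
    refine ⟨?_, fun l hl => ?_⟩
    · have := hpow η hη (orderOf (z : G)) z z.2
      rw [pow_orderOf_eq_one] at this
      exact mul_right_cancel₀ h0 (by rw [← this, one_mul])
    · have := hpow η hη l z z.2
      rw [hl, one_mul, ← hη.mem_charKer, hker η hη h1, Subgroup.mem_bot] at this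
      exact orderOf_dvd_of_pow_eq_one this
  have hoz : 0 < orderOf (z : G) := orderOf_pos _
  have : NeZero (orderOf (z : G)) := ⟨hoz.ne'⟩
  obtain ⟨k, -, hk, hkz⟩ := ((hprim χ hχ h1).isPrimitiveRoot_iff).mp (hprim ψ hψ (h2 ▸ h1))
  have hkp : k.Coprime (Nat.card G) := by
    obtain ⟨n, hn⟩ := hG.exists_card_eq
    rw [hn]
    apply Nat.Coprime.pow_right
    refine Nat.Coprime.coprime_dvd_right ?_ hk
    have hne : commutator G ≠ ⊥ := fun e => by
      rw [e, Subgroup.card_bot] at hc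
      exact hp.out.ne_one hc.symm
    obtain ⟨w, -, hw, hwo⟩ := CL.PN.exists_mem_center_orderOf_eq hG _ hne
    obtain ⟨i, hi⟩ := hz ⟨w, hw⟩
    have : w = (z : G) ^ i := (congrArg Subtype.val hi).symm
    rw [← hwo, this]
    exact orderOf_pow_dvd i
  refine ⟨k, hkp, fun g => ?_⟩
  by_cases hg : g ∈ Subgroup.center G
  · obtain ⟨i, hi⟩ := hz ⟨g, hg⟩
    have e : g = (z : G) ^ i := (congrArg Subtype.val hi).symm
    rw [e, ← pow_mul, hpow ψ hψ _ _ z.2, hpow χ hχ _ _ z.2, ← hkz, ← pow_mul, mul_comm k,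
      hχ.apply_one_eq_charDegree, hψ.apply_one_eq_charDegree, h2]
  · rw [hvan ψ hψ (h2 ▸ h1) g hg, hvan χ hχ h1]
    intro hgk
    exact hg (Subgroup.zpowers_le.mpr hgk (mem_zpowers_pow_iff.mpr
      (hkp.coprime_dvd_right (orderOf_dvd_natCard g))))

theorem sameKer_of_galConj (h : ∀ χ ψ : IrrCharacter G, charDegree (χ : G → ℂ) ≠ 1 →
    charDegree (χ : G → ℂ) = charDegree (ψ : G → ℂ) →
    ∃ k : ℕ, k.Coprime (Nat.card G) ∧ ∀ g, (ψ : G → ℂ) g = (χ : G → ℂ) (g ^ k)) : SameKer G := by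
  intro χ ψ hχ hψ h1 h2
  obtain ⟨k, hk, hkg⟩ := h ⟨χ, hχ⟩ ⟨ψ, hψ⟩ h1 h2
  obtain ⟨σ, hσ⟩ := exists_gal_eq_pow G hk
  have : ψ = fun g => (σ : ℂ →+* ℂ) (χ g) :=
    funext fun g => (hkg g).trans (hσ χ hχ.isCharacter.isGen g).symm
  rw [this, charKer_gal]

end

end CL.Ord
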