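import Mathlib
import Cfsg.Agent.ORD.Deg3
import Cfsg.Agent.ORD.Garrison
import Cfsg.Agent.SOLV.Frattini
import Cfsg.Agent.SOLV.Subnormal

/-!
# Character degrees of solvable groups: subnormal subgroups and regular orbits
-/

set_option autoImplicit false
set_option linter.unusedSectionVars false
open Cfsg CL.Char
open scoped commutatorElement

namespace CL.SDeg
open CL.Ord

universe u
variable {G : Type*} [Group G]

/-- every degree of a subnormal subgroup divides a degree of the group -/
theorem exists_dvd_of_isSubnormal [Finite G] {A : Subgroup G} (hA : A.IsSubnormal) :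
    ∀ d ∈ charDegrees A, ∃ e ∈ charDegrees G, d ∣ e := by
  induction hA with
  | top => exact fun d hd => ⟨d, charDegrees_subset_of_surjective
      (Subgroup.topEquiv.symm : G ≃* (⊤ : Subgroup G)).toMonoidHom
      (Subgroup.topEquiv.symm.surjective) hd, dvd_rfl⟩
  | step H K hle _ hN ih =>
    intro d hd
    obtain ⟨θ, rfl⟩ := charDegrees_subset_of_surjective
      (Subgroup.subgroupOfEquivOfLe hle).toMonoidHom
      (Subgroup.subgroupOfEquivOfLe hle).surjective hd
    obtain ⟨χ, hχ, h⟩ := exists_dvd_degree_over θ.2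
    obtain ⟨e, he, h2⟩ := ih _ (mem_charDegrees hχ)
    exact ⟨e, he, h.trans h2⟩

/-- coprime action through an abelian group has a regular orbit on linear characters -/
theorem exists_inertia_eq [Finite G] {A : Subgroup G} [A.Normal]
    (hc : ∀ a ∈ A, ∀ b ∈ A, a * b = b * a)
    (hG : commutator G ≤ Subgroup.centralizer (A : Set G)) {n : ℕ}
    (hn : n.Coprime (Nat.card A)) (h : ∀ t : G, t ^ n ∈ Subgroup.centralizer (A : Set G)) :
    ∃ ν : A →* ℂˣ, inertia A (fun a => (ν a : ℂ)) = Subgroup.centralizer (A : Set G) := by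
  obtain ⟨T, ⟨ν, rfl⟩, hmin⟩ := Set.Finite.exists_minimal
    (s := {T : Subgroup G | ∃ ν : A →* ℂˣ, inertia A (fun a => (ν a : ℂ)) = T}) (Set.toFinite _)
    ⟨_, 1, rfl⟩
  refine ⟨ν, le_antisymm (fun t ht => ?_) (centralizer_le_inertia _)⟩
  by_contra ht'
  obtain ⟨μ, hμ⟩ := exists_inertia_lt hc hG hn ν ht (h t) ht'
  exact hμ.not_ge (hmin ⟨μ, rfl⟩ hμ.le)

theorem exists_index_inertia_dvd [Finite G] {A : Subgroup G} [A.Normal] {θ : A → ℂ}
    (hθ : IsIrrCharacter A θ) : ∃ e ∈ charDegrees G, (inertia A θ).index ∣ e := by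
  have := Fintype.ofFinite A
  obtain ⟨χ, hχ, h⟩ := hθ.exists_over
  exact ⟨_, mem_charDegrees hχ, CL.Blk.index_inertia_dvd_of_under hχ hθ h⟩

theorem isPGroup_quot_pPrimeCore [Finite G] {q : ℕ} [Fact q.Prime]
    (hq : ∀ g : G, ∃ k, g ^ q ^ k ∈ fittingSubgroup G) : IsPGroup q (G ⧸ pPrimeCore q G) := by
  intro x
  obtain ⟨g, rfl⟩ := QuotientGroup.mk_surjective x
  obtain ⟨k, hk⟩ := hq g
  have h1 := fittingSubgroup_le_pCore_sup (G := G) q hk
  rw [← SetLike.mem_coe, Subgroup.mul_normal] at h1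
  obtain ⟨a, ha, b, hb, e⟩ := h1
  obtain ⟨j, hj⟩ := isPGroup_pCore q G ⟨a, ha⟩
  refine ⟨k + j, ?_⟩
  have h2 : ((g ^ q ^ k : G) : G ⧸ pPrimeCore q G) = a := by
    rw [← e]; simp [(QuotientGroup.eq_one_iff b).2 hb]
  have h3 : a ^ q ^ j = 1 := congrArg Subtype.val hj
  rw [pow_add, pow_mul, ← QuotientGroup.mk_pow, h2, ← QuotientGroup.mk_pow, h3]
  rfl

theorem exists_dvd_of_abelian_top_aux [Finite G] {q : ℕ} [hq : Fact q.Prime]
    (hF : ∀ a ∈ fittingSubgroup G, ∀ b ∈ fittingSubgroup G, a * b = b * a)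
    (hG : commutator G ≤ fittingSubgroup G) {k : ℕ} (hk : (fittingSubgroup G).index = q ^ k) :
    ∃ e ∈ charDegrees G, q ^ k ∣ e := by
  have hFn := fittingSubgroup_normal G
  have hpow : ∀ g : G, g ^ q ^ k ∈ fittingSubgroup G := fun g =>
    hk ▸ Subgroup.pow_index_mem _ g
  set V := pPrimeCore q G with hV
  have hVq : (Nat.card V).Coprime q := coprime_card_pPrimeCore q G
  have hVF : V ≤ fittingSubgroup G := fun v hv =>
    mem_of_coprime_pow_mem _ (Nat.Coprime.pow_right k hVq)
      (by rw [show v ^ Nat.card V = 1 from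
        congrArg Subtype.val (pow_card_eq_one' (x := (⟨v, hv⟩ : V)))]; exact one_mem _) (hpow v)
  have hFC : fittingSubgroup G ≤ Subgroup.centralizer (V : Set G) := fun f hf v hv =>
    hF v (hVF hv) f hf
  have hCF : Subgroup.centralizer (V : Set G) ≤ fittingSubgroup G := by
    refine le_fittingSubgroup ?_
    have := (isPGroup_quot_pPrimeCore (G := G) fun g => ⟨k, hpow g⟩).isNilpotent
    refine Subgroup.isNilpotent_of_ker_le_center
      ((QuotientGroup.mk' V).comp (Subgroup.centralizer (V : Set G)).subtype) fun x hx => ?_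
    rw [Subgroup.mem_center_iff]
    intro y
    have hx' : (x : G) ∈ V := (QuotientGroup.eq_one_iff _).1 hx
    exact Subtype.ext (y.2 _ hx').symm
  obtain ⟨ν, hν⟩ := exists_inertia_eq (A := V) (fun a ha b hb => hF a (hVF ha) b (hVF hb))
    (hG.trans hFC) (Nat.Coprime.pow_left k hVq.symm) fun t => hFC (hpow t)
  obtain ⟨e, he, h⟩ := exists_index_inertia_dvd (isIrrCharacter_hom ν)
  rw [hν, le_antisymm hCF hFC, hk] at h
  exact ⟨e, he, h⟩

theorem exists_dvd_of_abelian_top [Finite G] {q : ℕ} [hq : Fact q.Prime]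
    (hG : commutator G ≤ fittingSubgroup G) {k : ℕ} (hk : (fittingSubgroup G).index = q ^ k) :
    ∃ e ∈ charDegrees G, q ^ k ∣ e := by
  have hm := map_fittingSubgroup_of_le_frattini (frattini G) le_rfl
  have hs := QuotientGroup.mk'_surjective (frattini G)
  obtain ⟨e, he, h⟩ := exists_dvd_of_abelian_top_aux (G := G ⧸ frattini G) (q := q) (k := k)
    (by
      rw [← hm]
      rintro _ ⟨a, ha, rfl⟩ _ ⟨b, hb, rfl⟩
      rw [← commutatorElement_eq_one_iff_mul_comm, ← map_commutatorElement]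
      exact (QuotientGroup.eq_one_iff _).2
        (commutator_fittingSubgroup_le_frattini (Subgroup.commutator_mem_commutator ha hb)))
    (by rw [← hm, ← map_commutator_eq _ hs]; exact Subgroup.map_mono hG)
    (by
      rw [← hm, Subgroup.index_map_eq _ hs (by
        rw [QuotientGroup.ker_mk']; exact frattini_le_fittingSubgroup), hk])
  exact ⟨e, charDegrees_quotient_subset _ he, h⟩

/-- an abelian subnormal `q`-subgroup of `G/F(G)` gives a degree divisible by its order -/
theorem exists_dvd_of_subnormal_top [Finite G] {q : ℕ} [hq : Fact q.Prime] {A : Subgroup G}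
    (hA : A.IsSubnormal) (hc : ⁅A, A⁆ ≤ fittingSubgroup G) {k : ℕ}
    (hk : (fittingSubgroup G).relIndex A = q ^ k) : ∃ e ∈ charDegrees G, q ^ k ∣ e := by
  have h1 : fittingSubgroup A = (fittingSubgroup G).subgroupOf A := by
    apply Subgroup.map_injective A.subtype_injective
    rw [← fittingOf_def, fittingOf_of_isSubnormal hA, Subgroup.subgroupOf_map_subtype]
  obtain ⟨e, he, h⟩ := exists_dvd_of_abelian_top (G := A) (q := q) (k := k)
    (by
      rw [h1, Subgroup.subgroupOf, ← Subgroup.map_le_iff_le_comap, Subgroup.map_subtype_commutator]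
      exact hc) (by rw [h1]; exact hk)
  obtain ⟨e', he', h'⟩ := exists_dvd_of_isSubnormal hA e he
  exact ⟨e', he', h.trans h'⟩

end CL.SDeg
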