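import Mathlib
import Cfsg.Agent.ODD.OddGL2

/-! No `p`-element of `GL_p(q)` lies in a unique Sylow `p`-subgroup (`p` odd, `p ∥ q - 1`). -/

set_option autoImplicit false

namespace CL.Ord.Redund

open Matrix
open scoped Pointwise

variable {F : Type*} [Field F] {n : Type*} [Fintype n] [DecidableEq n]

/-- `r` is the reflection with centre `v`, axis `ker φ` and eigenvalue `ζ` -/
def IsRefl (ζ : F) (r : GL n F) (v : n → F) (φ : (n → F) →ₗ[F] F) : Prop :=
  φ v = 1 ∧ ∀ u, (r : Matrix n n F) *ᵥ u = u + ((ζ - 1) * φ u) • v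

theorem gl_inv_mulVec (k : GL n F) (u : n → F) :
    ((k⁻¹ : GL n F) : Matrix n n F) *ᵥ ((k : Matrix n n F) *ᵥ u) = u := by
  rw [mulVec_mulVec, ← Units.val_mul, inv_mul_cancel, Units.val_one, one_mulVec]

theorem gl_mulVec_inv (k : GL n F) (u : n → F) :
    (k : Matrix n n F) *ᵥ (((k⁻¹ : GL n F) : Matrix n n F) *ᵥ u) = u := by
  rw [mulVec_mulVec, ← Units.val_mul, mul_inv_cancel, Units.val_one, one_mulVec]

theorem IsRefl.conj {ζ : F} {r : GL n F} {v : n → F} {φ : (n → F) →ₗ[F] F} (h : IsRefl ζ r v φ)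
    (k : GL n F) : IsRefl ζ (k * r * k⁻¹) ((k : Matrix n n F) *ᵥ v)
      (φ ∘ₗ Matrix.toLin' ((k⁻¹ : GL n F) : Matrix n n F)) := by
  refine ⟨by rw [LinearMap.comp_apply, toLin'_apply, gl_inv_mulVec, h.1], fun u => ?_⟩
  rw [Units.val_mul, Units.val_mul, ← mulVec_mulVec, ← mulVec_mulVec, h.2, mulVec_add,
    gl_mulVec_inv, mulVec_smul, LinearMap.comp_apply, toLin'_apply]

theorem IsRefl.pow {ζ : F} {r : GL n F} {v : n → F} {φ : (n → F) →ₗ[F] F} (h : IsRefl ζ r v φ)
    (m : ℕ) (u : n → F) : ((r ^ m : GL n F) : Matrix n n F) *ᵥ u = u + ((ζ ^ m - 1) * φ u) • v := by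
  induction m with
  | zero => simp
  | succ m ih =>
    rw [pow_succ', Units.val_mul, ← mulVec_mulVec, ih, h.2, map_add, map_smul, h.1, add_assoc,
      ← add_smul, smul_eq_mul]
    congr 2; ring

theorem IsRefl.pow_eq_one {ζ : F} {r : GL n F} {v : n → F} {φ : (n → F) →ₗ[F] F}
    (h : IsRefl ζ r v φ) {m : ℕ} (hm : ζ ^ m = 1) : r ^ m = 1 := by
  apply Units.ext
  apply Matrix.toLin'.injective
  refine LinearMap.ext fun u => ?_
  rw [toLin'_apply, h.pow, hm]; simp

theorem exists_refl {ζ : F} (hζ : ζ ≠ 0) {v : n → F} {φ : (n → F) →ₗ[F] F} (h : φ v = 1) :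
    ∃ r : GL n F, IsRefl ζ r v φ := by
  let f : F → Matrix n n F := fun a => LinearMap.toMatrix' (LinearMap.id + (a - 1) • φ.smulRight v)
  have hf : ∀ a u, f a *ᵥ u = u + ((a - 1) * φ u) • v := fun a u => by
    rw [← toLin'_apply]; simp [f, smul_smul]
  have hm : ∀ a b, a * b = 1 → f a * f b = 1 := fun a b hab => by
    apply Matrix.toLin'.injective
    refine LinearMap.ext fun u => ?_
    rw [toLin'_apply, ← mulVec_mulVec, hf, hf, map_add, map_smul, h, add_assoc, ← add_smul,
      smul_eq_mul]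
    rw [show (b - 1) * φ u + (a - 1) * (φ u + (b - 1) * φ u * 1) = 0 by
      linear_combination φ u * hab]
    simp
  exact ⟨⟨f ζ, f ζ⁻¹, hm _ _ (mul_inv_cancel₀ hζ), hm _ _ (inv_mul_cancel₀ hζ)⟩, h, hf ζ⟩

theorem dichotomy [Finite F] {p : ℕ} [Fact p.Prime] (hp : p ≠ 2) (hpF : (p : F) ≠ 0) {ζ : F}
    (hζ : ζ ≠ 1) {P : Subgroup (GL n F)} (hP : IsPGroup p P) {r r' : GL n F} (hr : r ∈ P)
    (hr' : r' ∈ P) {v w : n → F} {φ ψ : (n → F) →ₗ[F] F} (h : IsRefl ζ r v φ)
    (h' : IsRefl ζ r' w ψ) : φ w = 0 ∨ v = ψ v • w := by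
  classical
  let U : Submodule F (n → F) := Submodule.span F {v, w}
  have hv : v ∈ U := Submodule.subset_span (by simp)
  have hw : w ∈ U := Submodule.subset_span (by simp)
  let S₀ : Submonoid (GL n F) :=
    { carrier := {g | ∀ u ∈ U, (g : Matrix n n F) *ᵥ u ∈ U}
      one_mem' := fun u hu => by simpa using hu
      mul_mem' := fun {a b} ha hb u hu => by
        rw [Units.val_mul, ← mulVec_mulVec]; exact ha _ (hb _ hu) }
  let S : Subgroup (GL n F) :=
    { S₀ with
      inv_mem' := fun {a} ha => by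
        have : a⁻¹ = a ^ (orderOf a - 1) := by
          rw [inv_eq_iff_mul_eq_one, ← pow_succ', Nat.sub_add_cancel (orderOf_pos a),
            pow_orderOf_eq_one]
        rw [this]; exact S₀.pow_mem ha _ }
  let ρ : ↥(P ⊓ S) →* Module.End F U :=
    { toFun := fun g => (Matrix.toLin' (g.1 : Matrix n n F)).restrict g.2.2
      map_one' := by ext u; simp
      map_mul' := fun a b => LinearMap.ext fun u => Subtype.ext (by
        change Matrix.toLin' _ _ = Matrix.toLin' _ (Matrix.toLin' _ _)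
        simp) }
  let ρ' := ρ.toHomUnits
  have hH : IsPGroup p ρ'.range := by
    rw [MonoidHom.range_eq_map]
    exact ((hP.to_le (inf_le_left : P ⊓ S ≤ P)).of_equiv Subgroup.topEquiv.symm).map _
  have : Finite ρ'.range := Finite.of_surjective _ ρ'.rangeRestrict_surjective
  obtain ⟨k, hk⟩ := hH.exists_card_eq
  have hc := CL.BG.charf'_GL2_abelian (F := F) (V := U)
    ((finrank_span_le_card ({v, w} : Set (n → F))).trans (by
      rw [Set.toFinset_card]; simpa using Finset.card_le_two (a := v) (b := w)))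
    ((Units.coeHom _).comp ρ'.range.subtype) (Units.val_injective.comp Subtype.val_injective)
    (by rw [hk]; exact ((Fact.out : p.Prime).odd_of_ne_two hp).pow)
    (by rw [hk]; exact_mod_cast pow_ne_zero k hpF)
  have hrS : r ∈ P ⊓ S := ⟨hr, fun u hu => by rw [h.2]; exact U.add_mem hu (U.smul_mem _ hv)⟩
  have hrS' : r' ∈ P ⊓ S := ⟨hr', fun u hu => by rw [h'.2]; exact U.add_mem hu (U.smul_mem _ hw)⟩
  have e := hc.is_comm.comm ⟨ρ' ⟨r, hrS⟩, _, rfl⟩ ⟨ρ' ⟨r', hrS'⟩, _, rfl⟩
  have e1 : (r : Matrix n n F) *ᵥ ((r' : Matrix n n F) *ᵥ w) =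
      (r' : Matrix n n F) *ᵥ ((r : Matrix n n F) *ᵥ w) :=
    congrArg (fun g : ρ'.range => ((g.1 : Module.End F U) ⟨w, hw⟩ : n → F)) e
  rw [h.2, h'.2, h'.2, h.2] at e1
  simp only [map_add, map_smul, h.1, h'.1, smul_eq_mul] at e1
  refine or_iff_not_imp_left.2 fun h0 => ?_
  have h1 : (ζ - 1) * (ζ - 1) * φ w ≠ 0 :=
    mul_ne_zero (mul_ne_zero (sub_ne_zero.2 hζ) (sub_ne_zero.2 hζ)) h0
  ext i
  have := congrFun e1 i
  simp only [Pi.add_apply, Pi.smul_apply, smul_eq_mul] at this ⊢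
  apply mul_left_cancel₀ h1
  linear_combination this

section Uniq

variable {G : Type*} [Group G] [Finite G] {p : ℕ} [Fact p.Prime]

theorem uniq_conj {x : G} {P : Sylow p G} (h : ∀ Q : Sylow p G, x ∈ Q ↔ Q = P) (g : G)
    (Q : Sylow p G) : g * x * g⁻¹ ∈ Q ↔ Q = g • P := by
  rw [← inv_smul_eq_iff, ← h]
  change _ ↔ x ∈ (MulAut.conj g⁻¹) • (Q : Subgroup G)
  rw [Subgroup.mem_pointwise_smul_iff_inv_smul_mem]
  simp
  rfl

theorem conj_mem_of_uniq {x : G} {P : Sylow p G} (h : ∀ Q : Sylow p G, x ∈ Q ↔ Q = P) {k : G}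
    (hk : k * x = x * k) {r : G} (hr : r ∈ P) : k * r * k⁻¹ ∈ P := by
  have := (uniq_conj h k P).1 (by rw [hk, mul_inv_cancel_right]; exact (h P).2 rfl)
  rw [this]
  exact Subgroup.smul_mem_pointwise_smul r (MulAut.conj k) _ hr

theorem le_of_uniq {x : G} {P : Sylow p G} (h : ∀ Q : Sylow p G, x ∈ Q ↔ Q = P) {D : Subgroup G}
    (hD : IsPGroup p D) (hx : x ∈ Subgroup.normalizer (D : Set G)) : D ≤ P := by
  have h1 : IsPGroup p (Subgroup.zpowers x) :=
    P.isPGroup'.to_le ((Subgroup.zpowers_le).2 ((h P).2 rfl))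
  obtain ⟨Q, hQ⟩ := (h1.to_sup_of_normal_right' hD ((Subgroup.zpowers_le).2 hx)).exists_le_sylow
  rw [← (h Q).1 (hQ (Subgroup.mem_sup_left (Subgroup.mem_zpowers x)))]
  exact le_sup_right.trans hQ

end Uniq

/-- diagonal matrices of exponent `p` -/
def DD (n : Type*) [Fintype n] [DecidableEq n] (F : Type*) [Field F] (p : ℕ) : Subgroup (GL n F) where
  carrier := {g | ∃ d : n → F, (∀ i, d i ^ p = 1) ∧ (g : Matrix n n F) = diagonal d}
  one_mem' := ⟨1, by simp, by simp⟩
  mul_mem' := by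
    rintro a b ⟨d, hd, ha⟩ ⟨e, he, hb⟩
    exact ⟨d * e, by simp [mul_pow, hd, he], by rw [Units.val_mul, ha, hb, diagonal_mul_diagonal]; rfl⟩
  inv_mem' := by
    rintro a ⟨d, hd, ha⟩
    have h0 : ∀ i, d i ≠ 0 := by
      have := a.isUnit
      rw [ha, isUnit_diagonal, Pi.isUnit_iff] at this
      exact fun i => (this i).ne_zero
    refine ⟨fun i => (d i)⁻¹, by simp [hd], ?_⟩
    rw [Units.inv_eq_of_mul_eq_one_right]
    rw [ha, diagonal_mul_diagonal]
    simp [h0]

theorem DD_pgroup (p : ℕ) : IsPGroup p (DD n F p) := by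
  rintro ⟨g, d, hd, hg⟩
  refine ⟨1, Subtype.ext (Units.ext ?_)⟩
  simp only [pow_one, SubgroupClass.coe_pow, Units.val_pow_eq_pow_val, hg, diagonal_pow,
    OneMemClass.coe_one, Units.val_one]
  rw [← diagonal_one]; congr 1; ext i; exact hd i

theorem refl_mem_DD {p : ℕ} {ζ : F} (hζ : ζ ^ p = 1) (i : n) {r : GL n F}
    (hr : IsRefl ζ r (Pi.single i 1) (LinearMap.proj i)) : r ∈ DD n F p := by
  refine ⟨Function.update 1 i ζ, fun j => ?_, ?_⟩
  · by_cases h : j = i
    · subst h; simp [hζ]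
    · simp [h]
  · apply Matrix.toLin'.injective
    refine LinearMap.ext fun u => ?_
    rw [toLin'_apply, toLin'_apply, hr.2]
    ext j
    by_cases h : j = i
    · subst h; simp [mulVec_diagonal]; ring
    · simp [mulVec_diagonal, h]

theorem pow_p_eq_one [Fintype F] {p : ℕ} (hp : p.Prime) (h2 : ¬ p ^ 2 ∣ Fintype.card F - 1) {a : F}
    {k : ℕ} (ha : a ^ p ^ k = 1) : a ^ p = 1 := by
  have h0 : a ≠ 0 := by
    rintro rfl
    rw [zero_pow (pow_ne_zero _ hp.ne_zero)] at ha
    exact zero_ne_one ha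
  obtain ⟨j, -, hj⟩ := (Nat.dvd_prime_pow hp).1 (orderOf_dvd_of_pow_eq_one ha)
  have h3 := orderOf_dvd_of_pow_eq_one (FiniteField.pow_card_sub_one_eq_one a h0)
  rw [hj] at h3
  have : j ≤ 1 := by
    by_contra h
    exact h2 ((pow_dvd_pow p (by omega)).trans h3)
  apply orderOf_dvd_iff_pow_eq_one.1
  rw [hj]
  exact (pow_dvd_pow p this).trans (by simp)

theorem main [Fintype F] (p : ℕ) [Fact p.Prime] (hp : p ≠ 2) (h1 : p ∣ Fintype.card F - 1)
    (h2 : ¬ p ^ 2 ∣ Fintype.card F - 1) (x : GL (Fin p) F) (P : Sylow p (GL (Fin p) F))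
    (h : ∀ Q : Sylow p (GL (Fin p) F), x ∈ Q ↔ Q = P) : False := by
  classical
  have hpp : p.Prime := Fact.out
  have hp3 : 3 ≤ p := by have := hpp.two_le; omega
  have : NeZero p := ⟨hpp.ne_zero⟩
  have : Nontrivial (Fin p) := Fin.nontrivial_iff_two_le.2 hpp.two_le
  have hpF : (p : F) ≠ 0 := by
    intro h0
    obtain ⟨c, hc⟩ := h1
    have h3 : ((Fintype.card F - 1 : ℕ) : F) = 0 := by rw [hc]; simp [h0]
    rw [Nat.cast_sub Fintype.card_pos, FiniteField.cast_card_eq_zero] at h3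
    simp at h3
  obtain ⟨z, hz⟩ := exists_prime_orderOf_dvd_card (G := Fˣ) p (by rwa [Fintype.card_units])
  have hζ : IsPrimitiveRoot (z : F) p := by
    rw [IsPrimitiveRoot.coe_units_iff]
    have := IsPrimitiveRoot.orderOf z
    rwa [hz] at this
  obtain ⟨ζ, hζe⟩ : ∃ ζ, ζ = (z : F) := ⟨_, rfl⟩
  rw [← hζe] at hζ
  have hζ0 : ζ ≠ 0 := hζ.ne_zero hpp.ne_zero
  have hζ1 : ζ ≠ 1 := hζ.ne_one hpp.one_lt
  have hinj : Function.Injective fun i : Fin p => ζ ^ (i : ℕ) := fun i j e =>
    Fin.ext (hζ.pow_inj i.2 j.2 e)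
  choose R hR using fun i : Fin p =>
    exists_refl (v := Pi.single i (1 : F)) (φ := LinearMap.proj i) hζ0 (by simp)
  by_cases hc : ∀ i : Fin p, ((x : Matrix (Fin p) (Fin p) F) - scalar _ (ζ ^ (i : ℕ))).det = 0
  · choose e he0 he using fun i => exists_mulVec_eq_zero_iff.2 (hc i)
    have he' : ∀ i, (x : Matrix (Fin p) (Fin p) F) *ᵥ e i = ζ ^ (i : ℕ) • e i := fun i => by
      have := he i
      rwa [sub_mulVec, sub_eq_zero, scalar_apply, ← smul_one_eq_diagonal, smul_mulVec,
        one_mulVec] at this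
    have hN : IsUnit (Matrix.of e)ᵀ := by
      rw [← linearIndependent_cols_iff_isUnit]
      exact Module.End.eigenvectors_linearIndependent' (Matrix.toLin' (x : Matrix _ _ F)) _ hinj e
        fun i => ⟨Module.End.mem_eigenspace_iff.2 (he' i), he0 i⟩
    have hM : IsUnit (vandermonde fun i : Fin p => ζ ^ (i : ℕ)) := by
      rw [isUnit_iff_isUnit_det, isUnit_iff_ne_zero, det_vandermonde_ne_zero_iff]; exact hinj
    obtain ⟨K, hK⟩ := hN.mul hM
    let σ : Matrix (Fin p) (Fin p) F := Matrix.of fun k j => if k = j + 1 then 1 else 0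
    have e1 : (x : Matrix (Fin p) (Fin p) F) * (Matrix.of e)ᵀ =
        (Matrix.of e)ᵀ * diagonal fun i : Fin p => ζ ^ (i : ℕ) := by
      ext i j
      rw [mul_diagonal]
      have := congrFun (he' j) i
      simp only [Pi.smul_apply, smul_eq_mul] at this
      rw [mul_comm]; exact this
    have e2 : (diagonal fun i : Fin p => ζ ^ (i : ℕ)) * (vandermonde fun i : Fin p => ζ ^ (i : ℕ)) =
        (vandermonde fun i : Fin p => ζ ^ (i : ℕ)) * σ := by
      ext i j
      rw [diagonal_mul, mul_apply, Finset.sum_eq_single (j + 1) (fun l _ hl => by simp [σ, hl])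
        (by simp)]
      simp only [vandermonde_apply, σ, of_apply, if_true, mul_one]
      have h3 : (ζ ^ (i : ℕ)) ^ p = 1 := by rw [← pow_mul, mul_comm, pow_mul, hζ.pow_eq_one, one_pow]
      rw [Fin.val_add, ← pow_eq_pow_mod _ h3, Fin.val_one', Nat.mod_eq_of_lt hpp.one_lt, pow_succ']
    have hx' : ((K⁻¹ * x * K⁻¹⁻¹ : GL (Fin p) F) : Matrix (Fin p) (Fin p) F) = σ := by
      rw [inv_inv, mul_assoc, Units.val_mul, Units.inv_mul_eq_iff_eq_mul, Units.val_mul, hK,
        ← Matrix.mul_assoc, e1, Matrix.mul_assoc, e2, Matrix.mul_assoc]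
    have h' := uniq_conj h K⁻¹
    obtain ⟨y, hy⟩ : ∃ y, y = K⁻¹ * x * K⁻¹⁻¹ := ⟨_, rfl⟩
    rw [← hy] at h' hx'
    have hσ : ∀ (u : Fin p → F) k, (σ *ᵥ u) k = u (k - 1) := fun u k => by
      rw [mulVec, dotProduct, Finset.sum_eq_single (k - 1)
        (fun l _ hl => by simp [σ, show k ≠ l + 1 from fun e => hl (by simp [e])]) (by simp)]
      simp [σ]
    have hD : DD (Fin p) F p ≤ (K⁻¹ • P : Sylow p _) := by
      refine le_of_uniq h' (DD_pgroup p) (Subgroup.mem_normalizer_fintype ?_)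
      rintro g ⟨d, hd, hg⟩
      refine ⟨fun k => d (k - 1), fun k => hd _, ?_⟩
      rw [Units.val_mul, Units.mul_inv_eq_iff_eq_mul, Units.val_mul, hx', hg]
      ext i j
      rw [mul_diagonal, diagonal_mul]
      simp only [σ, of_apply]
      split_ifs with hij
      · simp [hij]
      · simp
    let ψ : (Fin p → F) →ₗ[F] F := (p : F)⁻¹ • ∑ i, LinearMap.proj i
    have hψ : ∀ u, ψ u = (p : F)⁻¹ * ∑ i, u i := fun u => by simp [ψ]
    obtain ⟨r', hr'⟩ := exists_refl (v := fun _ => (1 : F)) (φ := ψ) hζ0 (by simp [hψ, hpF])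
    have hcomm : y * r' = r' * y := by
      apply Units.ext
      apply Matrix.toLin'.injective
      refine LinearMap.ext fun u => ?_
      rw [toLin'_apply, toLin'_apply, Units.val_mul, Units.val_mul, ← mulVec_mulVec, ← mulVec_mulVec,
        hr'.2, hr'.2, hx']
      ext k
      simp only [hσ, Pi.add_apply, Pi.smul_apply, hψ]
      rw [← Equiv.sum_comp (Equiv.subRight (1 : Fin p)) u]
      rfl
    have hr'P : r' ∈ (K⁻¹ • P : Sylow p _) := by
      refine le_of_uniq h' (D := Subgroup.zpowers r') ?_ ?_ (Subgroup.mem_zpowers r')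
      · exact IsPGroup.of_card (n := 1) (by
          rw [Nat.card_zpowers, pow_one]
          refine orderOf_eq_prime (hr'.pow_eq_one hζ.pow_eq_one) ?_
          intro h0
          have := congrFun (hr'.2 fun _ => 1) 0
          rw [hr'.1, h0, Units.val_one, one_mulVec] at this
          simp at this
          exact hζ1 this.symm)
      · apply Subgroup.centralizer_le_normalizer
        rw [Subgroup.mem_centralizer_iff]
        rintro _ ⟨m, rfl⟩
        exact (Commute.zpow_left hcomm.symm m).eq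
    rcases dichotomy hp hpF hζ1 (K⁻¹ • P : Sylow p _).isPGroup'
      (hD (refl_mem_DD hζ.pow_eq_one 0 (hR 0))) hr'P (hR 0) hr' with e | e
    · simp at e
    · have e0 := congrFun e 0
      have e1 := congrFun e 1
      simp only [Pi.smul_apply, smul_eq_mul, mul_one, Pi.single_eq_same] at e0 e1
      rw [← e0, Pi.single_eq_of_ne (fun h => by
        have := congrArg Fin.val h
        rw [Fin.val_one', Nat.mod_eq_of_lt hpp.one_lt] at this
        exact one_ne_zero this)] at e1
      exact zero_ne_one e1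
  · push Not at hc
    obtain ⟨i₀, hi₀⟩ := hc
    obtain ⟨Q, hQ⟩ := (DD_pgroup (n := Fin p) (F := F) p).exists_le_sylow
    obtain ⟨g, rfl⟩ := MulAction.exists_smul_eq (GL (Fin p) F) P Q
    have h' := uniq_conj h g
    obtain ⟨y, hy⟩ : ∃ y, y = g * x * g⁻¹ := ⟨_, rfl⟩
    obtain ⟨s, hs⟩ : ∃ s, s = ζ ^ (i₀ : ℕ) := ⟨_, rfl⟩
    have hu : IsUnit ((y : Matrix (Fin p) (Fin p) F) - scalar _ s) := by
      have : (y : Matrix (Fin p) (Fin p) F) - scalar _ s =
          (g : Matrix (Fin p) (Fin p) F) * ((x : Matrix (Fin p) (Fin p) F) - scalar _ s) *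
            ((g⁻¹ : GL (Fin p) F) : Matrix (Fin p) (Fin p) F) := by
        rw [mul_sub, sub_mul, hy, ← (scalar_commute s (fun _ => Commute.all _ _) _).eq,
          Matrix.mul_assoc (scalar _ s), ← Units.val_mul g g⁻¹, mul_inv_cancel]
        simp
      rw [this]
      refine (g.isUnit.mul ?_).mul (g⁻¹).isUnit
      rw [isUnit_iff_isUnit_det, isUnit_iff_ne_zero, hs]; exact hi₀
    obtain ⟨k, hk⟩ := hu
    rw [← hy] at h'
    have hRP : ∀ i, R i ∈ g • P := fun i => hQ (refl_mem_DD hζ.pow_eq_one i (hR i))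
    have key : ∀ k : GL (Fin p) F, k * y = y * k → ∀ i, (k : Matrix (Fin p) (Fin p) F) i i = 0 ∨
        ∀ j, j ≠ i → (k : Matrix (Fin p) (Fin p) F) j i = 0 := by
      intro k hk i
      rcases dichotomy hp hpF hζ1 (g • P).isPGroup' (hRP i) (conj_mem_of_uniq h' hk (hRP i)) (hR i)
        ((hR i).conj k) with e | e
      · left; simpa using e
      · right
        intro j hj
        have e0 := congrFun e i
        have e1 := congrFun e j
        simp only [Pi.smul_apply, smul_eq_mul, Pi.single_eq_same, mulVec_single_one, col_apply,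
          Pi.single_eq_of_ne hj] at e0 e1
        refine (mul_eq_zero.1 e1.symm).resolve_left fun h0 => ?_
        rw [h0, zero_mul] at e0
        exact one_ne_zero e0
    have hdiag : ∀ i j, j ≠ i → (y : Matrix (Fin p) (Fin p) F) j i = 0 := by
      intro i j hj
      rcases key y rfl i with e | e
      · rcases key k (Units.ext (by
          rw [Units.val_mul, Units.val_mul, hk, sub_mul, mul_sub,
            (scalar_commute s (fun _ => Commute.all _ _) _).eq])) i with e' | e'
        · rw [hk] at e'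
          simp [e, hs, hζ0] at e'
        · have := e' j hj
          rw [hk] at this
          simpa [hj] using this
      · exact e j hj
    have hyd : (y : Matrix (Fin p) (Fin p) F) = diagonal fun i => (y : Matrix (Fin p) (Fin p) F) i i := by
      ext j i
      by_cases hj : j = i
      · simp [hj]
      · rw [hdiag i j hj, diagonal_apply_ne _ hj]
    obtain ⟨d, hd⟩ : ∃ d : Fin p → F, (y : Matrix (Fin p) (Fin p) F) = diagonal d := ⟨_, hyd⟩
    obtain ⟨m, hm⟩ := (g • P).isPGroup' ⟨y, (h' _).2 rfl⟩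
    have hm' : ∀ i, d i ^ p = 1 := fun i => by
      have := congrArg (fun g : GL (Fin p) F => (g : Matrix (Fin p) (Fin p) F) i i)
        (congrArg Subtype.val hm)
      simp only [SubgroupClass.coe_pow, Units.val_pow_eq_pow_val, hd, diagonal_pow] at this
      exact pow_p_eq_one hpp h2 (by simpa using this)
    choose f hf1 hf using fun i => hζ.eq_pow_of_pow_eq_one (hm' i)
    have hne : ∀ i, d i ≠ s := fun i hi => by
      have := k.isUnit
      rw [hk, hd, scalar_apply, diagonal_sub, isUnit_diagonal, Pi.isUnit_iff] at this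
      exact (this i).ne_zero (by simp [hi])
    have hni : ¬ Function.Injective fun i => (⟨f i, hf1 i⟩ : Fin p) := fun hi => by
      obtain ⟨i, hi'⟩ := Finite.surjective_of_injective hi i₀
      exact hne i (by rw [← hf, hs, ← hi'])
    simp only [Function.Injective, not_forall] at hni
    obtain ⟨i, j, hij, hne'⟩ := hni
    have hdij : d i = d j := by rw [← hf, ← hf, Fin.mk.inj hij]
    have ht : IsUnit (transvection i j (1 : F)) := by
      rw [isUnit_iff_isUnit_det, det_transvection_of_ne _ _ hne']; exact isUnit_one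
    obtain ⟨t, ht⟩ := ht
    rcases key t (Units.ext (by
      rw [Units.val_mul, Units.val_mul, ht, hd]
      ext a b
      rw [mul_diagonal, diagonal_mul]
      simp only [transvection, Matrix.add_apply, one_apply, single_apply]
      split_ifs with h3 h4 h4
      · rw [h3, mul_comm]
      · rw [h3, mul_comm]
      · rw [← h4.1, ← h4.2, hdij, mul_comm]
      · simp)) j with e | e
    · rw [ht] at e
      simp [transvection, hne'] at e
    · have := e i hne'
      rw [ht] at this
      simp [transvection, hne'] at this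

end CL.Ord.Redund
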