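import Mathlib
import Cfsg.Agent.CHAR.Clifford
import Cfsg.Agent.CHAR.Det
import Cfsg.Agent.CHAR.Faithful
import Cfsg.Agent.CHAR.Quot
import Cfsg.Agent.FGS.CoprimeIndex
import Cfsg.Prelude.Def_DegreeGraph

/-!
# Degrees of characters over a normal subgroup inside the derived subgroup
-/

set_option autoImplicit false

namespace CL.Ord.RD
open Cfsg CL.Char Subgroup

variable {G : Type*} [Group G] {N : Subgroup G}

/-- The group of linear characters. -/
def Lin (N : Subgroup G) : Type _ := N →* ℂˣ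

noncomputable instance : CommGroup (Lin N) := inferInstanceAs (CommGroup (N →* ℂˣ))

/-- The underlying homomorphism. -/
def Lin.hom (μ : Lin N) : N →* ℂˣ := μ

/-- A linear character as a function. -/
def ch (μ : Lin N) : N → ℂ := fun n => μ.hom n

/-- Product with a linear character. -/
def tw (μ : Lin N) (θ : N → ℂ) : N → ℂ := fun n => (μ.hom n : ℂ) * θ n

theorem tw_ch (μ ν : Lin N) : tw μ (ch ν) = ch (μ * ν) := rfl

theorem ch_pow (μ : Lin N) (k : ℕ) (n : N) : ch (μ ^ k) n = ch μ n ^ k := Units.val_pow_eq_pow_val _ _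

theorem ch_inj {μ ν : Lin N} (h : ch μ = ch ν) : μ = ν := hom_coe_injective h

theorem tw_inj (μ : Lin N) : Function.Injective (tw μ) := fun _ _ h => funext fun n =>
  mul_left_cancel₀ (μ.hom n).ne_zero (congrFun h n)

theorem irr_ch (μ : Lin N) : IsIrrCharacter N (ch μ) := isIrrCharacter_hom μ.hom

theorem deg_ch (μ : Lin N) : charDegree (ch μ) = 1 := charDegree_eq_of_apply_one (by simp [ch])

theorem deg_tw (μ : Lin N) (θ : N → ℂ) : charDegree (tw μ θ) = charDegree θ := by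
  simp [charDegree, tw]

theorem eq_ch_of_tw {μ : Lin N} {θ : N → ℂ} (h : tw μ θ = ch 1) : θ = ch μ⁻¹ :=
  tw_inj μ (by rw [h, tw_ch, mul_inv_cancel])

variable [N.Normal]

/-- Conjugate of a linear character. -/
def cj (g : G) (μ : Lin N) : Lin N := μ.hom.comp (conjEquiv N g).toMonoidHom

theorem cj_pow (g : G) (μ : Lin N) (k : ℕ) : cj g (μ ^ k) = cj g μ ^ k := rfl

theorem cj_mul (g : G) (μ ν : Lin N) : cj g (μ * ν) = cj g μ * cj g ν := rfl

theorem mem_inertia_ch {g : G} {μ : Lin N} : g ∈ inertia N (ch μ) ↔ cj g μ = μ :=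
  mem_inertia_iff.trans ⟨fun h => ch_inj h, fun h => congrArg ch h⟩

theorem inertia_le_pow (μ : Lin N) (k : ℕ) : inertia N (ch μ) ≤ inertia N (ch (μ ^ k)) :=
  fun g hg => mem_inertia_ch.2 (by rw [cj_pow, mem_inertia_ch.1 hg])

theorem inertia_inv (μ : Lin N) : inertia N (ch μ⁻¹) = inertia N (ch μ) := by
  ext g
  rw [mem_inertia_ch, mem_inertia_ch]
  exact inv_inj (a := cj g μ)

theorem conjN_tw {g : G} {μ : Lin N} (hg : g ∈ inertia N (ch μ)) (θ : N → ℂ) :
    conjN N g (tw μ θ) = tw μ (conjN N g θ) := by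
  conv_rhs => rw [← mem_inertia_ch.1 hg]
  rfl

/-- Orbit size. -/
noncomputable def os (θ : N → ℂ) : ℕ := (inertia N θ).index

theorem os_eq_one {μ : Lin N} : os (ch μ) = 1 ↔ ∀ g, cj g μ = μ := by
  rw [os, index_eq_one, eq_top_iff']
  exact forall_congr' fun g => mem_inertia_ch

theorem os_eq_one_of_pow {μ : Lin N} {a b : ℕ} (h : a.Coprime b)
    (ha : ∀ g, cj g μ ^ a = μ ^ a) (hb : ∀ g, cj g μ ^ b = μ ^ b) : os (ch μ) = 1 :=
  os_eq_one.2 fun g => mul_inv_eq_one.1 (orderOf_eq_one_iff.1 (Nat.eq_one_of_dvd_coprimes h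
    (orderOf_dvd_of_pow_eq_one (by rw [mul_pow, inv_pow, ha, mul_inv_cancel]))
    (orderOf_dvd_of_pow_eq_one (by rw [mul_pow, inv_pow, hb, mul_inv_cancel]))))

variable [Finite G]

theorem os_pos (θ : N → ℂ) : 0 < os θ := Nat.pos_of_ne_zero index_ne_zero_of_finite

theorem exists_conj_tw {μ : Lin N} {θ : N → ℂ} (h : (os (tw μ θ)).Coprime (os (ch μ))) (g : G) :
    ∃ k, conjN N g (tw μ θ) = tw μ (conjN N k θ) := by
  obtain ⟨x, hx, t, ht, rfl⟩ := exists_mul_eq_of_coprime_index _ _ h g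
  exact ⟨t, by rw [conjN_mul, mem_inertia_iff.1 hx, conjN_tw ht]⟩

theorem exists_tw_conj {μ : Lin N} {θ : N → ℂ} (h : (os θ).Coprime (os (ch μ))) (g : G) :
    ∃ k, conjN N k (tw μ θ) = tw μ (conjN N g θ) := by
  obtain ⟨x, hx, t, ht, rfl⟩ := exists_mul_eq_of_coprime_index _ _ h g
  exact ⟨t, by rw [conjN_mul, mem_inertia_iff.1 hx, conjN_tw ht]⟩

/-- Orbit sum. -/
noncomputable def osum (θ : N → ℂ) : N → ℂ := ∑ φ ∈ conjugates N θ, φ

theorem osum_char {θ : N → ℂ} (h : IsIrrCharacter N θ) : IsCharacter N (osum θ) :=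
  isCharacter_sum _ (fun φ => φ) fun _ hφ => (irr_of_mem_conjugates h hφ).isCharacter

theorem osum_one {θ : N → ℂ} (h : IsIrrCharacter N θ) :
    osum θ 1 = (os θ * charDegree θ : ℕ) := by
  rw [osum, Finset.sum_apply, Finset.sum_congr rfl (g := fun _ => θ 1) fun φ hφ => by
    obtain ⟨g, rfl⟩ := mem_conjugates.1 hφ
    exact conjN_apply_one g θ]
  simp [card_conjugates, os, h.apply_one_eq_charDegree]

theorem osum_tw {μ : Lin N} {θ : N → ℂ} (h1 : (os θ).Coprime (os (ch μ)))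
    (h2 : (os (tw μ θ)).Coprime (os (ch μ))) : osum (tw μ θ) = tw μ (osum θ) := by
  rw [osum, ← Finset.sum_nbij (s := conjugates N θ) (f := tw μ) (tw μ) (fun φ hφ => ?_)
    (tw_inj μ).injOn (fun φ hφ => ?_) fun _ _ => rfl]
  · ext n
    simp [tw, osum, Finset.mul_sum]
  · obtain ⟨g, rfl⟩ := mem_conjugates.1 hφ
    exact mem_conjugates.2 (exists_tw_conj h1 g)
  · obtain ⟨g, rfl⟩ := mem_conjugates.1 hφ
    obtain ⟨k, hk⟩ := exists_conj_tw h2 g
    exact ⟨_, conjN_mem_conjugates k θ, hk.symm⟩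

/-- Determinant of the orbit sum. -/
noncomputable def dt (θ : N → ℂ) : Lin N := detHom (osum θ)

theorem ch_dt (θ : N → ℂ) : ch (dt θ) = detChar (osum θ) := (detChar_eq_coe _).symm

theorem cj_det_osum {θ : N → ℂ} (h : IsIrrCharacter N θ) (g : G) : cj g (dt θ) = dt θ := by
  have h1 : conjN N g (osum θ) = osum θ := by
    rw [osum, conjN_sum]
    refine Finset.sum_nbij (conjN N g) (fun φ hφ => ?_) (conjN_injective g).injOn
      (fun φ hφ => ?_) fun _ _ => rfl <;> obtain ⟨k, rfl⟩ := mem_conjugates.1 hφ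
    · exact conjN_mul k g θ ▸ conjN_mem_conjugates _ _
    · exact ⟨_, conjN_mem_conjugates (k * g⁻¹) θ, by rw [← conjN_mul, inv_mul_cancel_right]⟩
  refine ch_inj (funext fun n => ?_)
  change conjN N g (ch (dt θ)) n = _
  rw [ch_dt]
  exact (osum_char h).detChar_invariant g (congrFun h1) n

theorem det_osum_tw {μ : Lin N} {θ : N → ℂ} (h : IsIrrCharacter N θ)
    (h1 : (os θ).Coprime (os (ch μ))) (h2 : (os (tw μ θ)).Coprime (os (ch μ))) :
    dt (tw μ θ) = μ ^ (os θ * charDegree θ) * dt θ := by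
  refine ch_inj (funext fun n => ?_)
  rw [← tw_ch, ch_dt, ch_dt, osum_tw h1 h2]
  exact ((osum_char h).detChar_hom_mul (osum_one h) μ.hom n).trans
    (congrArg (· * _) (ch_pow μ _ n).symm)

theorem cj_pow_eq {μ : Lin N} {θ : N → ℂ} (h : IsIrrCharacter N θ)
    (h1 : (os θ).Coprime (os (ch μ))) (h2 : (os (tw μ θ)).Coprime (os (ch μ))) (g : G) :
    cj g μ ^ (os θ * charDegree θ) = μ ^ (os θ * charDegree θ) := by
  have h3 := cj_det_osum (θ := tw μ θ) (h.hom_mul μ.hom) g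
  rw [det_osum_tw h h1 h2, cj_mul, cj_det_osum h] at h3
  exact mul_right_cancel h3

variable [Fintype N]

/-- `χ` lies over `θ`. -/
structure Ov (χ : G → ℂ) (θ : N → ℂ) : Prop where
  irr : IsIrrCharacter G χ
  irr' : IsIrrCharacter N θ
  ne : classInner (fun n : N => χ n) θ ≠ 0

theorem Ov.det (hN : N ≤ commutator G) {χ : G → ℂ} {θ : N → ℂ} (h : Ov χ θ) :
    ∃ e : ℕ, charDegree χ = e * (os θ * charDegree θ) ∧ dt θ ^ e = 1 := by
  obtain ⟨e, he⟩ := (h.irr.isCharacter.res N).exists_nat_inner h.irr'.isCharacter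
  have h1 := clifford h.irr h.irr' h.ne
  rw [he] at h1
  refine ⟨e, ?_, ch_inj (funext fun n => ?_)⟩
  · have h2 : χ 1 = e * osum θ 1 := congrFun h1 1
    rw [osum_one h.irr', h.irr.apply_one_eq_charDegree] at h2
    exact_mod_cast h2
  · have h2 := congrFun ((osum_char h.irr').detChar_natCast_smul e) n
    rw [show (e : ℂ) • osum θ = _ from h1.symm, h.irr.isCharacter.detChar_res, ← detHom_apply,
      hom_apply_of_mem_commutator _ (hN n.2)] at h2
    rw [ch_pow, ch_dt]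
    exact h2.symm

theorem Ov.dvd (hN : N ≤ commutator G) {χ : G → ℂ} {θ : N → ℂ} (h : Ov χ θ) :
    os θ * charDegree θ ∣ charDegree χ := by
  obtain ⟨e, he, -⟩ := h.det hN
  exact Dvd.intro_left _ he.symm

theorem Ov.os_dvd (hN : N ≤ commutator G) {χ : G → ℂ} {θ : N → ℂ} (h : Ov χ θ) :
    os θ ∣ charDegree χ := (dvd_mul_right _ _).trans (h.dvd hN)

theorem Ov.deg_dvd (hN : N ≤ commutator G) {χ : G → ℂ} {θ : N → ℂ} (h : Ov χ θ) :
    charDegree θ ∣ charDegree χ := (dvd_mul_left _ _).trans (h.dvd hN)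

theorem Ov.order_dvd (hN : N ≤ commutator G) {χ : G → ℂ} {μ : Lin N} (h : Ov χ (ch μ))
    (h1 : os (ch μ) = 1) : orderOf μ ∣ charDegree χ := by
  obtain ⟨e, he, h2⟩ := h.det hN
  have h3 : dt (ch μ) = μ := ch_inj (by
    rw [ch_dt, osum, conjugates_of_invariant (index_eq_one.1 h1), Finset.sum_singleton]
    exact detChar_hom μ.hom)
  rw [he, h1, deg_ch, mul_one, mul_one]
  exact orderOf_dvd_of_pow_eq_one (h3 ▸ h2)

theorem Ov.order_dvd_mul (hN : N ≤ commutator G) {χ ψ : G → ℂ} {μ : Lin N} {θ : N → ℂ}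
    (h : Ov χ θ) (h' : Ov ψ (tw μ θ)) (h1 : (os θ).Coprime (os (ch μ)))
    (h2 : (os (tw μ θ)).Coprime (os (ch μ))) : orderOf μ ∣ charDegree χ * charDegree ψ := by
  obtain ⟨e, he, h3⟩ := h.det hN
  obtain ⟨f, hf, h4⟩ := h'.det hN
  rw [det_osum_tw h.irr' h1 h2] at h4
  have h5 := congrArg (· ^ e) h4
  simp only [mul_pow, one_pow] at h5
  rw [← pow_mul (dt θ), mul_comm f, pow_mul (dt θ), h3, one_pow, mul_one, ← pow_mul, ← pow_mul] at h5
  refine (orderOf_dvd_of_pow_eq_one h5).trans ⟨os (tw μ θ) * charDegree (tw μ θ), ?_⟩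
  rw [he, hf]
  ring

theorem Ov.mem {χ : G → ℂ} {θ : N → ℂ} (h : Ov χ θ) (h1 : θ ≠ ch 1) :
    charDegree χ ∈ relCharDegrees N := by
  refine ⟨⟨χ, h.irr⟩, ?_, rfl⟩
  by_contra hc
  push Not at hc
  have h2 := mem_conjugates_of_under h.irr isIrrCharacter_one h.irr'
    ((inner_res_one_ne_zero_iff h.irr).2 hc) h.ne
  rw [conjugates_of_invariant (inertia_const 1), Finset.mem_singleton] at h2
  exact h1 h2

theorem exists_over {θ : N → ℂ} (h : IsIrrCharacter N θ) : ∃ χ : G → ℂ, Ov χ θ :=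
  let ⟨χ, h1, h2⟩ := h.exists_over
  ⟨χ, h1, h, h2⟩

theorem exists_under {a : ℕ} (h : a ∈ relCharDegrees N) :
    ∃ (χ : G → ℂ) (θ : N → ℂ), Ov χ θ ∧ θ ≠ ch 1 ∧ charDegree χ = a := by
  obtain ⟨χ, ⟨x, hx, h1⟩, rfl⟩ := h
  obtain ⟨θ, h2, h3⟩ := χ.2.exists_under_res N
  refine ⟨χ, θ, ⟨χ.2, h2, h3⟩, ?_, rfl⟩
  rintro rfl
  exact h1 ((inner_res_one_ne_zero_iff χ.2).1 h3 x hx)

end CL.Ord.RD
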