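import Mathlib
import Cfsg.Agent.ORD.RelDeg

/-!
# The common-divisor graph of relative degrees (Isaacs)
-/

set_option autoImplicit false

namespace CL.Ord.RD
open Cfsg CL.Char Subgroup

variable {G : Type*} [Group G] {N : Subgroup G}

/-- Reachability in the graph of relative degrees. -/
def R (N : Subgroup G) (a b : ℕ) : Prop :=
  ∃ (ha : a ∈ relCharDegrees N) (hb : b ∈ relCharDegrees N),
    (commonDivisorGraph.induce (relCharDegrees N)).Reachable ⟨a, ha⟩ ⟨b, hb⟩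

theorem R.symm {a b : ℕ} (h : R N a b) : R N b a := ⟨h.2.1, h.1, h.2.2.symm⟩

theorem R.trans {a b c : ℕ} (h : R N a b) (h' : R N b c) : R N a c :=
  ⟨h.1, h'.2.1, h.2.2.trans h'.2.2⟩

theorem one_lt_gcd {a b : ℕ} (ha : a ∈ relCharDegrees N) (h : ¬ a.Coprime b) : 1 < a.gcd b := by
  obtain ⟨χ, -, rfl⟩ := ha
  have := Nat.gcd_pos_of_pos_left b χ.2.charDegree_pos
  unfold Nat.Coprime at h
  omega

theorem R.of_not_coprime {a b : ℕ} (ha : a ∈ relCharDegrees N) (hb : b ∈ relCharDegrees N)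
    (h : ¬ a.Coprime b) : R N a b := by
  refine ⟨ha, hb, ?_⟩
  by_cases e : a = b
  · subst e; rfl
  · exact SimpleGraph.Adj.reachable (show _ ∧ _ from ⟨e, one_lt_gcd ha h⟩)

theorem nc {a b x y : ℕ} (h : ¬ x.Coprime y) (h1 : x ∣ a) (h2 : y ∣ b) : ¬ a.Coprime b :=
  fun c => h (Nat.Coprime.coprime_dvd_left h1 (Nat.Coprime.coprime_dvd_right h2 c))

theorem nc' {a b x : ℕ} (h : x ≠ 1) (h1 : x ∣ a) (h2 : x ∣ b) : ¬ a.Coprime b :=
  nc (by simpa using h) h1 h2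

theorem relCharDegrees_mono {M : Subgroup G} (h : M ≤ N) : relCharDegrees M ⊆ relCharDegrees N :=
  fun _ ⟨χ, ⟨x, hx, h1⟩, h2⟩ => ⟨χ, ⟨x, h hx, h1⟩, h2⟩

theorem R.mono {M : Subgroup G} (h : M ≤ N) {a b : ℕ} (hr : R M a b) : R N a b :=
  ⟨relCharDegrees_mono h hr.1, relCharDegrees_mono h hr.2.1,
    hr.2.2.map (SimpleGraph.induceHomOfLE _ (relCharDegrees_mono h)).toHom⟩

theorem relIndex_commutator : ⁅N, N⁆.relIndex N = (commutator N).index := by
  rw [← map_subtype_commutator, relIndex, subgroupOf, comap_map_eq_self_of_injective N.subtype_injective]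

theorem ker_of_inner_ne_zero {H : Type*} [Group H] [Fintype H] {a ψ : H → ℂ}
    (ha : IsCharacter H a) (hψ : IsIrrCharacter H ψ) (h : classInner a ψ ≠ 0) {g : H}
    (hg : a g = a 1) : ψ g = ψ 1 :=
  apply_eq_of_mem_charKer (ha.charKer_le_of_inner_ne_zero hψ h (ha.mem_charKer.2 hg))

variable [N.Normal] [Finite G]

theorem exists_lin {p : ℕ} (hp : p.Prime) (h : p ∣ (commutator N).index) :
    ∃ l : Lin N, orderOf l = p ∧ ¬ p ∣ os (ch l) := by
  have := Fact.mk hp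
  obtain ⟨P⟩ : Nonempty (Sylow p G) := inferInstance
  let Ω := (powMonoidHom p : Lin N →* Lin N).ker
  let _ : MulAction (P : Subgroup G) Ω :=
    { smul := fun g μ => ⟨cj (g : G)⁻¹ μ, (cj_pow _ _ p).symm.trans (congrArg (cj _) μ.2)⟩
      one_smul := fun μ => Subtype.ext (mem_inertia_ch.1 (inv_mem (one_mem _)))
      mul_smul := fun g k μ => Subtype.ext (ch_inj (by
        change conjN N (g * k : G)⁻¹ (ch μ.1) = conjN N (g : G)⁻¹ (conjN N (k : G)⁻¹ (ch μ.1))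
        rw [mul_inv_rev, conjN_mul])) }
  have : Finite (Lin N) := finite_hom (G := N)
  obtain ⟨l₀, hl₀⟩ := exists_prime_orderOf_dvd_card' (G := Lin N) p (h.trans (card_hom (G := N)).symm.dvd)
  have h1 : p ∣ Nat.card Ω := hl₀.symm.dvd.trans (Ω.orderOf_dvd_natCard
    (show l₀ ^ p = 1 by rw [← hl₀, pow_orderOf_eq_one]))
  obtain ⟨l, h2, h3⟩ := P.2.exists_fixed_point_of_prime_dvd_card_of_fixed_point Ω h1 (a := 1)
    fun g => rfl
  refine ⟨l, orderOf_eq_prime l.2 fun e => h3 (Subtype.ext e.symm), fun hd => P.not_dvd_index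
    (hd.trans (index_dvd_of_le fun g hg => mem_inertia_ch.2 ?_))⟩
  have h4 : cj g⁻¹⁻¹ l.1 = l.1 := congrArg Subtype.val (h2 ⟨g⁻¹, inv_mem hg⟩)
  rwa [inv_inv] at h4

variable [Fintype N] (hN : N ≤ commutator G)
include hN

theorem tw_ne {χ : G → ℂ} {θ : N → ℂ} (h : Ov χ θ) {μ : Lin N} (h0 : μ ≠ 1)
    (h1 : (os θ).Coprime (os (ch μ))) (h2 : (orderOf μ).Coprime (charDegree χ)) :
    tw μ θ ≠ ch 1 := fun e => by
  obtain rfl := eq_ch_of_tw e
  have h3 : os (ch μ⁻¹) = 1 := by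
    rw [os, inertia_inv] at h1 ⊢
    simpa [os] using h1
  have h4 := h.order_dvd hN h3
  rw [orderOf_inv] at h4
  exact h0 (orderOf_eq_one_iff.1 (h2.eq_one_of_dvd h4))

theorem reach {p : ℕ} (hp : p.Prime) {l : Lin N} (hl : orderOf l = p) (ht : ¬ p ∣ os (ch l))
    {β : G → ℂ} (hβ : Ov β (ch l)) {a : ℕ} (ha : a ∈ relCharDegrees N) (hpa : ¬ p ∣ a) :
    R N a (charDegree β) := by
  have hl1 : l ≠ 1 := by rintro rfl; exact hp.ne_one (hl.symm.trans orderOf_one)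
  have hb := hβ.mem fun e => hl1 (ch_inj e)
  obtain ⟨χ, θ, hχ, hθ, rfl⟩ := exists_under ha
  by_cases h1 : (os θ).Coprime (os (ch l))
  swap
  · exact .of_not_coprime ha hb (nc h1 (hχ.os_dvd hN) (hβ.os_dvd hN))
  have hpa' := (hp.coprime_iff_not_dvd).2 hpa
  obtain ⟨ψ, hψ⟩ := exists_over (θ := tw l θ) (hχ.irr'.hom_mul l.hom)
  have hc := hψ.mem (tw_ne hN hχ hl1 h1 (hl ▸ hpa'))
  have hcb : R N (charDegree ψ) (charDegree β) := by
    by_cases h2 : (os (tw l θ)).Coprime (os (ch l))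
    swap
    · exact .of_not_coprime hc hb (nc h2 (hψ.os_dvd hN) (hβ.os_dvd hN))
    have h3 := os_eq_one_of_pow (hpa'.coprime_dvd_right (hχ.dvd hN))
      (fun g => by rw [← cj_pow, ← hl, pow_orderOf_eq_one]; rfl) (cj_pow_eq hχ.irr' h1 h2)
    exact .of_not_coprime hc hb (nc' hp.ne_one
      (hpa'.dvd_of_dvd_mul_left (hl ▸ hχ.order_dvd_mul hN hψ h1 h2)) (hl ▸ hβ.order_dvd hN h3))
  by_cases hd : charDegree θ = 1
  swap
  · exact (R.of_not_coprime ha hc (nc' hd (hχ.deg_dvd hN) (deg_tw l θ ▸ hψ.deg_dvd hN))).trans hcb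
  by_cases h2 : (os (tw l θ)).Coprime (os θ)
  swap
  · exact (R.of_not_coprime hc ha (nc h2 (hψ.os_dvd hN) (hχ.os_dvd hN))).symm.trans hcb
  obtain ⟨μ, rfl⟩ : ∃ μ, θ = ch μ :=
    hχ.irr'.isCharacter.exists_hom (hχ.irr'.isCharacter.charDegree_eq_one_iff.1 hd)
  have e : tw l (ch μ) = tw μ (ch l) := by rw [tw_ch, tw_ch, mul_comm]
  rw [e] at h2 hψ
  have h3 := os_eq_one_of_pow (μ := μ) ((hp.coprime_iff_not_dvd).2 ht) (fun g => by
    obtain ⟨k, hk⟩ := exists_conj_tw h2 g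
    have h4 : cj g μ * cj g l = μ * cj k l := ch_inj hk
    have h5 : ∀ g, cj g l ^ p = 1 := fun g => by rw [← cj_pow, ← hl, pow_orderOf_eq_one]; rfl
    simpa [mul_pow, h5] using congrArg (· ^ p) h4) fun g => by
      simpa [deg_ch] using cj_pow_eq (irr_ch l) h1.symm h2 g
  have h4 := hβ.order_dvd_mul hN hψ h1.symm h2
  have h5 : orderOf μ ≠ 1 := fun e => hθ (by rw [orderOf_eq_one_iff.1 e])
  have h6 := nc' h5 (hχ.order_dvd hN h3) h4
  rw [Nat.coprime_mul_iff_right, not_and_or] at h6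
  rcases h6 with h6 | h6
  · exact .of_not_coprime ha hb h6
  · exact (R.of_not_coprime ha hc h6).trans hcb

/-- Isaacs' Theorem A in working form. -/
theorem exists_base {p : ℕ} (hp : p.Prime) (h : p ∣ (commutator N).index) :
    ∃ b ∈ relCharDegrees N, (∀ a ∈ relCharDegrees N, R N a b) ∨
      ∀ a ∈ relCharDegrees N, (R N a b → a.Coprime (commutator N).index) ∧
        (¬ R N a b → ∀ r : ℕ, r.Prime → r ∣ (commutator N).index → r ∣ a) := by
  have key : ∀ r : ℕ, r.Prime → r ∣ (commutator N).index → ∃ (l : Lin N) (β : G → ℂ),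
      orderOf l = r ∧ Ov β (ch l) ∧ charDegree β ∈ relCharDegrees N ∧
      (∀ a ∈ relCharDegrees N, ¬ r ∣ a → R N a (charDegree β)) ∧
      (os (ch l) = 1 → ∀ a ∈ relCharDegrees N, R N a (charDegree β)) := fun r hr hd => by
    obtain ⟨l, h1, h2⟩ := exists_lin hr hd
    obtain ⟨β, hβ⟩ := exists_over (irr_ch l)
    have hb := hβ.mem fun e => hr.ne_one (by rw [← h1, ch_inj e, orderOf_one])
    refine ⟨l, β, h1, hβ, hb, fun a => reach hN hr h1 h2 hβ, fun h3 a ha => ?_⟩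
    by_cases h4 : r ∣ a
    · exact .of_not_coprime ha hb (nc' hr.ne_one h4 (h1 ▸ hβ.order_dvd hN h3))
    · exact reach hN hr h1 h2 hβ ha h4
  obtain ⟨l, β, h1, hβ, hb, h2, h3⟩ := key p hp h
  refine ⟨_, hb, or_iff_not_imp_left.2 fun hcon => ?_⟩
  have h4 : ∀ a ∈ relCharDegrees N, ¬ R N a (charDegree β) → ∀ r : ℕ, r.Prime →
      r ∣ (commutator N).index → r ∣ a := fun a ha hna r hr hd => by
    by_contra hra
    by_cases e : r = p
    · exact hna (h2 a ha (e ▸ hra))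
    obtain ⟨l', β', k1, hβ', hb', k2, k3⟩ := key r hr hd
    refine hna ((k2 a ha hra).trans ?_)
    by_cases k4 : os (ch l') = 1
    · exact (k3 k4 _ hb).symm
    have hco : (orderOf l).Coprime (orderOf l') := h1 ▸ k1 ▸ (Nat.coprime_primes hp hr).2 (Ne.symm e)
    have ho := (Commute.all l l').orderOf_mul_eq_mul_orderOf_of_coprime hco
    obtain ⟨ψ, hψ⟩ := exists_over (irr_ch (l * l'))
    have hc := hψ.mem fun e => hp.ne_one (by
      rw [ch_inj e, orderOf_one, h1] at ho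
      exact Nat.eq_one_of_mul_eq_one_right ho.symm)
    have hdvd : ∀ x y : Lin N, (orderOf x).Coprime (orderOf y) → os (ch x) ∣ os (ch (x * y)) :=
      fun x y hxy => by
        obtain ⟨k, hk⟩ := exists_pow_eq_self_of_coprime (x := x) (n := orderOf y) hxy.symm
        refine index_dvd_of_le ((inertia_le_pow (x * y) (orderOf y * k)).trans_eq ?_)
        rw [mul_pow, pow_mul, pow_mul, pow_orderOf_eq_one, one_pow, hk, mul_one]
    exact (R.of_not_coprime hb' hc (nc' k4 (hβ'.os_dvd hN)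
      ((mul_comm l' l ▸ hdvd l' l hco.symm).trans (hψ.os_dvd hN)))).trans
      (.of_not_coprime hc hb (nc' (fun e => hcon (h3 e)) ((hdvd l l' hco).trans (hψ.os_dvd hN))
        (hβ.os_dvd hN)))
  refine fun a ha => ⟨fun hr => ?_, h4 a ha⟩
  push Not at hcon
  obtain ⟨a', ha', hna⟩ := hcon
  refine Nat.coprime_of_dvd fun r hr' h5 h6 => hna (R.trans ?_ hr)
  exact .of_not_coprime ha' ha (nc' hr'.ne_one (h4 a' ha' hna r hr' h6) h5)

theorem order_dvd_index (μ : Lin N) : orderOf μ ∣ (commutator N).index :=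
  (orderOf_dvd_natCard μ).trans (card_hom (G := N)).dvd

theorem near_of_linear {χ χ' : G → ℂ} {μ : Lin N} {θ : N → ℂ} (h : Ov χ (ch μ)) (h' : Ov χ' θ)
    (hμ : μ ≠ 1) (hθ : θ ≠ ch 1) (c : (charDegree χ).Coprime (commutator N).index)
    (c' : (charDegree χ').Coprime (commutator N).index) :
    ¬ (charDegree χ).Coprime (charDegree χ') ∨ ∃ d ∈ relCharDegrees N,
      ¬ (charDegree χ).Coprime d ∧ ¬ d.Coprime (charDegree χ') := by
  have key : ∀ {χ χ' : G → ℂ} {μ : Lin N} {θ : N → ℂ}, Ov χ (ch μ) → Ov χ' θ → μ ≠ 1 →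
      (charDegree χ).Coprime (commutator N).index → (charDegree χ').Coprime (commutator N).index →
      (os θ).Coprime (os (ch μ)) → ¬ (os (tw μ θ)).Coprime (os (ch μ)) := by
    intro χ χ' μ θ h h' hμ c c' h1 h2
    have h3 := os_eq_one_of_pow (((c'.coprime_dvd_left (h'.dvd hN)).coprime_dvd_right
      (order_dvd_index hN μ))) (cj_pow_eq h'.irr' h1 h2)
      fun g => by rw [← cj_pow, pow_orderOf_eq_one]; rfl
    exact hμ (orderOf_eq_one_iff.1 (Nat.eq_one_of_dvd_coprimes c (h.order_dvd hN h3)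
      (order_dvd_index hN μ)))
  by_cases h1 : (os θ).Coprime (os (ch μ))
  swap
  · exact Or.inl fun e => nc h1 (h'.os_dvd hN) (h.os_dvd hN) e.symm
  obtain ⟨ψ, hψ⟩ := exists_over (θ := tw μ θ) (h'.irr'.hom_mul μ.hom)
  refine Or.inr ⟨_, hψ.mem (tw_ne hN h' hμ h1 (c'.symm.coprime_dvd_left (order_dvd_index hN μ))),
    fun e => nc (key h h' hμ c c' h1) (hψ.os_dvd hN) (h.os_dvd hN) e.symm, ?_⟩
  by_cases hd : charDegree θ = 1
  swap
  · exact nc' hd (deg_tw μ θ ▸ hψ.deg_dvd hN) (h'.deg_dvd hN)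
  obtain ⟨ν, rfl⟩ : ∃ ν, θ = ch ν :=
    h'.irr'.isCharacter.exists_hom (h'.irr'.isCharacter.charDegree_eq_one_iff.1 hd)
  have e : tw μ (ch ν) = tw ν (ch μ) := by rw [tw_ch, tw_ch, mul_comm]
  exact nc (key h' h (fun e => hθ (by rw [e])) c' c h1.symm) (e ▸ hψ.os_dvd hN) (h'.os_dvd hN)

omit hN in
theorem exists_linear {a : ℕ} (ha : a ∈ relCharDegrees N) (h : a ∉ relCharDegrees ⁅N, N⁆) :
    ∃ (χ : G → ℂ) (μ : Lin N), Ov χ (ch μ) ∧ μ ≠ 1 ∧ charDegree χ = a := by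
  obtain ⟨χ, θ, hχ, hθ, rfl⟩ := exists_under ha
  have h1 : ∀ x ∈ ⁅N, N⁆, χ x = χ 1 := fun x hx => by_contra fun e => h ⟨⟨χ, hχ.irr⟩, ⟨x, hx, e⟩, rfl⟩
  have h2 : θ 1 = 1 := hχ.irr'.one_eq_one_iff_commutator.2 fun n hn =>
    ker_of_inner_ne_zero (hχ.irr.isCharacter.res N) hχ.irr' hχ.ne
      (h1 _ (map_subtype_commutator N ▸ mem_map_of_mem _ hn))
  obtain ⟨μ, rfl⟩ : ∃ μ, θ = ch μ := hχ.irr'.isCharacter.exists_hom h2
  exact ⟨χ, μ, hχ, fun e => hθ (by rw [e]), rfl⟩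

theorem exists_not_coprime (h : ⁅⁅N, N⁆, ⁅N, N⁆⁆ < ⁅N, N⁆) :
    ∃ y ∈ relCharDegrees ⁅N, N⁆, ¬ y.Coprime (commutator N).index := by
  have := Fintype.ofFinite (commutator N)
  obtain ⟨x, hx, hx'⟩ := SetLike.exists_of_lt h
  rw [← map_subtype_commutator N] at hx hx'
  obtain ⟨x, hx, rfl⟩ := hx
  obtain ⟨l, hl⟩ := exists_hom_apply_ne_one (G := commutator N) (x := ⟨x, hx⟩) fun e => hx' (by
    rw [← Subgroup.map_commutator, ← map_subtype_commutator]
    exact mem_map_of_mem _ (mem_map_of_mem _ e))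
  obtain ⟨φ, hφ⟩ := exists_over (N := commutator N) (irr_ch l)
  obtain ⟨χ, hχ⟩ := exists_over hφ.irr
  have h1 : ¬ ∀ n ∈ commutator N, φ n = φ 1 := fun e => hl (Units.ext
    ((ker_of_inner_ne_zero (hφ.irr.isCharacter.res _) hφ.irr' hφ.ne (g := ⟨x, hx⟩)
      (e x hx)).trans (by simp [ch])))
  refine ⟨charDegree χ, ⟨⟨χ, hχ.irr⟩, by_contra fun e => h1 fun n hn => ?_, rfl⟩,
    nc' (fun e => h1 (hφ.irr.one_eq_one_iff_commutator.1
      (hφ.irr.isCharacter.charDegree_eq_one_iff.1 e))) (hχ.deg_dvd hN)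
      (hφ.irr.charDegree_dvd_index_of_linear_under _ hφ.irr' (by simp [ch]) hφ.ne)⟩
  push Not at e
  exact ker_of_inner_ne_zero (hχ.irr.isCharacter.res N) hχ.irr' hχ.ne
    (e _ (map_subtype_commutator N ▸ mem_map_of_mem _ hn))

omit [Fintype N] in
theorem split (h : ⁅N, N⁆ < N) : 1 < (commutator N).index ∧ ∀ a ∈ relCharDegrees N,
    ∀ b ∈ relCharDegrees N, (¬ R N a b → (a.Coprime (commutator N).index ∧
      ∀ r : ℕ, r.Prime → r ∣ (commutator N).index → r ∣ b) ∨ (b.Coprime (commutator N).index ∧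
      ∀ r : ℕ, r.Prime → r ∣ (commutator N).index → r ∣ a)) ∧
      ∀ c ∈ relCharDegrees N, ¬ R N a c → ¬ R N b c → R N a b := by
  have := Fintype.ofFinite N
  have h1 : 1 < (commutator N).index := one_lt_index_of_ne_top fun e => h.ne (by
    rw [← map_subtype_commutator, e, ← MonoidHom.range_eq_map, range_subtype])
  obtain ⟨p, hp, hd⟩ := Nat.exists_prime_and_dvd h1.ne'
  obtain ⟨β, hβ, h2⟩ := exists_base hN hp hd
  refine ⟨h1, fun a ha b hb => ?_⟩
  rcases h2 with h2 | h2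
  · exact ⟨fun e => absurd ((h2 a ha).trans (h2 b hb).symm) e,
      fun _ _ _ _ => (h2 a ha).trans (h2 b hb).symm⟩
  have h3 : ∀ a ∈ relCharDegrees N, ∀ b ∈ relCharDegrees N, ¬ R N a β → ¬ R N b β → R N a b :=
    fun a ha b hb e e' => .of_not_coprime ha hb
      (nc' hp.ne_one ((h2 a ha).2 e p hp hd) ((h2 b hb).2 e' p hp hd))
  refine ⟨fun e => ?_, fun c hc e e' => ?_⟩
  · by_cases k1 : R N a β
    · exact Or.inl ⟨(h2 a ha).1 k1, (h2 b hb).2 fun k2 => e (k1.trans k2.symm)⟩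
    · by_cases k2 : R N b β
      · exact Or.inr ⟨(h2 b hb).1 k2, (h2 a ha).2 k1⟩
      · exact absurd (h3 a ha b hb k1 k2) e
  · by_cases k : R N c β
    · exact h3 a ha b hb (fun k1 => e (k1.trans k.symm)) fun k1 => e' (k1.trans k.symm)
    · exact (by_contra fun k1 => e (h3 a ha c hc k1 k) : R N a β).trans
        (by_contra fun k1 => e' (h3 b hb c hc k1 k) : R N b β).symm

omit hN [N.Normal] [Fintype N] in
theorem near (n : ℕ) : ∀ (N : Subgroup G) [N.Normal], Nat.card N = n → Group.IsSolvable N →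
    N ≤ commutator G → ∀ a b c, R N a b → c ∈ relCharDegrees N → ¬ R N a c →
      ¬ a.Coprime b ∨ ∃ d ∈ relCharDegrees N, ¬ a.Coprime d ∧ ¬ d.Coprime b := by
  induction n using Nat.strong_induction_on with
  | _ n ih =>
  intro N _ hn hs hN a b c hab hc hac
  have := Fintype.ofFinite N
  have lt : ∀ (M : Subgroup G) {x}, M ≤ N → x ∈ relCharDegrees M → ⁅M, M⁆ < M := by
    intro M x hM hx
    have : Group.IsSolvable M := Group.isSolvable_of_isSolvable_injective (inclusion_injective hM)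
    have : Nontrivial M := (nontrivial_iff_ne_bot M).2 (by
      rintro rfl
      obtain ⟨χ, ⟨y, hy, h⟩, -⟩ := hx
      exact h (by rw [mem_bot.1 hy]))
    rw [← M.range_subtype, MonoidHom.range_eq_map, ← Subgroup.map_commutator,
      map_subtype_lt_map_subtype]
    exact Group.IsSolvable.commutator_lt_top_of_nontrivial M
  have hlt := lt N le_rfl hc
  obtain ⟨h1, h2⟩ := split hN hlt
  obtain ⟨p, hp, hd⟩ := Nat.exists_prime_and_dvd h1.ne'
  have hbc : ¬ R N b c := fun e => hac (hab.trans e)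
  rcases (h2 a hab.1 c hc).1 hac with ⟨k1, k2⟩ | ⟨k1, k2⟩
  swap
  · rcases (h2 b hab.2.1 c hc).1 hbc with ⟨-, k4⟩ | ⟨-, k4⟩
    · exact absurd k1 (nc' hp.ne_one (k4 p hp hd) hd)
    · exact Or.inl (nc' hp.ne_one (k2 p hp hd) (k4 p hp hd))
  have k3 : b.Coprime (commutator N).index := (((h2 b hab.2.1 c hc).1 hbc).resolve_right
    fun k => nc' hp.ne_one (k2 p hp hd) hd k.1).1
  by_cases ha : a ∈ relCharDegrees ⁅N, N⁆
  swap
  · obtain ⟨χ, μ, e1, e2, rfl⟩ := exists_linear hab.1 ha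
    obtain ⟨χ', θ, e3, e4, rfl⟩ := exists_under hab.2.1
    exact near_of_linear hN e1 e3 e2 e4 k1 k3
  by_cases hb : b ∈ relCharDegrees ⁅N, N⁆
  swap
  · obtain ⟨χ, μ, e1, e2, rfl⟩ := exists_linear hab.2.1 hb
    obtain ⟨χ', θ, e3, e4, rfl⟩ := exists_under hab.1
    exact (near_of_linear hN e1 e3 e2 e4 k3 k1).imp (fun h e => h e.symm)
      fun ⟨d, d1, d2, d3⟩ => ⟨d, d1, fun e => d3 e.symm, fun e => d2 e.symm⟩
  have hlt' := lt _ hlt.le ha
  obtain ⟨y, hy, hy'⟩ := exists_not_coprime hN hlt'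
  have hay : ¬ R N a y := fun e => ((h2 y e.2.1 c hc).1 fun e' => hac (e.trans e')).elim
    (fun k => hy' k.1) fun k => nc' hp.ne_one (k2 p hp hd) hd k.1
  have hN' := hlt.le.trans hN
  refine (ih _ (hn ▸ lt_of_le_of_ne (card_le_of_le hlt.le)
      fun e => hlt.ne (eq_of_le_of_card_ge hlt.le e.ge)) ⁅N, N⁆ rfl
    (Group.isSolvable_of_isSolvable_injective (inclusion_injective hlt.le)) hN' a b y
    (((split hN' hlt').2 a ha b hb).2 y hy (fun e => hay (e.mono hlt.le))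
      fun e => hay (hab.trans (e.mono hlt.le))) hy fun e => hay (e.mono hlt.le)).imp_right ?_
  exact fun ⟨d, d1, d2⟩ => ⟨d, relCharDegrees_mono hlt.le d1, d2⟩

end CL.Ord.RD
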