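import Mathlib
import Cfsg.Agent.ORD.Redundant

/-! `2`-elements of symmetric groups in a unique Sylow `2`-subgroup. -/

set_option autoImplicit false

namespace CL.Ord.SymSyl

open Equiv Equiv.Perm

universe u

section
variable {α : Type*}

/-- the base group of a matching -/
def EE (m : Perm α) (hm : m * m = 1) : Subgroup (Perm α) where
  carrier := {y | ∀ t, y t = t ∨ y t = m t}
  one_mem' := fun _ => Or.inl rfl
  mul_mem' := by
    intro y z hy hz t
    have hm' : m (m t) = t := congrFun (congrArg DFunLike.coe hm) t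
    rw [Perm.mul_apply]
    rcases hz t with h | h <;> rw [h]
    · exact hy t
    · exact (hy (m t)).symm.imp (fun e => e.trans hm') id
  inv_mem' := by
    intro y hy t
    have hm' : m (m (y⁻¹ t)) = y⁻¹ t := congrFun (congrArg DFunLike.coe hm) _
    rcases hy (y⁻¹ t) with h | h
    · left; rw [← h]; simp
    · right; rw [← hm', ← h]; simp

theorem EE_pgroup (m : Perm α) (hm : m * m = 1) : IsPGroup 2 (EE m hm) := by
  rintro ⟨y, hy⟩
  refine ⟨1, Subtype.ext (Equiv.ext fun t => ?_)⟩
  have hm' : m (m t) = t := congrFun (congrArg DFunLike.coe hm) t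
  change y (y t) = t
  rcases hy t with h | h
  · rw [h, h]
  · rcases hy (m t) with h' | h'
    · rw [y.injective (h.trans h'.symm), h', h']
    · rw [h, h', hm']

theorem mem_normalizer_EE [Finite α] {m x : Perm α} (hm : m * m = 1) (hx : x * m = m * x) :
    x ∈ Subgroup.normalizer (EE m hm : Set (Perm α)) := by
  refine Subgroup.mem_normalizer_fintype fun y hy t => ?_
  rcases hy (x⁻¹ t) with h | h
  · left; simp only [Perm.mul_apply, h]; simp
  · right
    simp only [Perm.mul_apply, h]
    rw [← Perm.mul_apply x m, hx]; simp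

theorem swap_mem_EE [DecidableEq α] {m : Perm α} (hm : m * m = 1) (a : α) :
    swap a (m a) ∈ EE m hm := by
  intro t
  have hm' : m (m a) = a := congrFun (congrArg DFunLike.coe hm) a
  rw [swap_apply_def]
  split_ifs with h1 h2
  · right; rw [h1]
  · right; rw [h2, hm']
  · left; rfl

theorem eq_of_uniq [Finite α] {x : Perm α} {P : Sylow 2 (Perm α)}
    (h : ∀ Q : Sylow 2 (Perm α), x ∈ Q ↔ Q = P) {m m' : Perm α} (hm : m * m = 1) (hm' : m' * m' = 1)
    (hx : x * m = m * x) (hx' : x * m' = m' * x) {a : α} (ha : m a ≠ a) (ha' : m' a ≠ a) :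
    m a = m' a := by
  classical
  have := Fintype.ofFinite α
  by_contra hne
  have h1 := Redund.le_of_uniq h (EE_pgroup m hm) (mem_normalizer_EE hm hx) (swap_mem_EE hm a)
  have h2 := Redund.le_of_uniq h (EE_pgroup m' hm') (mem_normalizer_EE hm' hx') (swap_mem_EE hm' a)
  obtain ⟨k, hk⟩ := P.isPGroup' ⟨_, P.1.mul_mem h1 h2⟩
  have h3 := orderOf_dvd_of_pow_eq_one (congrArg Subtype.val hk)
  rw [(isThreeCycle_swap_mul_swap_same ha.symm ha'.symm hne).orderOf] at h3
  exact absurd (Nat.prime_three.dvd_of_dvd_pow h3) (by decide)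

theorem exists_matching [Finite α] {P : Subgroup (Perm α)} (hP : IsPGroup 2 P) :
    ∃ m : Perm α, m * m = 1 ∧ (∀ g ∈ P, g * m = m * g) ∧ ∀ a b, m a = a → m b = b → a = b := by
  classical
  have := Fintype.ofFinite α
  obtain ⟨m, ⟨hm, hc⟩, hmax⟩ := Set.exists_max_image
    {m : Perm α | m * m = 1 ∧ ∀ g ∈ P, g * m = m * g} (fun m => m.support.card) (Set.toFinite _)
    ⟨1, by simp⟩
  refine ⟨m, hm, hc, fun a b ha hb => by_contra fun hab => ?_⟩
  have key : ∀ z : Perm α, z ≠ 1 → z * z = 1 → (∀ g ∈ P, g * z = z * g) →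
      (∀ t, m t ≠ t → z t = t) → False := by
    intro z h1 h2 h3 h4
    have hd : Perm.Disjoint m z := fun t => or_iff_not_imp_left.2 (h4 t)
    have := hmax (m * z) ⟨by
      rw [mul_assoc, ← mul_assoc z, ← hd.commute.eq, mul_assoc, h2, mul_one, hm], fun g hg => by
      rw [← mul_assoc, hc g hg, mul_assoc, h3 g hg, mul_assoc]⟩
    simp only [hd.card_support_mul] at this
    exact h1 (card_support_eq_zero.1 (by omega))
  have hinv : ∀ g ∈ P, ∀ t, m (g t) = g t ↔ m t = t := fun g hg t => by
    rw [← Perm.mul_apply, ← hc g hg, Perm.mul_apply, g.apply_eq_iff_eq]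
  let ρ : P →* Perm α :=
    ofSubtype.comp
      { toFun := fun g => (g.1.subtypePerm (hinv g.1 g.2) : Perm {t // m t = t})
        map_one' := rfl
        map_mul' := fun _ _ => rfl }
  have hρ1 : ∀ (g : P) t, m t = t → ρ g t = g.1 t := fun g t ht =>
    ofSubtype_subtypePerm_of_mem (hinv g.1 g.2) ht
  have hρ2 : ∀ (g : P) t, m t ≠ t → ρ g t = t := fun g t ht =>
    ofSubtype_subtypePerm_of_not_mem (hinv g.1 g.2) ht
  by_cases hr : Nontrivial ρ.range
  · have hH : IsPGroup 2 ρ.range := by
      rw [MonoidHom.range_eq_map]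
      exact (hP.of_equiv Subgroup.topEquiv.symm).map _
    have := hH.center_nontrivial
    obtain ⟨k, hk⟩ := (hH.to_subgroup (Subgroup.center _)).exists_card_eq
    obtain ⟨⟨⟨_, g₀, rfl⟩, hz⟩, hz2⟩ := exists_prime_orderOf_dvd_card'
      (G := Subgroup.center ρ.range) 2 (by
        rw [hk]
        refine dvd_pow_self _ fun h => ?_
        rw [h, pow_zero] at hk
        exact (Finite.one_lt_card (α := Subgroup.center ρ.range)).ne' hk)
    rw [← Subgroup.orderOf_coe, ← Subgroup.orderOf_coe] at hz2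
    refine key (ρ g₀) (fun h => by simp [h] at hz2) (by rw [← sq, ← hz2, pow_orderOf_eq_one])
      (fun g hg => Equiv.ext fun t => ?_) (hρ2 g₀)
    by_cases ht : m t = t
    · have := congrArg (fun y : ρ.range => y.1 t)
        (Subgroup.mem_center_iff.1 hz ⟨_, ⟨g, hg⟩, rfl⟩)
      simp only [Subgroup.coe_mul, Perm.mul_apply] at this ⊢
      rwa [hρ1 ⟨g, hg⟩ t ht, hρ1 ⟨g, hg⟩ _ (by rw [hρ1 g₀ t ht]; exact (hinv _ g₀.2 t).2 ht)] at this
    · simp only [Perm.mul_apply]
      rw [hρ2 g₀ t ht, hρ2 g₀ _ (mt (hinv g hg t).1 ht)]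
  · have hr' : ∀ g ∈ P, ∀ t, m t = t → g t = t := fun g hg t ht => by
      have : (⟨ρ ⟨g, hg⟩, _, rfl⟩ : ρ.range) = 1 :=
        (not_nontrivial_iff_subsingleton.1 hr).elim _ _
      rw [← hρ1 ⟨g, hg⟩ t ht, show ρ ⟨g, hg⟩ = 1 from congrArg Subtype.val this]; rfl
    refine key (swap a b) (by simpa using hab) (swap_mul_self a b) (fun g hg => ?_) fun t ht => ?_
    · rw [mul_swap_eq_swap_mul, hr' g hg a ha, hr' g hg b hb]
    · exact swap_apply_of_ne_of_ne (fun e => ht (e ▸ ha)) (fun e => ht (e ▸ hb))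

/-- at most two fixed points, and distinct lengths of the nontrivial cycles -/
structure Cond (x : Perm α) : Prop where
  fix : ∀ a b c, x a = a → x b = b → x c = c → a = b ∨ a = c ∨ b = c
  cyc : ∀ a b, x a ≠ a → (∀ j : ℕ, (x ^ j) a = a ↔ (x ^ j) b = b) → ∃ i : ℕ, (x ^ i) a = b

theorem antipode {x : Perm α} {a : α} {i j : ℕ} (hi : (x ^ (2 * i)) a = a) (hj : (x ^ (2 * j)) a = a)
    (hi' : (x ^ i) a ≠ a) (hj' : (x ^ j) a ≠ a) : (x ^ i) a = (x ^ j) a := by
  have e : ∀ n : ℕ, (x ^ n) a = a ↔ Function.minimalPeriod x a ∣ n := fun n => by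
    rw [← Function.isPeriodicPt_iff_minimalPeriod_dvd, Perm.coe_pow]; rfl
  rw [Ne, e] at hi' hj'
  have h : Function.minimalPeriod x a ∣ i + j := by
    obtain ⟨s, hs⟩ := (e _).1 hi
    obtain ⟨t, ht⟩ := (e _).1 hj
    rcases Nat.even_or_odd' s with ⟨s, rfl | rfl⟩
    · exact absurd ⟨s, by nlinarith⟩ hi'
    rcases Nat.even_or_odd' t with ⟨t, rfl | rfl⟩
    · exact absurd ⟨t, by nlinarith⟩ hj'
    exact ⟨s + t + 1, by nlinarith⟩
  apply (x ^ i).injective
  rw [← Perm.mul_apply, ← Perm.mul_apply, ← pow_add, ← pow_add, ← two_mul, hi, (e _).2 h]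

theorem fix_of_odd {x : Perm α} {k : ℕ} (hx : x ^ 2 ^ k = 1) {a : α} {j : ℕ} (hj : Odd j)
    (h : (x ^ j) a = a) : x a = a := by
  have e : ∀ n : ℕ, (x ^ n) a = a ↔ Function.minimalPeriod x a ∣ n := fun n => by
    rw [← Function.isPeriodicPt_iff_minimalPeriod_dvd, Perm.coe_pow]; rfl
  have h1 := Nat.eq_one_of_dvd_coprimes (Nat.Coprime.pow_left k (Nat.coprime_two_left.2 hj))
    ((e _).1 (by rw [hx]; rfl)) ((e _).1 h)
  simpa using (e 1).2 (by rw [h1])

section Match

variable {x m : Perm α} (hc : Cond x) (hm : m * m = 1) (hx : x * m = m * x)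
  (hf : ∀ a b, m a = a → m b = b → a = b)

include hx in
theorem pow_comm (j : ℕ) (a : α) : (x ^ j) (m a) = m ((x ^ j) a) :=
  congrFun (congrArg DFunLike.coe (Commute.pow_left hx j).eq) a

include hc hm hx hf in
theorem match_moved {a : α} (ha : x a ≠ a) :
    ∃ i : ℕ, (x ^ i) a = m a ∧ (x ^ (2 * i)) a = a ∧ (x ^ i) a ≠ a := by
  obtain ⟨i, hi⟩ := hc.cyc a (m a) ha fun j => by rw [pow_comm hx, m.apply_eq_iff_eq]
  refine ⟨i, hi, ?_, fun h => ?_⟩
  · rw [two_mul, pow_add, Perm.mul_apply, hi, pow_comm hx, hi, ← Perm.mul_apply, hm]; rfl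
  · rw [hi] at h
    exact ha (hf _ _ (by rw [← Perm.mul_apply, ← hx, Perm.mul_apply, h]) h)

include hc hm hx hf in
theorem match_fixed {a b : α} (ha : x a = a) (hb : x b = b) (hab : a ≠ b) : m a = b := by
  have h : ∀ t, x t = t → x (m t) = m t := fun t ht => by
    rw [← Perm.mul_apply, hx, Perm.mul_apply, ht]
  rcases hc.fix a b (m a) ha hb (h a ha) with e | e | e
  · exact absurd e hab
  · rcases hc.fix a b (m b) ha hb (h b hb) with e' | e' | e'
    · exact absurd e' hab
    · rw [e', ← Perm.mul_apply, hm]; rfl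
    · exact absurd (hf _ _ e.symm e'.symm) hab
  · exact e.symm

include hc hm hx hf in
theorem match_unique {m' : Perm α} (hm' : m' * m' = 1) (hx' : x * m' = m' * x)
    (hf' : ∀ a b, m' a = a → m' b = b → a = b) : m = m' := by
  ext a
  by_cases ha : x a = a
  · by_cases h : ∃ b, x b = b ∧ a ≠ b
    · obtain ⟨b, hb, hab⟩ := h
      rw [match_fixed hc hm hx hf ha hb hab, match_fixed hc hm' hx' hf' ha hb hab]
    · push Not at h
      rw [← h (m a) (by rw [← Perm.mul_apply, hx, Perm.mul_apply, ha]),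
        ← h (m' a) (by rw [← Perm.mul_apply, hx', Perm.mul_apply, ha])]
  · obtain ⟨i, h1, h2, h3⟩ := match_moved hc hm hx hf ha
    obtain ⟨j, h4, h5, h6⟩ := match_moved hc hm' hx' hf' ha
    rw [← h1, ← h4, antipode h2 h5 h3 h6]

end Match

/-- the pairs of a matching -/
def st (m : Perm α) (hm : m * m = 1) : Setoid α where
  r a b := a = b ∨ a = m b
  iseqv := by
    have hm' : ∀ t, m (m t) = t := fun t => congrFun (congrArg DFunLike.coe hm) t
    refine ⟨fun _ => Or.inl rfl, ?_, ?_⟩
    · rintro a b (h | h)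
      · exact Or.inl h.symm
      · exact Or.inr (by rw [h, hm'])
    · rintro a b c (h | h) (h' | h') <;> simp [h, h', hm']

/-- the action of the centralizer of a matching on the pairs -/
def pr (m : Perm α) (hm : m * m = 1) :
    Subgroup.centralizer ({m} : Set (Perm α)) →* Perm (Quotient (st m hm)) :=
  MonoidHom.toHomPerm
    { toFun := fun g => Quotient.map g.1 (by
        rintro a b (h | h)
        · exact Or.inl (by rw [h])
        · refine Or.inr ?_
          rw [h, ← Perm.mul_apply, Subgroup.mem_centralizer_singleton_iff.1 g.2]; rfl)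
      map_one' := by funext q; induction q using Quotient.inductionOn; rfl
      map_mul' := fun _ _ => by funext q; induction q using Quotient.inductionOn; rfl }

theorem pr_apply (m : Perm α) (hm : m * m = 1) (g : Subgroup.centralizer ({m} : Set (Perm α)))
    (a : α) : pr m hm g (Quotient.mk _ a) = Quotient.mk _ (g.1 a) := rfl

theorem cond_pr {x m : Perm α} {k : ℕ} (hk : x ^ 2 ^ k = 1) (hc : Cond x) (hm : m * m = 1)
    (hx : x * m = m * x) (hf : ∀ a b, m a = a → m b = b → a = b) :
    Cond (pr m hm ⟨x, Subgroup.mem_centralizer_singleton_iff.2 hx⟩) := by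
  have hp : ∀ (j : ℕ) a, (pr m hm ⟨x, Subgroup.mem_centralizer_singleton_iff.2 hx⟩ ^ j)
      (Quotient.mk _ a) = Quotient.mk _ ((x ^ j) a) := fun j a => by
    rw [← map_pow]; rfl
  have key : ∀ (j : ℕ) a, x a ≠ a → ((pr m hm ⟨x, Subgroup.mem_centralizer_singleton_iff.2 hx⟩ ^ j)
      (Quotient.mk _ a) = Quotient.mk _ a ↔ (x ^ (2 * j)) a = a) := fun j a ha => by
    rw [hp, Quotient.eq]
    constructor
    · rintro (h | h)
      · rw [two_mul, pow_add, Perm.mul_apply, h, h]
      · rw [two_mul, pow_add, Perm.mul_apply, h, pow_comm hx, h, ← Perm.mul_apply, hm]; rfl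
    · intro h
      refine or_iff_not_imp_left.2 fun h' => ?_
      obtain ⟨i, h1, h2, h3⟩ := match_moved hc hm hx hf ha
      rw [← h1, antipode h h2 h' h3]
  have lift : ∀ a b, x a ≠ a → x b ≠ b → (∀ j : ℕ, (x ^ (2 * j)) a = a ↔ (x ^ (2 * j)) b = b) →
      ∃ i : ℕ, (x ^ i) a = b := fun a b ha hb h => by
    refine hc.cyc a b ha fun j => ?_
    rcases Nat.even_or_odd' j with ⟨j, rfl | rfl⟩
    · exact h j
    · exact iff_of_false (fun e => ha (fix_of_odd hk ⟨j, rfl⟩ e))
        (fun e => hb (fix_of_odd hk ⟨j, rfl⟩ e))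
  constructor
  · have h1 : ∀ a b, x a = a → x b = b → Quotient.mk (st m hm) a = Quotient.mk _ b := by
      intro a b ha hb
      rw [Quotient.eq]
      refine or_iff_not_imp_left.2 fun h => (match_fixed hc hm hx hf hb ha (Ne.symm h)).symm
    have h2 : ∀ a b, x a ≠ a → x b ≠ b →
        pr m hm ⟨x, Subgroup.mem_centralizer_singleton_iff.2 hx⟩ (Quotient.mk _ a) = Quotient.mk _ a →
        pr m hm ⟨x, Subgroup.mem_centralizer_singleton_iff.2 hx⟩ (Quotient.mk _ b) = Quotient.mk _ b →
        Quotient.mk (st m hm) a = Quotient.mk _ b := by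
      intro a b ha hb ha' hb'
      obtain ⟨i, hi⟩ := lift a b ha hb fun j =>
        iff_of_true ((key j a ha).1 (pow_apply_eq_self_of_apply_eq_self ha' j))
          ((key j b hb).1 (pow_apply_eq_self_of_apply_eq_self hb' j))
      rw [← hi, ← hp, pow_apply_eq_self_of_apply_eq_self ha']
    intro a b c ha hb hc
    induction a using Quotient.inductionOn with | _ a => ?_
    induction b using Quotient.inductionOn with | _ b => ?_
    induction c using Quotient.inductionOn with | _ c => ?_
    by_cases e1 : x a = a <;> by_cases e2 : x b = b <;> by_cases e3 : x c = c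
    · exact Or.inl (h1 a b e1 e2)
    · exact Or.inl (h1 a b e1 e2)
    · exact Or.inr (Or.inl (h1 a c e1 e3))
    · exact Or.inr (Or.inr (h2 b c e2 e3 hb hc))
    · exact Or.inr (Or.inr (h1 b c e2 e3))
    · exact Or.inr (Or.inl (h2 a c e1 e3 ha hc))
    · exact Or.inl (h2 a b e1 e2 ha hb)
    · exact Or.inl (h2 a b e1 e2 ha hb)
  · intro a b ha h
    induction a using Quotient.inductionOn with | _ a => ?_
    induction b using Quotient.inductionOn with | _ b => ?_
    have e1 : x a ≠ a := fun e => ha (by rw [pr_apply]; exact congrArg _ e)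
    have e2 : x b ≠ b := fun e => ha (by
      simpa using (h 1).2 (by rw [pow_one, pr_apply]; exact congrArg _ e))
    obtain ⟨i, hi⟩ := lift a b e1 e2 fun j => by rw [← key j a e1, ← key j b e2, h]
    exact ⟨i, by rw [hp, hi]⟩

end

theorem exists_max : ∀ (N : ℕ) (α : Type u) [Finite α], Nat.card α = N → ∀ x : Perm α,
    (∃ k, x ^ 2 ^ k = 1) → Cond x →
    ∃ R : Subgroup (Perm α), IsPGroup 2 R ∧ ∀ P : Subgroup (Perm α), IsPGroup 2 P → x ∈ P → P ≤ R := by
  intro N
  induction N using Nat.strong_induction_on with | _ N ih => ?_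
  rintro α _ rfl x ⟨k, hk⟩ hc
  by_cases hs : Subsingleton α
  · exact ⟨⊤, fun g => ⟨0, Subsingleton.elim _ _⟩, fun _ _ _ => le_top⟩
  have hxp : IsPGroup 2 (Subgroup.zpowers x) := by
    rintro ⟨_, j, rfl⟩
    exact ⟨k, Subtype.ext (by
      simp only [SubgroupClass.coe_pow, OneMemClass.coe_one]
      rw [← zpow_natCast, ← zpow_mul, mul_comm, zpow_mul, zpow_natCast, hk, one_zpow])⟩
  obtain ⟨m, hm, hx, hf⟩ := exists_matching hxp
  have hx := hx x (Subgroup.mem_zpowers x)
  have hlt : Nat.card (Quotient (st m hm)) < Nat.card α := by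
    have := Fintype.ofFinite α
    have := Fintype.ofFinite (Quotient (st m hm))
    rw [Nat.card_eq_fintype_card, Nat.card_eq_fintype_card]
    refine Fintype.card_lt_of_surjective_not_injective _ Quotient.mk_surjective fun hi => hs ⟨?_⟩
    have : ∀ a, m a = a := fun a => hi (Quotient.sound (Or.inr rfl))
    exact fun a b => hf a b (this a) (this b)
  obtain ⟨R, hR, hR'⟩ := ih _ hlt _ rfl (pr m hm ⟨x, Subgroup.mem_centralizer_singleton_iff.2 hx⟩)
    ⟨k, by rw [← map_pow]; exact (congrArg _ (Subtype.ext hk)).trans (map_one _)⟩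
    (cond_pr hk hc hm hx hf)
  have hker : IsPGroup 2 (pr m hm).ker := by
    rintro ⟨g, hg⟩
    have : g.1 ∈ EE m hm := fun t =>
      Quotient.exact (congrFun (congrArg DFunLike.coe (MonoidHom.mem_ker.1 hg)) (Quotient.mk _ t))
    obtain ⟨j, hj⟩ := EE_pgroup m hm ⟨_, this⟩
    have hj' : g.1 ^ 2 ^ j = 1 := congrArg Subtype.val hj
    exact ⟨j, Subtype.ext (Subtype.ext hj')⟩
  refine ⟨(R.comap (pr m hm)).map (Subgroup.subtype _), (hR.comap_of_ker_isPGroup _ hker).map _,
    fun P hP hxP => ?_⟩
  obtain ⟨m', hm', hx', hf'⟩ := exists_matching hP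
  obtain rfl := match_unique hc hm hx hf hm' (hx' x hxP) hf'
  intro g hg
  refine ⟨⟨g, Subgroup.mem_centralizer_singleton_iff.2 (hx' g hg)⟩, ?_, rfl⟩
  exact hR' ((P.subgroupOf _).map (pr m hm)) ((hP.comap_subtype).map _) ⟨_, hxP, rfl⟩ ⟨_, hg, rfl⟩

theorem main {α : Type u} [Fintype α] [DecidableEq α] (x : Perm α)
    (hx : ∃ k : ℕ, orderOf x = 2 ^ k) :
    (∃! P : Sylow 2 (Perm α), x ∈ P) ↔
      (Fintype.card α ≤ x.support.card + 2 ∧ x.cycleType.Nodup) := by
  obtain ⟨k, hk⟩ := hx
  have hk' : x ^ 2 ^ k = 1 := hk ▸ pow_orderOf_eq_one x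
  have hcard := Finset.card_compl x.support
  have hle := Finset.card_le_univ x.support
  constructor
  · rintro ⟨P, hP, hu⟩
    have h : ∀ Q : Sylow 2 (Perm α), x ∈ Q ↔ Q = P := fun Q => ⟨hu Q, fun e => e ▸ hP⟩
    constructor
    · by_contra hlt
      obtain ⟨a, ha, b, hb, c, hc, hab, hac, hbc⟩ :=
        Finset.two_lt_card.1 (show 2 < x.supportᶜ.card by omega)
      simp only [Finset.mem_compl, mem_support, not_not] at ha hb hc
      have := eq_of_uniq h (swap_mul_self a b) (swap_mul_self a c)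
        (by rw [mul_swap_eq_swap_mul, ha, hb]) (by rw [mul_swap_eq_swap_mul, ha, hc]) (a := a)
        (by simpa using hab.symm) (by simpa using hac.symm)
      exact hbc (by simpa using this)
    · rw [cycleType_def, Multiset.nodup_map_iff_inj_on (Finset.nodup _)]
      intro c hc d hd hcd
      by_contra hne
      have hc' := mem_cycleFactorsFinset_iff.1 hc
      have hd' := mem_cycleFactorsFinset_iff.1 hd
      have hdis := (cycleFactorsFinset_pairwise_disjoint x hc hd hne).disjoint_support
      obtain ⟨g, hg⟩ := isConj_iff.1 (hc'.1.isConj hd'.1 hcd)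
      have hg1 : ∀ t, g t ∈ d.support ↔ t ∈ c.support := fun t => by
        rw [← hg, support_conj]; simp
      have hg2 : ∀ t, g (c t) = d (g t) := fun t => by rw [← hg]; simp
      have hinv : Function.Involutive fun t =>
          if t ∈ c.support then g t else if t ∈ d.support then g⁻¹ t else t := by
        intro t
        by_cases h1 : t ∈ c.support
        · have h2 := (hg1 t).2 h1
          simp only [h1, if_true, h2, Finset.disjoint_right.1 hdis h2, if_false]
          simp
        · by_cases h2 : t ∈ d.support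
          · have h3 := (hg1 (g⁻¹ t)).1 (by simpa using h2)
            simp only [h1, if_true, h2, h3, if_false]
            simp
          · simp only [h1, h2, if_false]
      obtain ⟨a, ha⟩ := hc'.1.nonempty_support
      have hL : c.support.card ∣ 2 ^ k := by
        rw [← hk]
        exact dvd_of_mem_cycleType (by rw [cycleType_def]; exact Multiset.mem_map_of_mem _ hc)
      obtain ⟨j, -, hj⟩ := (Nat.dvd_prime_pow Nat.prime_two).1 hL
      have hL2 := hc'.1.two_le_card_support
      obtain ⟨j, rfl⟩ : ∃ i, j = i + 1 := ⟨j - 1, by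
        rcases j with _ | j
        · simp [hj] at hL2
        · rfl⟩
      have := eq_of_uniq h (m := c ^ 2 ^ j) (m' := hinv.toPerm)
        (by rw [← pow_add, ← two_mul, ← pow_succ', ← hj, ← hc'.1.orderOf, pow_orderOf_eq_one])
        (Equiv.ext hinv) ((self_mem_cycle_factors_commute hc).symm.pow_right _).eq
        (Equiv.ext fun t => by
          simp only [Perm.mul_apply, Function.Involutive.coe_toPerm,
            mem_cycleFactorsFinset_support hc, mem_cycleFactorsFinset_support hd]
          split_ifs with h1 h2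
          · rw [← hc'.2 t h1, hg2, hd'.2 _ ((hg1 t).2 h1)]
          · apply g.injective
            rw [← hc'.2 _ ((hg1 (g⁻¹ t)).1 (by simpa using h2)), hg2]
            simp [hd'.2 t h2]
          · rfl) (a := a)
        (fun e => by
          have := (hc'.1.pow_eq_one_iff' (mem_support.1 ha)).2 e
          rw [← orderOf_dvd_iff_pow_eq_one, hc'.1.orderOf, hj] at this
          have := (Nat.pow_dvd_pow_iff_le_right one_lt_two).1 this
          omega)
        (by
          simp only [Function.Involutive.coe_toPerm, ha, if_true]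
          exact fun e => Finset.disjoint_left.1 hdis ha (e ▸ (hg1 a).2 ha))
      simp only [Function.Involutive.coe_toPerm, ha, if_true] at this
      exact Finset.disjoint_left.1 hdis (pow_apply_mem_support.2 ha) (this ▸ (hg1 a).2 ha)
  · rintro ⟨h1, h2⟩
    have hc : Cond x := by
      constructor
      · intro a b c ha hb hc
        by_contra! hne
        have := Finset.two_lt_card.2 ⟨a, (by simp [ha] : a ∈ x.supportᶜ), b, by simp [hb], c,
          by simp [hc], hne⟩
        omega
      · intro a b ha h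
        have hb : x b ≠ b := fun e => ha (by simpa using (h 1).2 (by simpa using e))
        rw [cycleType_def, Multiset.nodup_map_iff_inj_on (Finset.nodup _)] at h2
        have e := h2 _ (cycleOf_mem_cycleFactorsFinset_iff.2 (mem_support.2 ha)) _
          (cycleOf_mem_cycleFactorsFinset_iff.2 (mem_support.2 hb)) (by
            simp only [Function.comp]
            rw [← (isCycle_cycleOf x ha).orderOf, ← (isCycle_cycleOf x hb).orderOf,
              orderOf_eq_orderOf_iff]
            intro j
            rw [(isCycle_cycleOf x ha).pow_eq_one_iff' (x := a) (by simpa using ha),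
              (isCycle_cycleOf x hb).pow_eq_one_iff' (x := b) (by simpa using hb),
              cycleOf_pow_apply_self, cycleOf_pow_apply_self, h])
        obtain ⟨i, -, hi⟩ := ((sameCycle_iff_cycleOf_eq_of_mem_support (mem_support.2 ha)
          (mem_support.2 hb)).2 e).exists_pow_eq'
        exact ⟨i, hi⟩
    obtain ⟨R, hR, hR'⟩ := exists_max _ α rfl x ⟨k, hk'⟩ hc
    obtain ⟨P, hP⟩ := hR.exists_le_sylow
    have hxp : IsPGroup 2 (Subgroup.zpowers x) :=
      IsPGroup.of_card (n := k) (by rw [Nat.card_zpowers, hk])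
    refine ⟨P, hP (hR' _ hxp (Subgroup.mem_zpowers x) (Subgroup.mem_zpowers x)), fun Q hQ => ?_⟩
    exact Sylow.ext (Q.is_maximal' P.isPGroup' ((hR' _ Q.isPGroup' hQ).trans hP)).symm

end CL.Ord.SymSyl
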