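import Mathlib
import Cfsg.Agent.ORD.PGal
import Cfsg.Agent.CHAR.RelMonomial
import Cfsg.Agent.CHAR.GoingDown
import Cfsg.Agent.CHAR.Triple
import Cfsg.Agent.SOLV.PSolvable
import Cfsg.Agent.SOLV.CoprimeSylow
import Cfsg.Agent.SOLV.CoprimeGen

/-!
# Winter's theorem on solvable linear groups (Isaacs 14.5, 14.6)
-/

set_option autoImplicit false
set_option linter.unusedSectionVars false
open Cfsg CL.Char
open scoped ComplexConjugate commutatorElement

namespace CL.Ord

universe u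
variable {G : Type*} [Group G] {p : ℕ}

/-- `x` is a `p`-element -/
def PElt (p : ℕ) (x : G) : Prop := ∃ k : ℕ, x ^ p ^ k = 1

/-- products of `p`-elements are `p`-elements -/
def PClosed (p : ℕ) (G : Type*) [Group G] : Prop :=
  ∀ x y : G, PElt p x → PElt p y → PElt p (x * y)

theorem PElt.inv {x : G} (h : PElt p x) : PElt p x⁻¹ := by
  obtain ⟨k, hk⟩ := h
  exact ⟨k, by rw [inv_pow, hk, inv_one]⟩

theorem PElt.conj {x : G} (h : PElt p x) (g : G) : PElt p (g * x * g⁻¹) := by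
  obtain ⟨k, hk⟩ := h
  exact ⟨k, by rw [conj_pow, hk]; simp⟩

theorem PElt.map {H : Type*} [Group H] (f : G →* H) {x : G} (h : PElt p x) : PElt p (f x) := by
  obtain ⟨k, hk⟩ := h
  exact ⟨k, by rw [← map_pow, hk, map_one]⟩

theorem pElt_coe {H : Subgroup G} {x : H} : PElt p (x : G) ↔ PElt p x :=
  ⟨fun ⟨k, hk⟩ => ⟨k, Subtype.ext (by simpa using hk)⟩, fun h => h.map H.subtype⟩

theorem PElt.of_pow {x : G} {k : ℕ} (h : PElt p (x ^ p ^ k)) : PElt p x := by
  obtain ⟨j, hj⟩ := h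
  exact ⟨k + j, by rw [pow_add, pow_mul, hj]⟩

theorem pElt_of_mem {H : Subgroup G} (hH : IsPGroup p H) {x : G} (hx : x ∈ H) : PElt p x :=
  pElt_coe.mpr (hH ⟨x, hx⟩)

theorem PElt.isPGroup_zpowers {x : G} (h : PElt p x) :
    IsPGroup p (Subgroup.zpowers x) := by
  obtain ⟨k, hk⟩ := h
  rintro ⟨_, i, rfl⟩
  exact ⟨k, Subtype.ext (by
    simp only [SubgroupClass.coe_pow, OneMemClass.coe_one]
    rw [← zpow_natCast, ← zpow_mul, mul_comm, zpow_mul, zpow_natCast, hk, one_zpow])⟩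

theorem PElt.exists_sylow {x : G} (h : PElt p x) :
    ∃ P : Sylow p G, x ∈ (P : Subgroup G) := by
  obtain ⟨P, hP⟩ := h.isPGroup_zpowers.exists_le_sylow
  exact ⟨P, hP (Subgroup.mem_zpowers x)⟩

theorem PElt.mem_of_pow_mem [hp : Fact p.Prime] {x : G} (h : PElt p x) {N : Subgroup G} {m : ℕ}
    (hm : ¬ p ∣ m) (hx : x ^ m ∈ N) : x ∈ N := by
  obtain ⟨k, hk⟩ := h
  obtain ⟨j, -, hj⟩ := (Nat.dvd_prime_pow hp.out).mp (orderOf_dvd_of_pow_eq_one hk)
  have : x ∈ Subgroup.zpowers (x ^ m) := mem_zpowers_pow_iff.mpr (by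
    rw [hj]
    exact ((Nat.Prime.coprime_iff_not_dvd hp.out).mpr hm).symm.pow_right j)
  exact Subgroup.zpowers_le.mpr hx this

/-- the `p`-elements of a `p`-closed subgroup -/
def pEltSub (M : Subgroup G) (hM : PClosed p M) : Subgroup G where
  carrier := {x | x ∈ M ∧ PElt p x}
  one_mem' := ⟨one_mem _, 0, by simp⟩
  mul_mem' := by
    rintro a b ⟨ha, ha'⟩ ⟨hb, hb'⟩
    exact ⟨mul_mem ha hb, pElt_coe.mpr (hM ⟨a, ha⟩ ⟨b, hb⟩ (pElt_coe.mp ha') (pElt_coe.mp hb'))⟩
  inv_mem' := by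
    rintro a ⟨ha, ha'⟩
    exact ⟨inv_mem ha, ha'.inv⟩

theorem pClosed_of_subgroup {H : Subgroup G} (hH : PClosed p H) (h : ∀ x, PElt p x → x ∈ H) :
    PClosed p G := fun x y hx hy =>
  pElt_coe.mpr (hH ⟨x, h x hx⟩ ⟨y, h y hy⟩ (pElt_coe.mp hx) (pElt_coe.mp hy))

theorem pClosed_of_comm (h : ∀ a b : G, a * b = b * a) : PClosed p G := by
  rintro x y ⟨k, hk⟩ ⟨j, hj⟩
  refine ⟨k + j, ?_⟩
  rw [Commute.mul_pow (h x y), pow_add, pow_mul, hk, one_pow, mul_comm (p ^ k), pow_mul, hj]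
  simp

theorem pClosed_iff_normal [Finite G] [hp : Fact p.Prime] (P : Sylow p G) :
    PClosed p G ↔ (P : Subgroup G).Normal := by
  constructor
  · intro h
    have htop : PClosed p (⊤ : Subgroup G) := fun x y hx hy =>
      pElt_coe.mp (h x y (pElt_coe.mpr hx) (pElt_coe.mpr hy))
    have e : pEltSub ⊤ htop = P := P.is_maximal' (fun x => pElt_coe.mp x.2.2)
      fun x hx => ⟨trivial, pElt_of_mem P.isPGroup' hx⟩
    rw [← e]
    exact ⟨fun x hx g => ⟨trivial, hx.2.conj g⟩⟩
  · intro h x y hx hy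
    have := P.unique_of_normal h
    obtain ⟨Q, hQ⟩ := hx.exists_sylow
    obtain ⟨R, hR⟩ := hy.exists_sylow
    rw [Subsingleton.elim Q P] at hQ
    rw [Subsingleton.elim R P] at hR
    exact pElt_of_mem P.isPGroup' (mul_mem hQ hR)

theorem exists_faithful_quot [Finite G] {θ : G → ℂ} (hθ : IsIrrCharacter G θ) :
    ∃ (K : Subgroup G) (_ : K.Normal) (η : G ⧸ K → ℂ), K = charKer θ ∧ IsIrrCharacter _ η ∧
      charKer η = ⊥ ∧ θ = fun g : G => η g := by
  have := hθ.charKer_normal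
  obtain ⟨η, hη, e⟩ := hθ.exists_quot (charKer θ) fun n hn => apply_eq_of_mem_charKer hn
  refine ⟨charKer θ, this, η, rfl, hη, ?_, e⟩
  rw [eq_bot_iff]
  intro x hx
  obtain ⟨x, rfl⟩ := QuotientGroup.mk_surjective x
  rw [Subgroup.mem_bot, QuotientGroup.eq_one_iff, hθ.mem_charKer]
  exact (congrFun e x).trans ((apply_eq_of_mem_charKer hx).trans (congrFun e 1).symm)

theorem exists_constituent_not_pClosed [Fintype G] {χ : G → ℂ} (hχ : IsCharacter G χ)
    (hk : charKer χ = ⊥) (h : ¬ PClosed p G) :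
    ∃ θ, IsIrrCharacter G θ ∧ classInner χ θ ≠ 0 ∧
      ∃ (K : Subgroup G) (_ : K.Normal) (η : G ⧸ K → ℂ), IsIrrCharacter _ η ∧ charKer η = ⊥ ∧
        charDegree η = charDegree θ ∧ ¬ PClosed p (G ⧸ K) := by
  by_contra hcon
  push Not at hcon
  refine h fun x y hx hy => ?_
  have key : ∀ θ : IrrCharacter G, ∃ k : ℕ, classInner χ θ ≠ 0 →
      (x * y) ^ p ^ k ∈ charKer (θ : G → ℂ) := by
    intro θ
    by_cases h0 : classInner χ θ = 0
    · exact ⟨0, fun h => absurd h0 h⟩
    obtain ⟨K, hK, η, e, hη, hηk, e'⟩ := exists_faithful_quot θ.2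
    obtain ⟨k, hk⟩ := hcon θ θ.2 h0 K hK η hη hηk (charDegree_congr (congrFun e' 1).symm)
      _ _ (hx.map (QuotientGroup.mk' K)) (hy.map (QuotientGroup.mk' K))
    refine ⟨k, fun _ => ?_⟩
    rw [← map_mul, ← map_pow] at hk
    exact e ▸ (QuotientGroup.eq_one_iff _).mp hk
  choose k hk' using key
  refine ⟨∑ θ, k θ, ?_⟩
  rw [← Subgroup.mem_bot, ← hk, hχ.mem_charKer_iff_constituents]
  intro ψ hψ hne
  obtain ⟨j, hj⟩ := Nat.exists_eq_add_of_le
    (Finset.single_le_sum (f := k) (fun _ _ => Nat.zero_le _) (Finset.mem_univ ⟨ψ, hψ⟩))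
  rw [hj, pow_add, pow_mul]
  exact pow_mem (hk' ⟨ψ, hψ⟩ hne) _

/-- the conclusion of Winter's theorem -/
def WinterQ (p n : ℕ) : Prop := ∃ q : ℕ, IsPrimePow q ∧ q ∣ n ∧
  ((q : ℤ) ≡ -1 [ZMOD p] ∨ (q : ℤ) ≡ 0 [ZMOD p] ∨ (q : ℤ) ≡ 1 [ZMOD p])

theorem WinterQ.of_dvd {n m : ℕ} (h : WinterQ p n) (hd : n ∣ m) : WinterQ p m := by
  obtain ⟨q, h1, h2, h3⟩ := h
  exact ⟨q, h1, h2.trans hd, h3⟩

theorem normal_of_sup_of_commutator {A B N : Subgroup G} [A.Normal] (h : A ⊔ B = ⊤) (hB : B ≤ N)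
    (hA : ∀ a ∈ A, ∀ n ∈ N, ⁅a, n⁆ ∈ N) : N.Normal := by
  refine ⟨fun n hn g => ?_⟩
  have hg : g ∈ ((A ⊔ B : Subgroup G) : Set G) := by rw [h]; trivial
  rw [Subgroup.normal_mul] at hg
  obtain ⟨a, ha, b, hb, rfl⟩ := hg
  have h1 : b * n * b⁻¹ ∈ N := mul_mem (mul_mem (hB hb) hn) (inv_mem (hB hb))
  have e : a * b * n * (a * b)⁻¹ = ⁅a, b * n * b⁻¹⁆ * (b * n * b⁻¹) := by group
  simpa only [e] using mul_mem (hA a ha _ h1) h1

theorem winter_aux [hp : Fact p.Prime] (m : ℕ) : ∀ (G : Type u) [Group G] [Finite G]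
    [Group.IsSolvable G], Nat.card G = m → ∀ χ : G → ℂ, IsIrrCharacter G χ → charKer χ = ⊥ →
      ¬ PClosed p G → WinterQ p (charDegree χ) := by
  induction m using Nat.strong_induction_on with | _ m ih => ?_
  intro G _ _ _ hm χ hχ hk hG
  have := Fintype.ofFinite G
  have key : ∀ H : Subgroup G, H ≠ ⊤ → ¬ PClosed p H → ∀ [Fintype H], ∃ θ, IsIrrCharacter H θ ∧
      classInner (fun x : H => χ x) θ ≠ 0 ∧ WinterQ p (charDegree θ) := by
    intro H hH hc _
    obtain ⟨θ, hθ, hne, K, _, η, hη, hηk, hd, hq⟩ := exists_constituent_not_pClosed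
      (hχ.isCharacter.res H) (by rw [hχ.isCharacter.charKer_res, hk, Subgroup.bot_subgroupOf]) hc
    refine ⟨θ, hθ, hne, hd ▸ ih _ ?_ _ rfl η hη hηk hq⟩
    exact lt_of_le_of_lt (Nat.card_le_card_of_surjective _ (QuotientGroup.mk'_surjective K))
      (hm ▸ CL.card_lt_of_ne_top hH)
  by_contra hW
  have hN : ∀ N : Subgroup G, N.Normal → N ≠ ⊤ → PClosed p N := by
    intro N _ hN
    by_contra hc
    have := Fintype.ofFinite N
    obtain ⟨θ, hθ, hne, hq⟩ := key N hN hc
    exact hW (hq.of_dvd (degree_dvd_of_under hχ hθ hne hχ.apply_one_eq_charDegree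
      hθ.apply_one_eq_charDegree))
  have hirr : ∀ U : Subgroup G, U ≠ ⊤ → IsIrrCharacter U (fun x : U => χ x) → PClosed p U := by
    intro U hU hi
    by_contra hc
    have := Fintype.ofFinite U
    obtain ⟨θ, hθ, hne, hq⟩ := key U hU hc
    have e := hi.eq_of_inner_ne_zero hθ hne
    rw [← e, charDegree_res] at hq
    exact hW hq
  have hfull : ∀ N : Subgroup G, N.Normal → (∀ x, PElt p x → x ∈ N) → N = ⊤ := by
    intro N hn h
    by_contra hne
    exact hG (pClosed_of_subgroup (hN N hn hne) h)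
  have hfull' : ∀ N : Subgroup G, N.Normal → ¬ p ∣ N.index → N = ⊤ := fun N hn h =>
    hfull N hn fun x hx => hx.mem_of_pow_mem h (N.pow_index_mem x)
  have hpn : ¬ p ∣ charDegree χ := fun h =>
    hW ⟨p, hp.out.isPrimePow, h, Or.inr (Or.inl (Int.modEq_zero_iff_dvd.mpr dvd_rfl))⟩
  have hnt : Nontrivial G := by
    by_contra h
    rw [not_nontrivial_iff_subsingleton] at h
    exact hG (pClosed_of_comm fun a b => Subsingleton.elim _ _)
  obtain ⟨M, hMn, hMi⟩ := CL.exists_normal_index_prime G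
  have hMtop : M ≠ ⊤ := fun e => by
    rw [e, Subgroup.index_top] at hMi
    exact Nat.not_prime_one hMi
  have hMp : M.index = p := by
    by_contra hne
    exact hMtop (hfull' M hMn fun h => hne ((Nat.prime_dvd_prime_iff_eq hp.out hMi).mp h).symm)
  have hMco := CL.PG.isCoatom_of_index_eq_prime hp.out hMp
  obtain ⟨H, hH⟩ : ∃ H, H = pEltSub M (hN M hMn hMtop) := ⟨_, rfl⟩
  have hHmem : ∀ {x}, x ∈ H ↔ x ∈ M ∧ PElt p x := by intro x; rw [hH]; rfl
  have hHn : H.Normal := ⟨fun x hx g =>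
    hHmem.mpr ⟨hMn.conj_mem x (hHmem.mp hx).1 g, (hHmem.mp hx).2.conj g⟩⟩
  have hHM : H ≤ M := fun x hx => (hHmem.mp hx).1
  have hHp : IsPGroup p H := fun x => pElt_coe.mp (hHmem.mp x.2).2
  have hHi : ¬ p ∣ H.relIndex M := by
    obtain ⟨Q⟩ : Nonempty (Sylow p M) := inferInstance
    have : (Q : Subgroup M) ≤ H.subgroupOf M := fun x hx =>
      hHmem.mpr ⟨x.2, pElt_coe.mpr (pElt_of_mem Q.isPGroup' hx)⟩
    exact fun h => Q.not_dvd_index (h.trans (Subgroup.index_dvd_of_le this))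
  have hHlt : H < M := lt_of_le_of_ne hHM fun e => by
    have : ∀ g : G, PElt p g := fun g =>
      PElt.of_pow (k := 1) (hHmem.mp (by rw [e, pow_one, ← hMp]; exact M.pow_index_mem g)).2
    exact hG fun x y _ _ => this _
  obtain ⟨L, hLn, hHL, hLM, hch⟩ := CL.exists_chief_below hHlt
  have hab : ⁅M, M⁆ ≤ L := commutator_le_of_chief hLM hch inferInstance
  have hLi : ¬ p ∣ L.relIndex M := fun h => hHi (h.trans (Subgroup.relIndex_dvd_of_le_left M hHL))
  have hLi1 : L.relIndex M ≠ 1 := fun e => hLM.not_ge (Subgroup.relIndex_eq_one.mp e)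
  have hMP : ∀ P : Sylow p G, M ⊔ (P : Subgroup G) = ⊤ := fun P => by
    refine hMco.2 _ (lt_of_le_of_ne le_sup_left fun e => P.not_dvd_index ?_)
    exact hMp.symm.dvd.trans (Subgroup.index_dvd_of_le (le_sup_right.trans e.ge))
  have hLP : ∀ P : Sylow p G, L ⊔ (P : Subgroup G) ≠ ⊤ := fun P e => by
    have h1 : IsPGroup p (G ⧸ L) := by
      refine P.isPGroup'.of_surjective ((QuotientGroup.mk' L).comp (P : Subgroup G).subtype) ?_
      intro g
      obtain ⟨g, rfl⟩ := QuotientGroup.mk_surjective g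
      have hg : g ∈ ((L ⊔ P : Subgroup G) : Set G) := by rw [e]; trivial
      rw [Subgroup.normal_mul] at hg
      obtain ⟨a, ha, b, hb, rfl⟩ := hg
      exact ⟨⟨b, hb⟩, by simp [(QuotientGroup.eq_one_iff a).mpr ha]⟩
    obtain ⟨j, hj⟩ := h1.exists_card_eq
    rw [← Subgroup.index_eq_card] at hj
    obtain ⟨i, -, hi⟩ := (Nat.dvd_prime_pow hp.out).mp
      (hj ▸ Subgroup.relIndex_dvd_index_of_normal L M)
    rcases i with _ | i
    · exact hLi1 (by simpa using hi)
    · exact hLi (hi ▸ dvd_pow_self p (Nat.succ_ne_zero i))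
  have hfpf : ∀ g ∉ M, ∀ k ∈ M, ⁅g, k⁆ ∈ L → k ∈ L := by
    intro g hg k hkM hgk
    have hC : ∀ k ∈ M, k ∈ M ⊓ (Subgroup.center (G ⧸ L)).comap (QuotientGroup.mk' L) ↔
        ∀ w : G, ⁅w, k⁆ ∈ L := by
      intro k hk
      simp only [Subgroup.mem_inf, hk, true_and, Subgroup.mem_comap, Subgroup.mem_center_iff]
      constructor
      · intro h w
        rw [← QuotientGroup.eq_one_iff]
        exact commutatorElement_eq_one_iff_mul_comm.mpr (h w)
      · intro h w
        obtain ⟨w, rfl⟩ := QuotientGroup.mk_surjective w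
        exact commutatorElement_eq_one_iff_mul_comm.mp ((QuotientGroup.eq_one_iff _).mpr (h w))
    have hkC : ∀ w : G, ⁅w, k⁆ ∈ L := by
      have key : ∀ w : G, ⁅w, k⁆ ∈ L ↔ w ∈ (Subgroup.centralizer {(k : G ⧸ L)}).comap
          (QuotientGroup.mk' L) := by
        intro w
        rw [Subgroup.mem_comap, Subgroup.mem_centralizer_singleton_iff, ← QuotientGroup.eq_one_iff,
          ← commutatorElement_eq_one_iff_mul_comm]
        rfl
      have := hMco.2 ((Subgroup.centralizer {(k : G ⧸ L)}).comap (QuotientGroup.mk' L))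
        (lt_of_le_of_ne (fun w hw => (key w).mp (hab (Subgroup.commutator_mem_commutator hw hkM)))
          fun e => hg (e ▸ (key g).mp hgk))
      intro w
      rw [key, this]
      trivial
    rcases hch (M ⊓ (Subgroup.center (G ⧸ L)).comap (QuotientGroup.mk' L)) inferInstance
      (fun l hl => (hC l (hLM.le hl)).mpr fun w => by
        simpa [commutatorElement_def] using mul_mem (hLn.conj_mem l hl w) (inv_mem hl))
      inf_le_left with e | e
    · exact e.le ((hC k hkM).mpr hkC)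
    · exfalso
      obtain ⟨P⟩ : Nonempty (Sylow p G) := inferInstance
      refine hLP P (hfull' _ (normal_of_sup_of_commutator (hMP P) le_sup_right fun a ha n _ => ?_)
        fun h => P.not_dvd_index (h.trans (Subgroup.index_dvd_of_le le_sup_right)))
      rw [← commutatorElement_inv]
      exact inv_mem (Subgroup.mem_sup_left ((hC a ha).mp (e.ge ha) n))
  -- the chief factor has prime power order `≡ 1 mod p`
  have hcardV : Nat.card (M.map (QuotientGroup.mk' L)) = L.relIndex M := by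
    rw [← Subgroup.relIndex_ker, QuotientGroup.ker_mk']
  have hpp : IsPrimePow (L.relIndex M) := by
    obtain ⟨r, hr, hr'⟩ := (CL.isMinNormal_map_mk'_of_chief hLM hch).exists_isPGroup_of_isSolvable
      inferInstance
    have : Fact r.Prime := ⟨hr⟩
    obtain ⟨k, hk⟩ := hr'.exists_card_eq
    rw [hcardV] at hk
    refine ⟨r, k, hr.prime, Nat.pos_of_ne_zero ?_, hk.symm⟩
    rintro rfl
    exact hLi1 (by simpa using hk)
  have hdvd : p ∣ L.relIndex M - 1 := by
    have : (M.map (QuotientGroup.mk' L)).Normal :=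
      hMn.map _ (QuotientGroup.mk'_surjective L)
    have h := index_dvd_card_sub_one_of_fpf (V := M.map (QuotientGroup.mk' L)) ?_ ?_
    · rwa [hcardV, Subgroup.index_map_eq _ (QuotientGroup.mk'_surjective L)
        (by rw [QuotientGroup.ker_mk']; exact hLM.le), hMp] at h
    · rintro g hg _ ⟨k, hk, rfl⟩ e
      obtain ⟨g, rfl⟩ := QuotientGroup.mk_surjective g
      refine (QuotientGroup.eq_one_iff _).mpr (hfpf g (fun h => hg ⟨g, h, rfl⟩) k hk ?_)
      rw [← QuotientGroup.eq_one_iff]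
      exact commutatorElement_eq_one_iff_mul_comm.mpr e
    · rintro _ ⟨a, ha, rfl⟩ _ ⟨b, hb, rfl⟩
      exact commutatorElement_eq_one_iff_mul_comm.mp ((QuotientGroup.eq_one_iff _).mpr
        (hab (Subgroup.commutator_mem_commutator ha hb)))
  have hpos : 1 ≤ L.relIndex M := hpp.pos
  have hmod : (L.relIndex M : ℤ) ≡ 1 [ZMOD p] := by
    have : ((L.relIndex M - 1 : ℕ) : ℤ) = L.relIndex M - 1 := by push_cast [hpos]; ring
    exact (Int.modEq_iff_dvd.mpr (this ▸ Int.natCast_dvd_natCast.mpr hdvd)).symm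
  have := Fintype.ofFinite M
  have := Fintype.ofFinite L
  have hϑ : IsIrrCharacter M fun x : M => χ x := res_irr_of_coprime_index hχ
    hχ.apply_one_eq_charDegree (hMp ▸ ((Nat.Prime.coprime_iff_not_dvd hp.out).mpr hpn).symm)
  obtain ⟨φ, hφ, hne⟩ := hϑ.exists_under_le hLM.le
  rcases going_down' hLM.le hch hab hϑ (inertia_res_eq_top hχ.isClassFunction) hφ hne with
    h | ⟨e, he, he2⟩ | ⟨-, h⟩
  rotate_left
  · have h1 : charDegree χ = e * charDegree φ := by
      have := congrFun he 1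
      simp only [OneMemClass.coe_one, Pi.smul_apply, smul_eq_mul] at this
      rw [hχ.apply_one_eq_charDegree, hφ.apply_one_eq_charDegree] at this
      exact_mod_cast this
    refine hW ⟨e, hpp.dvd (he2 ▸ dvd_pow_self e two_ne_zero) (fun h => hLi1 (by
      rw [← he2, h, one_pow])), ⟨_, h1⟩, ?_⟩
    rw [← he2] at hmod
    have h2 : (p : ℤ) ∣ (e + 1) * (e - 1) := by
      have := hmod.symm.dvd
      push_cast at this
      convert this using 1
      ring
    rcases (Nat.prime_iff_prime_int.mp hp.out).dvd_or_dvd h2 with h | h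
    · exact Or.inl (Int.modEq_iff_dvd.mpr (by simpa using h)).symm
    · exact Or.inr (Or.inr (Int.modEq_iff_dvd.mpr h).symm)
  · have h1 := charDegree_indFun (L.subgroupOf M) (hφ.subOf hLM.le).isCharacter
    rw [h, charDegree_res] at h1
    exact hW ⟨_, hpp, ⟨_, h1⟩, Or.inr (Or.inr hmod)⟩
  -- the restriction to `L` is irreducible
  have hL : IsIrrCharacter L fun x : L => χ x := h ▸ hφ
  have hLH : ∀ g : G, ∀ l ∈ L, ⁅g, l⁆ ∈ H := by
    have : (L.map (QuotientGroup.mk' H)).Normal := hLn.map _ (QuotientGroup.mk'_surjective H)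
    have key : ∀ w : G, (∀ l ∈ L, ⁅w, l⁆ ∈ H) ↔ w ∈ (Subgroup.centralizer
        (L.map (QuotientGroup.mk' H) : Set (G ⧸ H))).comap (QuotientGroup.mk' H) := by
      intro w
      rw [Subgroup.mem_comap, Subgroup.mem_centralizer_iff]
      constructor
      · rintro h _ ⟨l, hl, rfl⟩
        exact (commutatorElement_eq_one_iff_mul_comm.mp
          ((QuotientGroup.eq_one_iff _).mpr (h l hl))).symm
      · intro h l hl
        rw [← QuotientGroup.eq_one_iff]
        exact commutatorElement_eq_one_iff_mul_comm.mpr (h _ ⟨l, hl, rfl⟩).symm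
    have := hfull _ inferInstance fun x hx => (key x).mp fun l hl => by
      obtain ⟨P, hP⟩ := hx.exists_sylow
      have hU : PClosed p (L ⊔ P : Subgroup G) := hirr _ (hLP P)
        ((hχ.isCharacter.res _).irr_of_comp (Subgroup.inclusion le_sup_left) hL)
      have hx' : x ∈ L ⊔ (P : Subgroup G) := Subgroup.mem_sup_right hP
      have hl' : l ∈ L ⊔ (P : Subgroup G) := Subgroup.mem_sup_left hl
      have h1 := pElt_coe.mpr (hU ⟨x, hx'⟩ ⟨l * x⁻¹ * l⁻¹, mul_mem (mul_mem hl' (inv_mem hx'))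
        (inv_mem hl')⟩ (pElt_coe.mp hx) (pElt_coe.mp (hx.inv.conj l)))
      refine hHmem.mpr ⟨hLM.le ?_, by simpa [commutatorElement_def, mul_assoc] using h1⟩
      simpa [commutatorElement_def] using mul_mem (hLn.conj_mem l hl x) (inv_mem hl)
    intro g
    rw [key, this]
    trivial
  have := Fintype.ofFinite H
  obtain ⟨lam, hlam, hne'⟩ := hχ.exists_under_res H
  have hl1 : charDegree lam = 1 := by
    obtain ⟨j, hj⟩ := hHp.exists_card_eq
    obtain ⟨i, -, hi⟩ := (Nat.dvd_prime_pow hp.out).mp (hj ▸ hlam.charDegree_dvd_card)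
    rcases i with _ | i
    · simpa using hi
    · exact absurd ((hi ▸ dvd_pow_self p (Nat.succ_ne_zero i)).trans (degree_dvd_of_under hχ hlam
        hne' hχ.apply_one_eq_charDegree hlam.apply_one_eq_charDegree)) hpn
  obtain ⟨e, he⟩ := (hχ.isCharacter.res H).exists_nat_inner hlam.isCharacter
  have hT : inertia H lam = ⊤ := by
    have hLT : L ⊔ inertia H lam = ⊤ := by
      rw [eq_top_iff]
      intro g _
      obtain ⟨t, ht, ht'⟩ := exists_conjN_of_under_le hHL hL hlam (hlam.conjN g) hne'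
        (by rw [classInner_res_conjN hχ.isClassFunction]; exact hne')
      have : g * t⁻¹ ∈ inertia H lam := conjN_eq_conjN_iff.mp ht'.symm
      simpa using mul_mem (Subgroup.mem_sup_right this) (Subgroup.mem_sup_left ht)
    refine hfull' _ (normal_of_sup_of_commutator hLT le_rfl fun a ha n _ => ?_) fun h => hpn ?_
    · rw [← commutatorElement_inv]
      exact inv_mem (le_inertia hlam.isClassFunction (hLH n a ha))
    · have := clifford_degree hχ hlam hne'
      rw [he, hχ.apply_one_eq_charDegree, hlam.apply_one_eq_charDegree] at this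
      have h2 : charDegree χ = e * (inertia H lam).index * charDegree lam := by exact_mod_cast this
      rw [h2]
      exact (h.mul_left e).mul_right _
  have hHZ : H ≤ Subgroup.center G := by
    rw [← hχ.charCenter_eq_center hk]
    intro x hx
    have h1 := clifford_of_invariant hχ hlam hT hne'
    have l1 := hlam.isCharacter.charDegree_eq_one_iff.mp hl1
    rw [hχ.isCharacter.mem_charCenter']
    have e1 := congrFun h1 ⟨x, hx⟩
    have e2 := congrFun h1 1
    simp only [Pi.smul_apply, smul_eq_mul, OneMemClass.coe_one] at e1 e2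
    rw [e1, e2, norm_mul, norm_mul, hlam.isCharacter.norm_eq_one_of_apply_one l1,
      hlam.isCharacter.norm_eq_one_of_apply_one l1]
  have hLZ : L ≤ Subgroup.center G := by
    intro l hl
    rw [Subgroup.mem_center_iff]
    intro g
    have h1 : ⁅l, g⁆ ∈ H := by rw [← commutatorElement_inv]; exact inv_mem (hLH g l hl)
    have h2 := comm_pow_left_of_commute (Subgroup.mem_center_iff.mp (hHZ h1) l).symm
      (H.relIndex M)
    have h3 : l ^ H.relIndex M ∈ H := H.pow_relIndex_mem (hLM.le hl)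
    rw [commutatorElement_eq_one_iff_mul_comm.mpr (Subgroup.mem_center_iff.mp (hHZ h3) g).symm]
      at h2
    have h4 : ⁅l, g⁆ ∈ (⊥ : Subgroup G) := (hHmem.mp h1).2.mem_of_pow_mem hHi (by rw [← h2]; simp)
    exact (commutatorElement_eq_one_iff_mul_comm.mp h4).symm
  have h1 := one_eq_one_of_le_charCenter_of_res_irr hχ.isCharacter
    (hLZ.trans hχ.center_le_charCenter) hL
  have h2 := hχ.commutator_le_charKer_iff.mpr h1
  rw [hk] at h2
  exact hG (pClosed_of_comm fun a b => commutatorElement_eq_one_iff_mul_comm.mp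
    (h2 (Subgroup.commutator_mem_commutator trivial trivial)))

theorem winter [Finite G] [Group.IsSolvable G] [Fact p.Prime] {χ : G → ℂ}
    (hχ : IsIrrCharacter G χ) (hk : charKer χ = ⊥) (h : ¬ PClosed p G) :
    WinterQ p (charDegree χ) :=
  winter_aux _ G rfl χ hχ hk h

theorem exists_solvable_not_pClosed [Finite G] [hp : Fact p.Prime] (hs : IsPSolvable p G)
    (h : ¬ PClosed p G) : ∃ U : Subgroup G, Group.IsSolvable U ∧ ¬ PClosed p U := by
  obtain ⟨π, hπ⟩ : ∃ π : G →* G ⧸ pCore p G, π = QuotientGroup.mk' _ := ⟨_, rfl⟩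
  have hsurj : Function.Surjective π := hπ ▸ QuotientGroup.mk'_surjective _
  have hker : π.ker = pCore p G := by rw [hπ, QuotientGroup.ker_mk']
  have hO := CL.isPGroup_pCore p G
  have hlift : ∀ x, PElt p (π x) → PElt p x := by
    rintro x ⟨k, hk⟩
    rw [← map_pow, ← MonoidHom.mem_ker, hker] at hk
    exact (pElt_of_mem hO hk).of_pow
  have hC := CL.IsPSolvable.centralizer_pPrimeCore_le (CL.IsPSolvable.quotient hs (pCore p G))
    (CL.pCore_quotient_pCore p G)
  have hK := CL.coprime_card_pPrimeCore p (G ⧸ pCore p G)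
  obtain ⟨K, hKe⟩ : ∃ K, K = pPrimeCore p (G ⧸ pCore p G) := ⟨_, rfl⟩
  rw [← hKe] at hC hK
  have hKn : K.Normal := hKe ▸ inferInstance
  have hbot : ∀ x ∈ K, PElt p x → x = 1 := fun x hx hx' =>
    hx'.mem_of_pow_mem (N := ⊥) ((Nat.Prime.coprime_iff_not_dvd hp.out).mp hK.symm)
      (congrArg Subtype.val (pow_card_eq_one' (x := (⟨x, hx⟩ : K))))
  obtain ⟨P⟩ : Nonempty (Sylow p (G ⧸ pCore p G)) := inferInstance
  have hne : ¬ K ≤ Subgroup.centralizer ((P : Subgroup (G ⧸ pCore p G)) : Set _) := by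
    intro hle
    have hP : (P : Subgroup (G ⧸ pCore p G)) = ⊥ := by
      rw [eq_bot_iff]
      intro x hx
      exact hbot x (hC (Subgroup.le_centralizer_iff.mp hle hx)) (pElt_of_mem P.isPGroup' hx)
    have hcl : PClosed p (G ⧸ pCore p G) := (pClosed_iff_normal P).mpr (hP ▸ inferInstance)
    exact h fun x y hx hy => hlift _ (by rw [map_mul]; exact hcl _ _ (hx.map π) (hy.map π))
  have hcop : (Nat.card (P : Subgroup (G ⧸ pCore p G))).Coprime (Nat.card K) := by
    obtain ⟨k, hk⟩ := P.isPGroup'.exists_card_eq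
    rw [hk]
    exact hK.symm.pow_left k
  have hPs : Group.IsSolvable (P : Subgroup (G ⧸ pCore p G)) := by
    have := P.isPGroup'.isNilpotent
    infer_instance
  obtain ⟨q, hq, Q, hQn, hQc⟩ : ∃ (q : ℕ) (_ : Fact q.Prime) (Q : Sylow q K),
      (P : Subgroup (G ⧸ pCore p G)) ≤ Subgroup.normalizer
        ((Q : Subgroup K).map K.subtype : Set (G ⧸ pCore p G)) ∧
      ¬ (Q : Subgroup K).map K.subtype ≤
        Subgroup.centralizer ((P : Subgroup (G ⧸ pCore p G)) : Set _) := by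
    by_contra hcon
    push Not at hcon
    refine hne (CL.le_of_exists_sylow_le fun q hq => ?_)
    obtain ⟨Q, hQ⟩ := CL.coprime_exists_invariant_sylow P K Subgroup.le_normalizer_of_normal hcop
      (Or.inl hPs) q
    exact ⟨Q, hcon q hq Q hQ⟩
  obtain ⟨R, hR⟩ : ∃ R, R = (Q : Subgroup K).map K.subtype := ⟨_, rfl⟩
  rw [← hR] at hQn hQc
  have hRK : R ≤ K := hR ▸ Subgroup.map_subtype_le _
  have hRs : Group.IsSolvable R := by
    have : IsPGroup q R := hR ▸ Q.isPGroup'.map _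
    have := this.isNilpotent
    infer_instance
  refine ⟨((P : Subgroup (G ⧸ pCore p G)) ⊔ R).comap π, CL.isSolvable_comap π _
    (CL.isSolvable_sup_of_le_normalizer hQn hPs hRs) ?_, fun hcl => hQc fun y hy => ?_⟩
  · rw [hker]
    have := hO.isNilpotent
    infer_instance
  rw [Subgroup.mem_centralizer_iff]
  intro x hx
  obtain ⟨x, rfl⟩ := hsurj x
  obtain ⟨y, rfl⟩ := hsurj y
  have hx' : PElt p x := hlift x (pElt_of_mem P.isPGroup' hx)
  have m1 : x ∈ ((P : Subgroup (G ⧸ pCore p G)) ⊔ R).comap π := Subgroup.mem_sup_left hx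
  have m2 : y ∈ ((P : Subgroup (G ⧸ pCore p G)) ⊔ R).comap π := Subgroup.mem_sup_right hy
  have h1 := (pElt_coe.mpr (hcl ⟨x, m1⟩ ⟨y * x⁻¹ * y⁻¹, mul_mem (mul_mem m2 (inv_mem m1))
    (inv_mem m2)⟩ (pElt_coe.mp hx') (pElt_coe.mp (hx'.inv.conj y)))).map π
  have h2 : π x * π y * (π x)⁻¹ * (π y)⁻¹ ∈ K :=
    mul_mem (hKn.conj_mem _ (hRK hy) _) (inv_mem (hRK hy))
  have := hbot _ h2 (by simpa [mul_assoc] using h1)
  rwa [mul_inv_eq_one, mul_inv_eq_iff_eq_mul] at this

theorem winter_small [Finite G] [hp : Fact p.Prime] (hs : IsPSolvable p G) {χ : G → ℂ}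
    (hχ : IsCharacter G χ) (hk : charKer χ = ⊥) (hn : charDegree χ + 1 ≤ p) (h : ¬ PClosed p G) :
    charDegree χ + 1 = p ∧ (∃ k, charDegree χ = 2 ^ k) ∧ IsIrrCharacter G χ := by
  obtain ⟨U, hU, hUc⟩ := exists_solvable_not_pClosed hs h
  have := Fintype.ofFinite U
  obtain ⟨θ, hθ, hne, K, _, η, hη, hηk, hd, hq⟩ := exists_constituent_not_pClosed
    (hχ.res U) (by rw [hχ.charKer_res, hk, Subgroup.bot_subgroupOf]) hUc
  obtain ⟨q, hq1, hq2, hq3⟩ := winter hη hηk hq
  rw [hd] at hq2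
  have h1 := Nat.le_of_dvd hθ.charDegree_pos hq2
  have h2 := (hχ.res U).charDegree_le_of_inner_ne_zero hθ hne
  rw [charDegree_res] at h2
  have h3 := hq1.two_le
  have h4 : q + 1 = p := by
    rcases hq3 with h | h | h
    · have : p ∣ q + 1 := by
        have := h.symm.dvd
        rw [sub_neg_eq_add] at this
        exact_mod_cast this
      have := Nat.le_of_dvd (by omega) this
      omega
    · have : p ∣ q := by exact_mod_cast Int.modEq_zero_iff_dvd.mp h
      have := Nat.le_of_dvd (by omega) this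
      omega
    · have : p ∣ q - 1 := by
        have h5 := h.symm.dvd
        have : ((q - 1 : ℕ) : ℤ) = q - 1 := by push_cast [show 1 ≤ q by omega]; ring
        rw [← this] at h5
        exact_mod_cast h5
      have := Nat.le_of_dvd (by omega) this
      omega
  refine ⟨by omega, ?_, hχ.irr_of_res U ?_⟩
  · have e : charDegree χ = q := by omega
    obtain ⟨r, k, hr, hk, rfl⟩ := (isPrimePow_nat_iff q).mp hq1
    have h2 : 2 ∣ r ^ k := by
      have := hp.out.eq_two_or_odd
      omega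
    rw [e, (Nat.prime_dvd_prime_iff_eq Nat.prime_two hr).mp (Nat.prime_two.dvd_of_dvd_pow h2)]
    exact ⟨k, rfl⟩
  · rw [(hχ.res U).eq_of_inner_ne_zero_of_degree hθ hne ?_]
    · exact hθ
    · simp only [OneMemClass.coe_one]
      rw [hχ.apply_one_eq_charDegree, hθ.apply_one_eq_charDegree,
        show charDegree χ = charDegree θ by omega]

end CL.Ord
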